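import Mathlib

/-!
# Central extensions by `ℤ/p` from a fusion-stable form on an abelian Sylow subgroup

* `Tw hβ`: the group `G × A` with the multiplication twisted by a normalized `2`-cocycle `β`.
* `exists_ce`: for `P ≤ G` abelian, elements of `P` conjugate in `G` being equal or inverse (with a
  uniform sign), and `f₁, f₂` additive on `P`, there is a central extension of `G` by `ℤ/p` in which
  the commutator of lifts of `x, y ∈ P` is `ι (N (f₁ x f₂ y - f₂ x f₁ y))` with `N = |G : P|`.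
  The cocycle is the corestriction of `f₁ ⊗ f₂`, written out with a transversal.
-/

set_option autoImplicit false

namespace Cfsg.Agent.Lib.Transfer.AbTwo

section Twist

universe u v

variable {G : Type u} [Group G] {A : Type v} [AddCommGroup A]

/-- Normalized `2`-cocycles. -/
structure IsCoc (β : G → G → A) : Prop where
  one_left : ∀ h, β 1 h = 0
  one_right : ∀ g, β g 1 = 0
  coc : ∀ g h k, β g h + β (g * h) k = β g (h * k) + β h k

/-- The extension defined by a cocycle. -/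
def Tw {β : G → G → A} (_ : IsCoc β) : Type (max u v) := G × A

variable {β : G → G → A} (hβ : IsCoc β)

instance : Mul (Tw hβ) := ⟨fun a b => ((a.1 * b.1 : G), (a.2 + b.2 + β a.1 b.1 : A))⟩
instance : One (Tw hβ) := ⟨((1 : G), (0 : A))⟩
instance : Inv (Tw hβ) := ⟨fun a => ((a.1⁻¹ : G), (-a.2 - β a.1⁻¹ a.1 : A))⟩

variable {hβ}

theorem Tw.mul_def (a b : Tw hβ) : a * b = ((a.1 * b.1 : G), (a.2 + b.2 + β a.1 b.1 : A)) := rfl
theorem Tw.one_def : (1 : Tw hβ) = ((1 : G), (0 : A)) := rfl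
theorem Tw.inv_def (a : Tw hβ) : a⁻¹ = ((a.1⁻¹ : G), (-a.2 - β a.1⁻¹ a.1 : A)) := rfl

variable (hβ)

instance : Group (Tw hβ) :=
  Group.ofLeftAxioms
    (by
      intro a b c
      apply Prod.ext
      · exact mul_assoc a.1 b.1 c.1
      · show a.2 + b.2 + β a.1 b.1 + c.2 + β (a.1 * b.1) c.1 =
          a.2 + (b.2 + c.2 + β b.1 c.1) + β a.1 (b.1 * c.1)
        have := hβ.coc a.1 b.1 c.1
        calc a.2 + b.2 + β a.1 b.1 + c.2 + β (a.1 * b.1) c.1
            = a.2 + b.2 + c.2 + (β a.1 b.1 + β (a.1 * b.1) c.1) := by abel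
          _ = a.2 + b.2 + c.2 + (β a.1 (b.1 * c.1) + β b.1 c.1) := by rw [this]
          _ = _ := by abel)
    (by
      intro a
      apply Prod.ext
      · exact one_mul a.1
      · show (0 : A) + a.2 + β 1 a.1 = a.2
        rw [hβ.one_left]
        abel)
    (by
      intro a
      apply Prod.ext
      · exact inv_mul_cancel a.1
      · show -a.2 - β a.1⁻¹ a.1 + a.2 + β a.1⁻¹ a.1 = (0 : A)
        abel)

/-- The projection. -/
def Tw.pr : Tw hβ →* G where
  toFun a := a.1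
  map_one' := rfl
  map_mul' _ _ := rfl

/-- The central inclusion. -/
def Tw.inc : Multiplicative A →* Tw hβ where
  toFun a := ((1 : G), (Multiplicative.toAdd a : A))
  map_one' := rfl
  map_mul' a b := by
    apply Prod.ext
    · exact (one_mul (1 : G)).symm
    · show Multiplicative.toAdd a + Multiplicative.toAdd b =
        Multiplicative.toAdd a + Multiplicative.toAdd b + β 1 1
      rw [hβ.one_left]
      abel

theorem Tw.pr_surjective : Function.Surjective (Tw.pr hβ) := fun g => ⟨(g, 0), rfl⟩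

theorem Tw.inc_injective : Function.Injective (Tw.inc hβ) := by
  intro a b h
  exact congrArg (fun x : Tw hβ => (Multiplicative.ofAdd x.2 : Multiplicative A)) h

theorem Tw.pr_eq_one_iff (w : Tw hβ) : Tw.pr hβ w = 1 ↔ ∃ a, Tw.inc hβ a = w := by
  constructor
  · intro h
    refine ⟨Multiplicative.ofAdd w.2, ?_⟩
    apply Prod.ext
    · exact h.symm
    · rfl
  · rintro ⟨a, rfl⟩
    rfl

theorem Tw.inc_central (a : Multiplicative A) (w : Tw hβ) : Tw.inc hβ a * w = w * Tw.inc hβ a := by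
  apply Prod.ext
  · show (1 : G) * w.1 = w.1 * 1
    simp
  · show Multiplicative.toAdd a + w.2 + β 1 w.1 = w.2 + Multiplicative.toAdd a + β w.1 1
    rw [hβ.one_left, hβ.one_right]
    abel

/-- The commutator of lifts of commuting elements. -/
theorem Tw.comm_eq (v v' : Tw hβ) (h : v.1 * v'.1 = v'.1 * v.1) :
    v * v' * v⁻¹ * v'⁻¹ = Tw.inc hβ (Multiplicative.ofAdd (β v.1 v'.1 - β v'.1 v.1)) := by
  have h1 : v * v' = Tw.inc hβ (Multiplicative.ofAdd (β v.1 v'.1 - β v'.1 v.1)) * (v' * v) := by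
    apply Prod.ext
    · show v.1 * v'.1 = 1 * (v'.1 * v.1)
      rw [one_mul, h]
    · show v.2 + v'.2 + β v.1 v'.1 = (β v.1 v'.1 - β v'.1 v.1) + (v'.2 + v.2 + β v'.1 v.1) + β 1 (v'.1 * v.1)
      rw [hβ.one_left]
      abel
  rw [h1]
  group

instance [Finite G] [Finite A] : Finite (Tw hβ) := inferInstanceAs (Finite (G × A))

theorem Tw.card [Finite G] [Finite A] : Nat.card (Tw hβ) = Nat.card G * Nat.card A :=
  Nat.card_prod G A

end Twist

section Telescope

variable {C R : Type*} [Fintype C] [CommRing R]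

theorem sum_telescope (σ : Equiv.Perm C) (h : C → R) : ∑ c, (h (σ c) - h c) = 0 := by
  rw [Finset.sum_sub_distrib, Equiv.sum_comp σ h, sub_self]

/-- The identity behind the commutator formula. -/
theorem sum_comm_identity (a b : Equiv.Perm C) (hab : ∀ c, a (b c) = b (a c)) (s φ₁ φ₂ : C → R)
    (hsa : ∀ c, s (a c) = s c) (hsb : ∀ c, s (b c) = s c) (hs2 : ∀ c, s c * s c = 1) (X₁ X₂ Y₁ Y₂ : R) :
    ∑ c, ((s c * X₁ + φ₁ (b c) - φ₁ (a (b c))) * (s c * Y₂ + φ₂ c - φ₂ (b c)) -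
        (s c * Y₁ + φ₁ (a c) - φ₁ (a (b c))) * (s c * X₂ + φ₂ c - φ₂ (a c))) =
      (Fintype.card C : R) * (X₁ * Y₂ - Y₁ * X₂) := by
  have hpt : ∀ c, ((s c * X₁ + φ₁ (b c) - φ₁ (a (b c))) * (s c * Y₂ + φ₂ c - φ₂ (b c)) -
        (s c * Y₁ + φ₁ (a c) - φ₁ (a (b c))) * (s c * X₂ + φ₂ c - φ₂ (a c))) =
      (X₁ * Y₂ - Y₁ * X₂)
      - X₁ * ((fun c => s c * φ₂ c) (b c) - (fun c => s c * φ₂ c) c)
      - Y₂ * ((fun c => s c * φ₁ c) (a (b c)) - (fun c => s c * φ₁ c) (b c))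
      + Y₁ * ((fun c => s c * φ₂ c) (a c) - (fun c => s c * φ₂ c) c)
      + X₂ * ((fun c => s c * φ₁ c) (b (a c)) - (fun c => s c * φ₁ c) (a c))
      - ((fun c => φ₁ (b c) * φ₂ c) (a c) - (fun c => φ₁ (b c) * φ₂ c) c)
      + ((fun c => φ₁ (a c) * φ₂ c) (b c) - (fun c => φ₁ (a c) * φ₂ c) c)
      + (((fun c => φ₁ c * φ₂ c) (a c) - (fun c => φ₁ c * φ₂ c) c) -
          ((fun c => φ₁ c * φ₂ c) (b c) - (fun c => φ₁ c * φ₂ c) c)) := by
    intro c
    have h1 : s (b c) = s c := hsb c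
    have h2 : s (a c) = s c := hsa c
    have h3 : s (a (b c)) = s c := by rw [hsa, hsb]
    have h4 : s (b (a c)) = s c := by rw [hsb, hsa]
    have h5 : φ₁ (b (a c)) = φ₁ (a (b c)) := by rw [hab]
    simp only [h1, h2, h3, h4, h5]
    linear_combination (X₁ * Y₂ - Y₁ * X₂) * hs2 c
  rw [Finset.sum_congr rfl fun c _ => hpt c]
  simp only [Finset.sum_add_distrib, Finset.sum_sub_distrib, ← Finset.mul_sum]
  have e1 := sum_telescope b (fun c => s c * φ₂ c)
  have e2 : ∑ c, ((fun c => s c * φ₁ c) (a (b c)) - (fun c => s c * φ₁ c) (b c)) = 0 :=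
    Equiv.sum_comp b (fun c => (fun c => s c * φ₁ c) (a c) - (fun c => s c * φ₁ c) c) |>.trans
      (sum_telescope a (fun c => s c * φ₁ c))
  have e3 := sum_telescope a (fun c => s c * φ₂ c)
  have e4 : ∑ c, ((fun c => s c * φ₁ c) (b (a c)) - (fun c => s c * φ₁ c) (a c)) = 0 :=
    Equiv.sum_comp a (fun c => (fun c => s c * φ₁ c) (b c) - (fun c => s c * φ₁ c) c) |>.trans
      (sum_telescope b (fun c => s c * φ₁ c))
  have e5 := sum_telescope a (fun c => φ₁ (b c) * φ₂ c)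
  have e6 := sum_telescope b (fun c => φ₁ (a c) * φ₂ c)
  have e7 := sum_telescope a (fun c => φ₁ c * φ₂ c)
  have e8 := sum_telescope b (fun c => φ₁ c * φ₂ c)
  simp only [Finset.sum_sub_distrib] at e1 e2 e3 e4 e5 e6 e7 e8
  simp only [Finset.sum_const, Finset.card_univ, nsmul_eq_mul]
  linear_combination (-X₁) * e1 - Y₂ * e2 + Y₁ * e3 + X₂ * e4 - e5 + e6 + e7 - e8

end Telescope

section Coc

universe u

variable {G : Type u} [Group G] (P : Subgroup G) {p : ℕ}

/-- A pair of functions additive on `P`, jointly surjective onto `(ℤ/p)²`. -/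
structure Form (P : Subgroup G) (p : ℕ) where
  f₁ : G → ZMod p
  f₂ : G → ZMod p
  add₁ : ∀ x ∈ P, ∀ y ∈ P, f₁ (x * y) = f₁ x + f₁ y
  add₂ : ∀ x ∈ P, ∀ y ∈ P, f₂ (x * y) = f₂ x + f₂ y
  surj : ∀ a b : ZMod p, ∃ x ∈ P, f₁ x = a ∧ f₂ x = b

/-- Additive on `P`. -/
def AddOn (f : G → ZMod p) : Prop := ∀ x ∈ P, ∀ y ∈ P, f (x * y) = f x + f y

variable {P}

theorem AddOn.one {f : G → ZMod p} (hf : AddOn P f) : f 1 = 0 := by
  have := hf 1 P.one_mem 1 P.one_mem
  rw [mul_one] at this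
  exact left_eq_add.1 this

theorem AddOn.inv {f : G → ZMod p} (hf : AddOn P f) {x : G} (hx : x ∈ P) : f x⁻¹ = - f x := by
  have := hf x hx x⁻¹ (P.inv_mem hx)
  rw [mul_inv_cancel, hf.one] at this
  exact (neg_eq_of_add_eq_zero_right this.symm).symm

variable (P)

/-- The transfer cocycle. -/
noncomputable def tv (g : G) (c : G ⧸ P) : G := (g • c).out⁻¹ * g * c.out

theorem tv_mem (g : G) (c : G ⧸ P) : tv P g c ∈ P := by
  have h1 : (((g • c).out : G) : G ⧸ P) = ((g * c.out : G) : G ⧸ P) := by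
    rw [QuotientGroup.out_eq']
    conv_lhs => rw [← QuotientGroup.out_eq' c]
    rfl
  have := QuotientGroup.eq.1 h1
  unfold tv
  rwa [mul_assoc]

theorem tv_mul (g h : G) (c : G ⧸ P) : tv P (g * h) c = tv P g (h • c) * tv P h c := by
  unfold tv
  rw [mul_smul]
  group

theorem tv_one (c : G ⧸ P) : tv P 1 c = 1 := by
  unfold tv
  rw [one_smul]
  group

/-- The cocycle. -/
noncomputable def bet [Fintype (G ⧸ P)] (f₁ f₂ : G → ZMod p) (g h : G) : ZMod p :=
  ∑ c : G ⧸ P, f₁ (tv P g (h • c)) * f₂ (tv P h c)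

theorem isCoc_bet [Fintype (G ⧸ P)] {f₁ f₂ : G → ZMod p} (h₁ : AddOn P f₁) (h₂ : AddOn P f₂) :
    IsCoc (bet P f₁ f₂) where
  one_left h := by
    unfold bet
    refine Finset.sum_eq_zero fun c _ => ?_
    rw [tv_one, h₁.one, zero_mul]
  one_right g := by
    unfold bet
    refine Finset.sum_eq_zero fun c _ => ?_
    rw [tv_one, h₂.one, mul_zero]
  coc g h k := by
    unfold bet
    have e1 : ∀ c : G ⧸ P, f₁ (tv P (g * h) (k • c)) =
        f₁ (tv P g ((h * k) • c)) + f₁ (tv P h (k • c)) := by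
      intro c
      rw [tv_mul, h₁ _ (tv_mem P _ _) _ (tv_mem P _ _), mul_smul]
    have e2 : ∀ c : G ⧸ P, f₂ (tv P (h * k) c) = f₂ (tv P h (k • c)) + f₂ (tv P k c) := by
      intro c
      rw [tv_mul, h₂ _ (tv_mem P _ _) _ (tv_mem P _ _)]
    simp only [e1, e2, add_mul, mul_add, Finset.sum_add_distrib]
    have e3 : ∑ c : G ⧸ P, f₁ (tv P g ((h * k) • c)) * f₂ (tv P h (k • c)) =
        ∑ c : G ⧸ P, f₁ (tv P g (h • c)) * f₂ (tv P h c) := by
      refine Eq.trans ?_ (Equiv.sum_comp (MulAction.toPerm k : Equiv.Perm (G ⧸ P))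
        (fun c => f₁ (tv P g (h • c)) * f₂ (tv P h c)))
      refine Finset.sum_congr rfl fun c _ => ?_
      simp only [MulAction.toPerm_apply, mul_smul]
    rw [e3]
    abel

variable {P}

/-- Sign of the conjugation by `g` on `P ∩ gPg⁻¹`. -/
theorem exists_sign (hcomm : ∀ x ∈ P, ∀ y ∈ P, x * y = y * x) (hodd : ∀ x ∈ P, x * x = 1 → x = 1)
    (hF : ∀ g a : G, a ∈ P → g⁻¹ * a * g ∈ P → g⁻¹ * a * g = a ∨ g⁻¹ * a * g = a⁻¹) (g : G) :
    ∃ s : ZMod p, s * s = 1 ∧ ∀ f : G → ZMod p, AddOn P f → ∀ a ∈ P, g⁻¹ * a * g ∈ P →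
      f (g⁻¹ * a * g) = s * f a := by
  by_cases h : ∃ a₁ ∈ P, g⁻¹ * a₁ * g = a₁⁻¹ ∧ a₁ ≠ 1
  · obtain ⟨a₁, ha₁, e₁, hne⟩ := h
    refine ⟨-1, by ring, fun f hf a ha hag => ?_⟩
    have key : g⁻¹ * a * g = a⁻¹ := by
      rcases hF g a ha hag with e | e
      · have hmem : g⁻¹ * (a₁ * a) * g = a₁⁻¹ * a := by
          have : g⁻¹ * (a₁ * a) * g = (g⁻¹ * a₁ * g) * (g⁻¹ * a * g) := by group
          rw [this, e₁, e]
        have hmemP : g⁻¹ * (a₁ * a) * g ∈ P := by
          rw [hmem]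
          exact P.mul_mem (P.inv_mem ha₁) ha
        rcases hF g (a₁ * a) (P.mul_mem ha₁ ha) hmemP with e' | e'
        · exfalso
          rw [hmem] at e'
          apply hne
          apply hodd a₁ ha₁
          have : a₁⁻¹ = a₁ := mul_right_cancel e'
          calc a₁ * a₁ = a₁ * a₁⁻¹ := by rw [this]
            _ = 1 := mul_inv_cancel _
        · rw [hmem] at e'
          have h2 : (a₁ * a)⁻¹ = a₁⁻¹ * a⁻¹ := by
            rw [mul_inv_rev]
            exact hcomm _ (P.inv_mem ha) _ (P.inv_mem ha₁)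
          rw [h2] at e'
          have h3 : a = a⁻¹ := mul_left_cancel e'
          have h4 : a = 1 := by
            apply hodd a ha
            calc a * a = a * a⁻¹ := by rw [← h3]
              _ = 1 := mul_inv_cancel _
          rw [e, h4, inv_one]
      · exact e
    rw [key, hf.inv ha]
    ring
  · refine ⟨1, by ring, fun f hf a ha hag => ?_⟩
    rcases hF g a ha hag with e | e
    · rw [e, one_mul]
    · by_cases h1 : a = 1
      · rw [e, h1, inv_one, one_mul]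
      · exact absurd ⟨a, ha, e, h1⟩ h

end Coc

section Orbits

universe u

variable {G : Type u} [Group G] (P : Subgroup G)

/-- The orbit relation of `P` on `G ⧸ P`. -/
abbrev orbS : Setoid (G ⧸ P) := MulAction.orbitRel (↥P) (G ⧸ P)

/-- A base point of the orbit of `c`. -/
noncomputable def baseP (c : G ⧸ P) : G ⧸ P := (@Quotient.mk _ (orbS P) c).out

theorem baseP_smul {x : G} (hx : x ∈ P) (c : G ⧸ P) : baseP P (x • c) = baseP P c := by
  unfold baseP
  congr 1
  apply Quotient.sound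
  show (⟨x, hx⟩ : ↥P) • c ∈ MulAction.orbit (↥P) c
  exact MulAction.mem_orbit _ _

theorem exists_smul_baseP (c : G ⧸ P) : ∃ u ∈ P, u • baseP P c = c := by
  have h : (@Quotient.mk _ (orbS P) (baseP P c)) = @Quotient.mk _ (orbS P) c := by
    unfold baseP
    exact Quotient.out_eq _
  have h1 : c ∈ MulAction.orbit (↥P) (baseP P c) := by
    have := Quotient.exact h.symm
    exact this
  obtain ⟨x, hx⟩ := h1
  exact ⟨x, x.2, hx⟩

/-- The element moving the base point to `c`. -/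
noncomputable def uc (c : G ⧸ P) : G := (exists_smul_baseP P c).choose

theorem uc_mem (c : G ⧸ P) : uc P c ∈ P := (exists_smul_baseP P c).choose_spec.1

theorem uc_smul (c : G ⧸ P) : uc P c • baseP P c = c := (exists_smul_baseP P c).choose_spec.2

end Orbits

section Formula

universe u

variable {G : Type u} [Group G] {P : Subgroup G} {p : ℕ}

/-- Sign and potential. -/
theorem exists_potential (hcomm : ∀ x ∈ P, ∀ y ∈ P, x * y = y * x) (hodd : ∀ x ∈ P, x * x = 1 → x = 1)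
    (hF : ∀ g a : G, a ∈ P → g⁻¹ * a * g ∈ P → g⁻¹ * a * g = a ∨ g⁻¹ * a * g = a⁻¹) :
    ∃ s : G ⧸ P → ZMod p, (∀ c, s c * s c = 1) ∧ (∀ x ∈ P, ∀ c, s (x • c) = s c) ∧
      ∃ φ : (G → ZMod p) → G ⧸ P → ZMod p, ∀ f, AddOn P f → ∀ x ∈ P, ∀ c,
        f (tv P x c) = s c * f x + φ f c - φ f (x • c) := by
  classical
  choose s₀ hs₀ hs₀f using exists_sign (p := p) hcomm hodd hF
  let s : G ⧸ P → ZMod p := fun c => s₀ (baseP P c).out
  have hsinv : ∀ x ∈ P, ∀ c, s (x • c) = s c := by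
    intro x hx c
    simp only [s, baseP_smul P hx]
  refine ⟨s, fun c => hs₀ _, hsinv, fun f c => s c * f (uc P c) - f (tv P (uc P c) (baseP P c)), ?_⟩
  intro f hf x hx c
  set c₀ := baseP P c with hc₀
  set u := uc P c with hu
  set u' := uc P (x • c) with hu'
  have hb' : baseP P (x • c) = c₀ := baseP_smul P hx c
  have hu1 : u • c₀ = c := uc_smul P c
  have hu2 : u' • c₀ = x • c := by
    have := uc_smul P (x • c)
    rwa [hb'] at this
  have huP : u ∈ P := uc_mem P c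
  have hu'P : u' ∈ P := uc_mem P (x • c)
  set a := u'⁻¹ * x * u with ha
  have haP : a ∈ P := P.mul_mem (P.mul_mem (P.inv_mem hu'P) hx) huP
  have hac : a • c₀ = c₀ := by
    rw [ha, mul_smul, mul_smul, hu1, ← hu2, ← mul_smul, inv_mul_cancel, one_smul]
  have e1 : tv P (x * u) c₀ = tv P x c * tv P u c₀ := by
    rw [tv_mul, hu1]
  have e2 : x * u = u' * a := by
    rw [ha]
    group
  have e3 : tv P (u' * a) c₀ = tv P u' c₀ * tv P a c₀ := by
    rw [tv_mul, hac]
  have e4 : tv P x c * tv P u c₀ = tv P u' c₀ * tv P a c₀ := by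
    rw [← e1, e2, e3]
  have e5 : tv P a c₀ = (c₀.out)⁻¹ * a * c₀.out := by
    unfold tv
    rw [hac]
  have hmem : (c₀.out)⁻¹ * a * c₀.out ∈ P := by
    rw [← e5]
    exact tv_mem P a c₀
  have e6 : f (tv P a c₀) = s₀ c₀.out * f a := by
    rw [e5]
    exact hs₀f c₀.out f hf a haP hmem
  have e7 := congrArg f e4
  rw [hf _ (tv_mem P _ _) _ (tv_mem P _ _), hf _ (tv_mem P _ _) _ (tv_mem P _ _), e6] at e7
  have e8 : f a = f x + f u - f u' := by
    have h1 : u'⁻¹ * x * u = u'⁻¹ * (x * u) := by group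
    rw [ha, h1, hf _ (P.inv_mem hu'P) _ (P.mul_mem hx huP), hf _ hx _ huP, hf.inv hu'P]
    ring
  rw [e8] at e7
  have e9 : s (x • c) = s₀ c₀.out := by
    rw [hsinv x hx c]
  have e10 : s c = s₀ c₀.out := rfl
  simp only [e9, e10]
  rw [hb']
  linear_combination e7


/-- The commutator formula for the cocycle. -/
theorem bet_sub [Fintype (G ⧸ P)] (hcomm : ∀ x ∈ P, ∀ y ∈ P, x * y = y * x) (hodd : ∀ x ∈ P, x * x = 1 → x = 1)
    (hF : ∀ g a : G, a ∈ P → g⁻¹ * a * g ∈ P → g⁻¹ * a * g = a ∨ g⁻¹ * a * g = a⁻¹)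
    {f₁ f₂ : G → ZMod p} (h₁ : AddOn P f₁) (h₂ : AddOn P f₂) {x y : G} (hx : x ∈ P) (hy : y ∈ P) :
    bet P f₁ f₂ x y - bet P f₁ f₂ y x =
      (Fintype.card (G ⧸ P) : ZMod p) * (f₁ x * f₂ y - f₁ y * f₂ x) := by
  obtain ⟨s, hs2, hsinv, φ, hφ⟩ := exists_potential (p := p) hcomm hodd hF
  have hxy : x * y = y * x := hcomm x hx y hy
  let a : Equiv.Perm (G ⧸ P) := MulAction.toPerm x
  let b : Equiv.Perm (G ⧸ P) := MulAction.toPerm y
  have hab : ∀ c, a (b c) = b (a c) := by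
    intro c
    show x • y • c = y • x • c
    rw [← mul_smul, ← mul_smul, hxy]
  have key := sum_comm_identity a b hab s (φ f₁) (φ f₂) (fun c => hsinv x hx c) (fun c => hsinv y hy c)
    hs2 (f₁ x) (f₂ x) (f₁ y) (f₂ y)
  rw [← key]
  unfold bet
  rw [← Finset.sum_sub_distrib]
  refine Finset.sum_congr rfl fun c _ => ?_
  have e1 : f₁ (tv P x (y • c)) = s c * f₁ x + φ f₁ (b c) - φ f₁ (a (b c)) := by
    rw [hφ f₁ h₁ x hx, hsinv y hy c]
    rfl
  have e2 : f₂ (tv P y c) = s c * f₂ y + φ f₂ c - φ f₂ (b c) := hφ f₂ h₂ y hy c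
  have e3 : f₁ (tv P y (x • c)) = s c * f₁ y + φ f₁ (a c) - φ f₁ (a (b c)) := by
    rw [hφ f₁ h₁ y hy, hsinv x hx c, hab]
    rfl
  have e4 : f₂ (tv P x c) = s c * f₂ x + φ f₂ c - φ f₂ (a c) := hφ f₂ h₂ x hx c
  rw [e1, e2, e3, e4]

end Formula

section Main

universe u

variable {G : Type u} [Group G] {P : Subgroup G} {p : ℕ}

/-- A central extension of `G` by `ℤ/p` realizing a form on `P`. -/
structure CE (F : Form P p) (X : Type u) [Group X] where
  pr : X →* G
  pr_surj : Function.Surjective pr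
  ι : Multiplicative (ZMod p) →* X
  ι_inj : Function.Injective ι
  ker_iff : ∀ w, pr w = 1 ↔ ∃ a, ι a = w
  central : ∀ a w, ι a * w = w * ι a
  c : ZMod p
  c_ne : c ≠ 0
  comm : ∀ v v' : X, pr v ∈ P → pr v' ∈ P →
    v * v' * v⁻¹ * v'⁻¹ = ι (Multiplicative.ofAdd (c * (F.f₁ (pr v) * F.f₂ (pr v') - F.f₁ (pr v') * F.f₂ (pr v))))
  card : Nat.card X = Nat.card G * p

theorem exists_ce [Finite G] [Fact p.Prime] (F : Form P p) (hidx : ¬ p ∣ P.index)
    (hcomm : ∀ x ∈ P, ∀ y ∈ P, x * y = y * x) (hodd : ∀ x ∈ P, x * x = 1 → x = 1)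
    (hF : ∀ g a : G, a ∈ P → g⁻¹ * a * g ∈ P → g⁻¹ * a * g = a ∨ g⁻¹ * a * g = a⁻¹) :
    ∃ (X : Type u) (_ : Group X) (_ : Finite X), Nonempty (CE F X) := by
  classical
  letI : Fintype (G ⧸ P) := Fintype.ofFinite _
  have h₁ : AddOn P F.f₁ := F.add₁
  have h₂ : AddOn P F.f₂ := F.add₂
  have hβ := isCoc_bet P h₁ h₂
  refine ⟨Tw hβ, inferInstance, inferInstance, ⟨?_⟩⟩
  refine
    { pr := Tw.pr hβ
      pr_surj := Tw.pr_surjective hβ
      ι := Tw.inc hβ
      ι_inj := Tw.inc_injective hβ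
      ker_iff := Tw.pr_eq_one_iff hβ
      central := Tw.inc_central hβ
      c := (Fintype.card (G ⧸ P) : ZMod p)
      c_ne := ?_
      comm := ?_
      card := ?_ }
  · rw [Ne, ZMod.natCast_eq_zero_iff, ← Nat.card_eq_fintype_card]
    exact hidx
  · intro v v' hv hv'
    have hv1 : v.1 ∈ P := hv
    have hv2 : v'.1 ∈ P := hv'
    rw [Tw.comm_eq hβ v v' (hcomm _ hv1 _ hv2), bet_sub hcomm hodd hF h₁ h₂ hv1 hv2]
    rfl
  · rw [Tw.card, Nat.card_zmod]

end Main

end Cfsg.Agent.Lib.Transfer.AbTwo
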