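import Mathlib
import Cfsg.Agent.Lib.Transfer.AbTwoCE
import Cfsg.Agent.Lib.Blocks.CentralProd
import Cfsg.Agent.Lib.Char.ClassMul
import Cfsg.Agent.Lib.Char.IndRep
import Cfsg.Agent.Lib.Char.LinearChars

/-!
# The twisted characters on a central extension

For a central extension `E : CE F X` of `G` by `ℤ/p`, the character `θ` of the preimage `Y` of `P`:
`θ v = p μ v` when `f₁, f₂` vanish at `pr v`, and `0` otherwise, where `μ v` is determined by the
`t`-action.
-/

set_option autoImplicit false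

namespace Cfsg.Agent.Lib.Transfer.AbTwo

open Cfsg Cfsg.Agent.Lib.Blocks.CentralProd Cfsg.Agent.Lib.Char.Basic Cfsg.Agent.Lib.Char.Induced
  Cfsg.Agent.Lib.Char.IndRep Cfsg.Agent.Lib.Char.LinearChars Cfsg.Agent.Lib.Char.Virtual
open scoped ComplexConjugate

universe u

section Lam

variable (p : ℕ) [hp : Fact p.Prime]

/-- The standard additive character of `ℤ/p`. -/
noncomputable def lam (a : ZMod p) : ℂ := ZMod.stdAddChar a

variable {p}

theorem lam_zero : lam p 0 = 1 := by
  simp [lam]

theorem lam_add (a b : ZMod p) : lam p (a + b) = lam p a * lam p b := by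
  simp [lam, AddChar.map_add_eq_mul]

theorem lam_neg (a : ZMod p) : lam p (-a) = conj (lam p a) := by
  simp only [lam]
  exact AddChar.map_neg_eq_conj _ _

theorem lam_mul_conj (a : ZMod p) : lam p a * conj (lam p a) = 1 := by
  rw [← lam_neg, ← lam_add, add_neg_cancel, lam_zero]

theorem lam_ne_zero (a : ZMod p) : lam p a ≠ 0 := by
  intro h
  have := lam_mul_conj a
  rw [h, zero_mul] at this
  exact zero_ne_one this

theorem exists_lam_ne_one : ∃ a : ZMod p, lam p a ≠ 1 := by
  by_contra h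
  push Not at h
  have h1 : Function.Injective (ZMod.stdAddChar (N := p)) := ZMod.injective_stdAddChar
  have h2 : (1 : ZMod p) = 0 := by
    apply h1
    have e1 := h 1
    have e0 := h 0
    simp only [lam] at e1 e0
    rw [e1, e0]
  exact one_ne_zero h2

/-- The sum of a nontrivial multiple. -/
theorem sum_lam_mul {κ : ZMod p} {Y : Type*} [Fintype Y] (h : Y → ZMod p)
    (τ : Y → Y) (hτ : Function.Bijective τ) (d : ZMod p)
    (hτh : ∀ y, h (τ y) = h y + d) (hlam : lam p (κ * d) ≠ 1) :
    ∑ y, lam p (κ * h y) = 0 := by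
  have h1 : lam p (κ * d) * ∑ y, lam p (κ * h y) = ∑ y, lam p (κ * h y) := by
    rw [Finset.mul_sum]
    refine Eq.trans ?_ (Function.Bijective.sum_comp hτ (fun y => lam p (κ * h y)))
    refine Finset.sum_congr rfl fun y _ => ?_
    rw [hτh, ← lam_add]
    congr 1
    ring
  have h2 : (lam p (κ * d) - 1) * ∑ y, lam p (κ * h y) = 0 := by
    rw [sub_mul, h1, one_mul, sub_self]
  exact (mul_eq_zero.1 h2).resolve_left (sub_ne_zero.2 hlam)

end Lam

section CEBasic

variable {G : Type u} [Group G] {p : ℕ} {P : Subgroup G} {F : Form P p} {X : Type u} [Group X]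
  (E : CE F X)

/-- The coordinate on the kernel of the projection. -/
noncomputable def CE.cd (w : X) : ZMod p := by
  classical
  exact if h : E.pr w = 1 then Multiplicative.toAdd ((E.ker_iff w).1 h).choose else 0

theorem CE.ι_cd {w : X} (h : E.pr w = 1) : E.ι (Multiplicative.ofAdd (E.cd w)) = w := by
  classical
  unfold CE.cd
  rw [dif_pos h]
  exact ((E.ker_iff w).1 h).choose_spec

theorem CE.pr_ι (a : Multiplicative (ZMod p)) : E.pr (E.ι a) = 1 := (E.ker_iff _).2 ⟨a, rfl⟩

theorem CE.cd_ι (a : ZMod p) : E.cd (E.ι (Multiplicative.ofAdd a)) = a := by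
  have h := E.ι_cd (E.pr_ι (Multiplicative.ofAdd a))
  exact Multiplicative.ofAdd.injective (E.ι_inj h)

theorem CE.cd_mul {a b : X} (ha : E.pr a = 1) (hb : E.pr b = 1) : E.cd (a * b) = E.cd a + E.cd b := by
  have hab : E.pr (a * b) = 1 := by rw [map_mul, ha, hb, mul_one]
  apply Multiplicative.ofAdd.injective
  apply E.ι_inj
  rw [E.ι_cd hab, ofAdd_add, map_mul, E.ι_cd ha, E.ι_cd hb]

theorem CE.cd_one : E.cd (1 : X) = 0 := by
  have := E.cd_ι 0
  simpa using this

/-- Elements with vanishing form commute with everything over `P`. -/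
theorem CE.comm_zero {v v' : X} (hv : E.pr v ∈ P) (hv' : E.pr v' ∈ P) (h₁ : F.f₁ (E.pr v) = 0)
    (h₂ : F.f₂ (E.pr v) = 0) : v * v' = v' * v := by
  have h := E.comm v v' hv hv'
  rw [h₁, h₂] at h
  simp only [zero_mul, mul_zero, sub_self, ofAdd_zero, map_one] at h
  have h3 : v * v' * v⁻¹ = v' := by
    rwa [mul_inv_eq_one] at h
  rw [mul_inv_eq_iff_eq_mul] at h3
  exact h3

/-- Elements with vanishing `f₁` commute. -/
theorem CE.comm_T {v v' : X} (hv : E.pr v ∈ P) (hv' : E.pr v' ∈ P) (h₁ : F.f₁ (E.pr v) = 0)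
    (h₂ : F.f₁ (E.pr v') = 0) : v * v' = v' * v := by
  have h := E.comm v v' hv hv'
  rw [h₁, h₂] at h
  simp only [zero_mul, mul_zero, sub_self, ofAdd_zero, map_one] at h
  have h3 : v * v' * v⁻¹ = v' := by
    rwa [mul_inv_eq_one] at h
  rw [mul_inv_eq_iff_eq_mul] at h3
  exact h3

/-- An element over `c` with `c` commuting with `x` and `p ∤ |c|` commutes with lifts of `x`. -/
theorem CE.comm_of_regular [Fact p.Prime] {l v : X} (hc : E.pr l * E.pr v = E.pr v * E.pr l)
    (hreg : ¬ p ∣ orderOf (E.pr l)) : l * v = v * l := by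
  have h0 : E.pr (l * v * l⁻¹ * v⁻¹) = 1 := by
    simp only [map_mul, map_inv, hc]
    group
  set z := E.cd (l * v * l⁻¹ * v⁻¹) with hz
  have h1 : l * v = E.ι (Multiplicative.ofAdd z) * v * l := by
    have := E.ι_cd h0
    rw [← hz] at this
    rw [this]
    group
  have h2 : ∀ k : ℕ, l ^ k * v = E.ι (Multiplicative.ofAdd ((k : ZMod p) * z)) * v * l ^ k := by
    intro k
    induction k with
    | zero => simp
    | succ k ih =>
      have hc1 : l ^ k * E.ι (Multiplicative.ofAdd z) = E.ι (Multiplicative.ofAdd z) * l ^ k :=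
        (E.central _ _).symm
      have h3 : Multiplicative.ofAdd (((k + 1 : ℕ) : ZMod p) * z) =
          Multiplicative.ofAdd z * Multiplicative.ofAdd ((k : ZMod p) * z) := by
        rw [← ofAdd_add]
        congr 1
        push_cast
        ring
      calc l ^ (k + 1) * v = l ^ k * (l * v) := by rw [pow_succ, mul_assoc]
        _ = l ^ k * (E.ι (Multiplicative.ofAdd z) * v * l) := by rw [h1]
        _ = (l ^ k * E.ι (Multiplicative.ofAdd z)) * v * l := by simp only [mul_assoc]
        _ = E.ι (Multiplicative.ofAdd z) * (l ^ k * v) * l := by rw [hc1]; simp only [mul_assoc]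
        _ = E.ι (Multiplicative.ofAdd z) * (E.ι (Multiplicative.ofAdd ((k : ZMod p) * z)) * v * l ^ k) * l := by
            rw [ih]
        _ = E.ι (Multiplicative.ofAdd (((k + 1 : ℕ) : ZMod p) * z)) * v * l ^ (k + 1) := by
            rw [h3, E.ι.map_mul, pow_succ]
            simp only [mul_assoc]
  set n := orderOf (E.pr l) with hn
  have h3 : E.pr (l ^ n) = 1 := by
    rw [map_pow, hn, pow_orderOf_eq_one]
  obtain ⟨a, ha⟩ := (E.ker_iff _).1 h3
  have h4 := h2 n
  rw [← ha, E.central a v, mul_assoc] at h4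
  have h5 : v * E.ι a = E.ι (Multiplicative.ofAdd ((n : ZMod p) * z)) * (v * E.ι a) := h4
  have h6 : E.ι (Multiplicative.ofAdd ((n : ZMod p) * z)) = 1 := by
    exact (mul_eq_right.1 h5.symm)
  have h7 : Multiplicative.ofAdd ((n : ZMod p) * z) = 1 := E.ι_inj (by rw [h6, map_one])
  have h8 : (n : ZMod p) * z = 0 := h7
  have h9 : (n : ZMod p) ≠ 0 := by
    rw [Ne, ZMod.natCast_eq_zero_iff]
    exact hreg
  have h10 : z = 0 := (mul_eq_zero.1 h8).resolve_left h9
  rw [h1, h10]
  simp

end CEBasic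

end Cfsg.Agent.Lib.Transfer.AbTwo
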