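import Mathlib
import Cfsg.Agent.Lib.Transfer.AbTwoEta

/-!
# The character `θ` of the preimage of `P`

`θ v = p μ v` when `f₁, f₂` vanish at `pr v` and `0` otherwise; it is a character of the preimage
of `P` and is stable under conjugation in the extension.
-/

set_option autoImplicit false

namespace Cfsg.Agent.Lib.Transfer.AbTwo

open Cfsg Cfsg.Agent.Lib.Blocks.CentralProd Cfsg.Agent.Lib.Char.Basic Cfsg.Agent.Lib.Char.Induced
  Cfsg.Agent.Lib.Char.IndRep Cfsg.Agent.Lib.Char.LinearChars Cfsg.Agent.Lib.Char.Virtual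
open scoped ComplexConjugate

universe u

section CtxSec

variable {G : Type u} [Group G] {p : ℕ} [hp : Fact p.Prime] {P : Subgroup G} {F : Form P p}
  {X : Type u} [Group X]

/-- The hypotheses on the fusion used to build the twisted characters. -/
structure Ctx (E : CE F X) (t : G) (tl : X) : Prop where
  hp2 : p ≠ 2
  hcomm : ∀ x ∈ P, ∀ y ∈ P, x * y = y * x
  htl : E.pr tl = t
  ht : ∀ x ∈ P, t * x * t⁻¹ = x⁻¹
  hF : ∀ g a : G, a ∈ P → g * a * g⁻¹ ∈ P → g * a * g⁻¹ = a ∨ g * a * g⁻¹ = a⁻¹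
  hfac : ∀ x ∈ P, x ≠ 1 → ∀ c : G, c * x = x * c → ∃ θ u : G, c = θ * u ∧ u ∈ P ∧ ¬ p ∣ orderOf θ
  hsyl : ∀ R : Subgroup G, IsPGroup p R → ∃ g : G, ∀ a ∈ R, g * a * g⁻¹ ∈ P

variable {E : CE F X} {t : G} {tl : X}

theorem two_ne_zero_zmod (hp2 : p ≠ 2) : (2 : ZMod p) ≠ 0 := by
  intro h
  have h1 : ((2 : ℕ) : ZMod p) = 0 := by exact_mod_cast h
  rw [ZMod.natCast_eq_zero_iff] at h1
  exact hp2 ((Nat.prime_dvd_prime_iff_eq hp.out Nat.prime_two).1 h1)

theorem f₁_one (F : Form P p) : F.f₁ 1 = 0 := AddOn.one F.add₁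
theorem f₂_one (F : Form P p) : F.f₂ 1 = 0 := AddOn.one F.add₂
theorem f₁_inv (F : Form P p) {x : G} (hx : x ∈ P) : F.f₁ x⁻¹ = - F.f₁ x := AddOn.inv F.add₁ hx
theorem f₂_inv (F : Form P p) {x : G} (hx : x ∈ P) : F.f₂ x⁻¹ = - F.f₂ x := AddOn.inv F.add₂ hx

omit hp in
theorem CE.comm_of_pr_one (E : CE F X) {a : X} (h : E.pr a = 1) (b : X) : a * b = b * a := by
  obtain ⟨z, rfl⟩ := (E.ker_iff a).1 h
  exact E.central z b

omit hp in
theorem Ctx.t_inv (C : Ctx E t tl) {x : G} (hx : x ∈ P) : t⁻¹ * x * t = x⁻¹ := by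
  have h := C.ht x⁻¹ (inv_mem hx)
  rw [inv_inv] at h
  conv_lhs => rw [← h]
  group

omit hp in
theorem Ctx.pr_conj (C : Ctx E t tl) {v : X} (hv : E.pr v ∈ P) : E.pr (tl * v * tl⁻¹) = (E.pr v)⁻¹ := by
  rw [map_mul, map_mul, map_inv, C.htl, C.ht _ hv]

omit hp in
theorem Ctx.pr_conj_mem (C : Ctx E t tl) {v : X} (hv : E.pr v ∈ P) : E.pr (tl * v * tl⁻¹) ∈ P := by
  rw [C.pr_conj hv]
  exact inv_mem hv

omit hp in
theorem Ctx.pr_mul_conj (C : Ctx E t tl) {v : X} (hv : E.pr v ∈ P) : E.pr (v * (tl * v * tl⁻¹)) = 1 := by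
  rw [map_mul, C.pr_conj hv, mul_inv_cancel]

/-- Lemma C: lifts of elements commuting with `x` commute with lifts of `x` when `f₁, f₂` vanish at
`x`. -/
theorem Ctx.commC (C : Ctx E t tl) {v w : X} (hv : E.pr v ∈ P) (h₁ : F.f₁ (E.pr v) = 0)
    (h₂ : F.f₂ (E.pr v) = 0) (hc : E.pr w * E.pr v = E.pr v * E.pr w) : w * v = v * w := by
  by_cases h1 : E.pr v = 1
  · exact (E.comm_of_pr_one h1 w).symm
  obtain ⟨θ, u, hcu, hu, hθ⟩ := C.hfac _ hv h1 _ hc
  obtain ⟨l, hl⟩ := E.pr_surj θ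
  have hpr : E.pr (l⁻¹ * w) = u := by
    rw [map_mul, map_inv, hl, hcu]
    group
  have hcom1 : v * (l⁻¹ * w) = (l⁻¹ * w) * v :=
    E.comm_zero hv (by rw [hpr]; exact hu) h₁ h₂
  have hcom2 : θ * E.pr v = E.pr v * θ := by
    have h3 := C.hcomm u hu _ hv
    rw [hcu] at hc
    have h4 : θ * (u * E.pr v) = E.pr v * θ * u := by
      rw [← mul_assoc, hc, mul_assoc]
    rw [h3, ← mul_assoc] at h4
    exact mul_right_cancel h4
  have hcom3 : l * v = v * l := E.comm_of_regular (by rw [hl]; exact hcom2) (by rw [hl]; exact hθ)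
  have hw : w = l * (l⁻¹ * w) := by group
  rw [hw, mul_assoc, ← hcom1, ← mul_assoc, hcom3, mul_assoc]

/-- The value on the preimage of `P`. -/
noncomputable def CE.mu (E : CE F X) (tl v : X) : ℂ :=
  lam p ((2 : ZMod p)⁻¹ * E.cd (v * (tl * v * tl⁻¹)))

theorem Ctx.mu_mul (C : Ctx E t tl) {v w : X} (hv : E.pr v ∈ P) (hw : E.pr w ∈ P)
    (h₁ : F.f₁ (E.pr v) = 0) (h₂ : F.f₁ (E.pr w) = 0) :
    E.mu tl (v * w) = E.mu tl v * E.mu tl w := by
  have hv' := C.pr_conj_mem hv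
  have hcomm : w * (tl * v * tl⁻¹) = (tl * v * tl⁻¹) * w :=
    E.comm_T hw hv' h₂ (by rw [C.pr_conj hv, f₁_inv F hv, h₁, neg_zero])
  have h : (v * w) * (tl * (v * w) * tl⁻¹) = (v * (tl * v * tl⁻¹)) * (w * (tl * w * tl⁻¹)) := by
    have h0 : tl * (v * w) * tl⁻¹ = (tl * v * tl⁻¹) * (tl * w * tl⁻¹) := by group
    rw [h0]
    calc v * w * ((tl * v * tl⁻¹) * (tl * w * tl⁻¹)) = v * (w * (tl * v * tl⁻¹)) * (tl * w * tl⁻¹) := by
          simp only [mul_assoc]
      _ = _ := by rw [hcomm]; simp only [mul_assoc]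
  unfold CE.mu
  rw [h, E.cd_mul (C.pr_mul_conj hv) (C.pr_mul_conj hw), mul_add, lam_add]

theorem Ctx.mu_ι_mul (C : Ctx E t tl) (z : ZMod p) {v : X} (hv : E.pr v ∈ P) :
    E.mu tl (E.ι (Multiplicative.ofAdd z) * v) = lam p z * E.mu tl v := by
  set c := E.ι (Multiplicative.ofAdd z) with hc
  have hc1 : E.pr c = 1 := E.pr_ι _
  have h0 : tl * (c * v) * tl⁻¹ = c * (tl * v * tl⁻¹) := by
    have h1 : tl * c = c * tl := (E.central _ _).symm
    rw [← mul_assoc, h1]
    group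
  have h : (c * v) * (tl * (c * v) * tl⁻¹) = (c * c) * (v * (tl * v * tl⁻¹)) := by
    rw [h0]
    have h1 : v * c = c * v := (E.central _ _).symm
    calc c * v * (c * (tl * v * tl⁻¹)) = c * (v * c) * (tl * v * tl⁻¹) := by simp only [mul_assoc]
      _ = _ := by rw [h1]; simp only [mul_assoc]
  unfold CE.mu
  rw [h, E.cd_mul (by rw [map_mul, hc1, mul_one]) (C.pr_mul_conj hv), E.cd_mul hc1 hc1, hc, E.cd_ι, mul_add, lam_add]
  congr 2
  have h2 := two_ne_zero_zmod C.hp2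
  field_simp
  ring

theorem mu_aux (E : CE F X) (tl : X) : E.mu tl 1 = 1 := by
  unfold CE.mu
  have h : (1 : X) * (tl * 1 * tl⁻¹) = 1 := by group
  rw [h, E.cd_one, mul_zero, lam_zero]

theorem Ctx.mu_ι (C : Ctx E t tl) (z : ZMod p) : E.mu tl (E.ι (Multiplicative.ofAdd z)) = lam p z := by
  have h := C.mu_ι_mul z (v := 1) (by rw [map_one]; exact P.one_mem)
  rwa [mul_one, mu_aux, mul_one] at h

/-- The function on the preimage of `P`. -/
noncomputable def CE.thetaF (E : CE F X) (tl v : X) : ℂ :=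
  if F.f₁ (E.pr v) = 0 ∧ F.f₂ (E.pr v) = 0 then (p : ℂ) * E.mu tl v else 0

theorem CE.thetaF_of_zero (E : CE F X) (tl : X) {v : X} (h₁ : F.f₁ (E.pr v) = 0) (h₂ : F.f₂ (E.pr v) = 0) :
    E.thetaF tl v = (p : ℂ) * E.mu tl v := if_pos ⟨h₁, h₂⟩

theorem CE.thetaF_of_ne (E : CE F X) (tl : X) {v : X} (h : ¬ (F.f₁ (E.pr v) = 0 ∧ F.f₂ (E.pr v) = 0)) :
    E.thetaF tl v = 0 := if_neg h

/-- `θ` is a character of the preimage of `P`. -/
theorem Ctx.isCharacter_thetaF [Finite X] (C : Ctx E t tl) :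
    IsCharacter ↥(P.comap E.pr) (fun v => E.thetaF tl (v : X)) := by
  classical
  letI : Fintype X := Fintype.ofFinite _
  set Y := P.comap E.pr with hY
  letI : Fintype Y := Fintype.ofFinite _
  have hprY : ∀ v : Y, E.pr (v : X) ∈ P := fun v => v.2
  let φ : Y →* Multiplicative (ZMod p) :=
    { toFun := fun v => Multiplicative.ofAdd (F.f₁ (E.pr (v : X)))
      map_one' := by
        show Multiplicative.ofAdd (F.f₁ (E.pr (1 : X))) = 1
        rw [map_one, f₁_one]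
        rfl
      map_mul' := fun a b => by
        show Multiplicative.ofAdd (F.f₁ (E.pr ((a : X) * (b : X)))) = _
        rw [map_mul, F.add₁ _ (hprY a) _ (hprY b), ofAdd_add] }
  have hφ : ∀ v : Y, φ v = Multiplicative.ofAdd (F.f₁ (E.pr (v : X))) := fun _ => rfl
  set T := φ.ker with hTdef
  have hT : ∀ v : Y, v ∈ T ↔ F.f₁ (E.pr (v : X)) = 0 := by
    intro v
    rw [hTdef, MonoidHom.mem_ker, hφ]
    exact ofAdd_eq_one
  letI : Fintype T := Fintype.ofFinite _
  have hφsurj : Function.Surjective φ := by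
    intro a
    obtain ⟨x, hx, h1, -⟩ := F.surj (Multiplicative.toAdd a) 0
    obtain ⟨v, hv⟩ := E.pr_surj x
    refine ⟨⟨v, by show E.pr v ∈ P; rw [hv]; exact hx⟩, ?_⟩
    rw [hφ]
    simp only [hv, h1]
    rfl
  have hidx : T.index = p := by
    rw [hTdef, Subgroup.index_ker, MonoidHom.range_eq_top.2 hφsurj, Subgroup.card_top]
    exact (Nat.card_congr Multiplicative.toAdd).trans (by rw [Nat.card_zmod])
  have hcard : (Nat.card T : ℂ) * (p : ℂ) = (Nat.card Y : ℂ) := by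
    have := Subgroup.card_mul_index T
    rw [hidx] at this
    exact_mod_cast this
  have hT0 : (Nat.card T : ℂ) ≠ 0 := Nat.cast_ne_zero.2 Nat.card_pos.ne'
  let μT : T →* ℂ :=
    { toFun := fun v => E.mu tl (((v : Y) : X))
      map_one' := mu_aux E tl
      map_mul' := fun a b => C.mu_mul (hprY a) (hprY b) ((hT a).1 a.2) ((hT b).1 b.2) }
  have h1 : IsCharacter T (fun v => μT v) :=
    isCharacter_of_isIrrCharacter (isIrr_of_hom μT.toHomUnits)
  have h2 := isCharacter_indFun T h1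
  convert h2 using 1
  funext v
  rw [indFun_apply]
  have hx := hprY v
  by_cases hf₁ : F.f₁ (E.pr (v : X)) = 0
  · have hmem : ∀ c : Y, c⁻¹ * v * c ∈ T := by
      intro c
      have hTn : T.Normal := MonoidHom.normal_ker φ
      have := hTn.conj_mem v ((hT v).2 hf₁) c⁻¹
      simpa using this
    have hval : ∀ c : Y, extendByZero T (fun v => μT v) (c⁻¹ * v * c) =
        lam p (-(E.c * F.f₂ (E.pr (v : X))) * F.f₁ (E.pr (c : X))) * E.mu tl (v : X) := by
      intro c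
      rw [extendByZero_of_mem _ _ (hmem c)]
      show E.mu tl (((c : X)⁻¹ * (v : X) * (c : X))) = _
      have h3 := E.comm (c : X)⁻¹ (v : X) (by rw [map_inv]; exact inv_mem (hprY c)) hx
      rw [inv_inv, map_inv, f₁_inv F (hprY c), f₂_inv F (hprY c), hf₁] at h3
      have h4 : (c : X)⁻¹ * (v : X) * (c : X) =
          E.ι (Multiplicative.ofAdd (-(E.c * F.f₂ (E.pr (v : X))) * F.f₁ (E.pr (c : X)))) * (v : X) := by
        have h5 : -(E.c * F.f₂ (E.pr (v : X))) * F.f₁ (E.pr (c : X)) =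
            E.c * (-F.f₁ (E.pr (c : X)) * F.f₂ (E.pr (v : X)) - 0 * -F.f₂ (E.pr (c : X))) := by ring
        rw [h5, ← h3]
        group
      rw [h4, C.mu_ι_mul _ hx]
    rw [Finset.sum_congr rfl fun c _ => hval c, ← Finset.sum_mul]
    by_cases hf₂ : F.f₂ (E.pr (v : X)) = 0
    · rw [E.thetaF_of_zero tl hf₁ hf₂]
      simp only [hf₂, mul_zero, neg_zero, zero_mul, lam_zero, Finset.sum_const, Finset.card_univ, nsmul_eq_mul,
        mul_one]
      rw [← Nat.card_eq_fintype_card, ← hcard]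
      field_simp
    · rw [E.thetaF_of_ne tl (fun h => hf₂ h.2)]
      set κ := -(E.c * F.f₂ (E.pr (v : X))) with hκ
      have hκ0 : κ ≠ 0 := neg_ne_zero.2 (mul_ne_zero E.c_ne hf₂)
      obtain ⟨a, ha⟩ := exists_lam_ne_one (p := p)
      obtain ⟨x₁, hx₁, hd, -⟩ := F.surj (κ⁻¹ * a) 0
      obtain ⟨c₁, hc₁⟩ := E.pr_surj x₁
      have hc₁Y : c₁ ∈ Y := by
        show E.pr c₁ ∈ P
        rw [hc₁]
        exact hx₁
      have hsum := sum_lam_mul (p := p) (κ := κ) (Y := Y) (fun c => F.f₁ (E.pr (c : X)))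
        (fun c => c * ⟨c₁, hc₁Y⟩) (Group.mulRight_bijective _) (κ⁻¹ * a)
        (fun c => by
          show F.f₁ (E.pr ((c : X) * c₁)) = _
          rw [map_mul, F.add₁ _ (hprY c) _ (by rw [hc₁]; exact hx₁), hc₁, hd])
        (by rwa [mul_inv_cancel_left₀ hκ0])
      rw [hsum]
      ring
  · rw [E.thetaF_of_ne tl (fun h => hf₁ h.1)]
    have hval : ∀ c : Y, extendByZero T (fun v => μT v) (c⁻¹ * v * c) = 0 := by
      intro c
      apply extendByZero_of_notMem
      intro hmem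
      apply hf₁
      rw [← hT]
      have hTn : T.Normal := MonoidHom.normal_ker φ
      have := hTn.conj_mem _ hmem c
      have h3 : c * (c⁻¹ * v * c) * c⁻¹ = v := by group
      rwa [h3] at this
    simp [hval]

/-- `θ` is stable under conjugation in `X`. -/
theorem Ctx.thetaF_conj (C : Ctx E t tl) {v g : X} (hv : E.pr v ∈ P) (hv' : E.pr (g * v * g⁻¹) ∈ P) :
    E.thetaF tl (g * v * g⁻¹) = E.thetaF tl v := by
  have hpr : E.pr (g * v * g⁻¹) = E.pr g * E.pr v * (E.pr g)⁻¹ := by simp only [map_mul, map_inv]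
  rw [hpr] at hv'
  by_cases hform : F.f₁ (E.pr v) = 0 ∧ F.f₂ (E.pr v) = 0
  · obtain ⟨h₁, h₂⟩ := hform
    rcases C.hF _ _ hv hv' with h | h
    · have hc : E.pr g * E.pr v = E.pr v * E.pr g := by
        rwa [mul_inv_eq_iff_eq_mul] at h
      have h3 := C.commC hv h₁ h₂ hc
      rw [h3, mul_inv_cancel_right]
    · -- the inverted case
      set c := tl⁻¹ * g with hc
      have hg : g = tl * c := by rw [hc]; group
      have hcpr : E.pr c * E.pr v = E.pr v * E.pr c := by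
        have h3 : E.pr c = t⁻¹ * E.pr g := by rw [hc, map_mul, map_inv, C.htl]
        have h4 := C.t_inv (inv_mem hv)
        rw [inv_inv] at h4
        calc E.pr c * E.pr v = t⁻¹ * (E.pr g * E.pr v * (E.pr g)⁻¹) * E.pr g := by rw [h3]; group
          _ = t⁻¹ * (E.pr v)⁻¹ * E.pr g := by rw [h]
          _ = (t⁻¹ * (E.pr v)⁻¹ * t) * (t⁻¹ * E.pr g) := by group
          _ = E.pr v * E.pr c := by rw [h4, h3]
      have h5 := C.commC hv h₁ h₂ hcpr
      have h6 : g * v * g⁻¹ = tl * v * tl⁻¹ := by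
        rw [hg]
        calc tl * c * v * (tl * c)⁻¹ = tl * (c * v) * c⁻¹ * tl⁻¹ := by group
          _ = tl * (v * c) * c⁻¹ * tl⁻¹ := by rw [h5]
          _ = tl * v * tl⁻¹ := by group
      rw [h6]
      have hv2 := C.pr_conj hv
      have hv3 := C.pr_conj_mem hv
      have hsq : (tl * tl) * v = v * (tl * tl) := by
        apply C.commC hv h₁ h₂
        rw [map_mul, C.htl]
        have h7 : t * E.pr v = (E.pr v)⁻¹ * t := by
          have := C.ht _ hv
          rwa [mul_inv_eq_iff_eq_mul] at this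
        have h8 : t * (E.pr v)⁻¹ = E.pr v * t := by
          have := C.ht _ (inv_mem hv)
          rw [inv_inv] at this
          rwa [mul_inv_eq_iff_eq_mul] at this
        calc t * t * E.pr v = t * (t * E.pr v) := mul_assoc _ _ _
          _ = t * ((E.pr v)⁻¹ * t) := by rw [h7]
          _ = (t * (E.pr v)⁻¹) * t := (mul_assoc _ _ _).symm
          _ = E.pr v * t * t := by rw [h8]
          _ = E.pr v * (t * t) := mul_assoc _ _ _
      have h9 : tl * (tl * v * tl⁻¹) * tl⁻¹ = v := by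
        calc tl * (tl * v * tl⁻¹) * tl⁻¹ = (tl * tl) * v * (tl * tl)⁻¹ := by group
          _ = v := by rw [hsq]; group
      have h10 : (tl * v * tl⁻¹) * (tl * (tl * v * tl⁻¹) * tl⁻¹) = v * (tl * v * tl⁻¹) := by
        rw [h9]
        exact (E.comm_zero hv hv3 h₁ h₂).symm
      have hf₁' : F.f₁ (E.pr (tl * v * tl⁻¹)) = 0 := by rw [hv2, f₁_inv F hv, h₁, neg_zero]
      have hf₂' : F.f₂ (E.pr (tl * v * tl⁻¹)) = 0 := by rw [hv2, f₂_inv F hv, h₂, neg_zero]
      rw [E.thetaF_of_zero tl hf₁' hf₂', E.thetaF_of_zero tl h₁ h₂]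
      congr 1
      unfold CE.mu
      rw [h10]
  · rw [E.thetaF_of_ne tl hform]
    apply E.thetaF_of_ne tl
    intro hc
    apply hform
    rw [hpr] at hc
    rcases C.hF _ _ hv hv' with h | h
    · rwa [h] at hc
    · rw [h, f₁_inv F hv, f₂_inv F hv] at hc
      exact ⟨neg_eq_zero.1 hc.1, neg_eq_zero.1 hc.2⟩

end CtxSec

end Cfsg.Agent.Lib.Transfer.AbTwo
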