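import Mathlib
import Cfsg.Agent.Lib.Transfer.AbTwoTheta
import Cfsg.Agent.Lib.Blocks.AbFrob

/-!
# The generalized characters `η = Ec + b κ` on the extension
-/

set_option autoImplicit false

namespace Cfsg.Agent.Lib.Transfer.AbTwo

open Cfsg Cfsg.Agent.Lib.Blocks.CentralProd Cfsg.Agent.Lib.Char.Basic Cfsg.Agent.Lib.Char.Induced
  Cfsg.Agent.Lib.Char.IndRep Cfsg.Agent.Lib.Char.LinearChars Cfsg.Agent.Lib.Char.Virtual
  Cfsg.Agent.Lib.Blocks.SecondMain Cfsg.Agent.Lib.Blocks.Sections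
open scoped ComplexConjugate

universe u

section PPart

variable {A B : Type*} [Group A] [Group B] {p : ℕ} [hp : Fact p.Prime]

theorem isPPart_map (f : A →* B) {g z : A} (h : IsPPart p g z) : IsPPart p (f g) (f z) := by
  obtain ⟨y, rfl, hc, ⟨k, hk⟩, hy⟩ := h
  refine ⟨f y, (map_mul f _ _).symm, hc.map f, ?_, fun hd => hy (hd.trans (orderOf_map_dvd f y))⟩
  have h1 : orderOf (f z) ∣ p ^ k := hk ▸ orderOf_map_dvd f z
  obtain ⟨j, -, hj⟩ := (Nat.dvd_prime_pow hp.out).1 h1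
  exact ⟨j, hj⟩

theorem isPPart_inv {g z : A} (h : IsPPart p g z) : IsPPart p g⁻¹ z⁻¹ := by
  obtain ⟨y, rfl, hc, ⟨k, hk⟩, hy⟩ := h
  refine ⟨y⁻¹, ?_, hc.inv_inv, ⟨k, by rw [orderOf_inv, hk]⟩, by rwa [orderOf_inv]⟩
  rw [← mul_inv_rev, hc.symm.eq]

end PPart

section Main

variable {G : Type u} [Group G] [Fintype G] {p : ℕ} [hp : Fact p.Prime] {P : Subgroup G} {F : Form P p}
  {X : Type u} [Group X] [Fintype X] {E : CE F X} {t : G} {tl : X}

theorem CE.pr_pp (E : CE F X) (w : X) : E.pr (pp p w) = pp p (E.pr w) :=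
  (pp_eq (isPPart_map E.pr (pp_spec w))).symm

theorem Ctx.exists_conj_sub (C : Ctx E t tl) (R : Subgroup X) (hR : IsPGroup p R) :
    ∃ g : X, ∀ a ∈ R, E.pr (g * a * g⁻¹) ∈ P := by
  obtain ⟨g, hg⟩ := C.hsyl (R.map E.pr) (hR.map E.pr)
  obtain ⟨l, rfl⟩ := E.pr_surj g
  refine ⟨l, fun a ha => ?_⟩
  have := hg (E.pr a) (Subgroup.mem_map_of_mem _ ha)
  simpa only [map_mul, map_inv] using this

theorem Ctx.exists_conj (C : Ctx E t tl) (w : X) : ∃ g : X, E.pr (g * pp p w * g⁻¹) ∈ P := by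
  obtain ⟨y, -, -, ⟨k, hk⟩, -⟩ := pp_spec (p := p) w
  have hR : IsPGroup p (Subgroup.zpowers (pp p w)) := by
    rw [IsPGroup.iff_card, Nat.card_zpowers, hk]
    exact ⟨k, rfl⟩
  obtain ⟨g, hg⟩ := C.exists_conj_sub _ hR
  exact ⟨g, hg _ (Subgroup.mem_zpowers _)⟩

open Classical in
/-- The extension to `X` of `θ`, through the `p`-part. -/
noncomputable def CE.Ec (E : CE F X) (tl w : X) : ℂ :=
  if h : ∃ g : X, E.pr (g * pp p w * g⁻¹) ∈ P then E.thetaF tl (h.choose * pp p w * h.choose⁻¹) else 0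

theorem Ctx.Ec_eq (C : Ctx E t tl) {w g : X} (hg : E.pr (g * pp p w * g⁻¹) ∈ P) :
    E.Ec tl w = E.thetaF tl (g * pp p w * g⁻¹) := by
  classical
  unfold CE.Ec
  have h : ∃ g : X, E.pr (g * pp p w * g⁻¹) ∈ P := ⟨g, hg⟩
  rw [dif_pos h]
  have hg₀ := h.choose_spec
  set g₀ := h.choose with hg₀def
  have h1 : g * pp p w * g⁻¹ = (g * g₀⁻¹) * (g₀ * pp p w * g₀⁻¹) * (g * g₀⁻¹)⁻¹ := by group
  rw [h1] at hg ⊢
  exact (C.thetaF_conj hg₀ hg).symm

theorem Ctx.Ec_class (C : Ctx E t tl) (a w : X) : E.Ec tl (a * w * a⁻¹) = E.Ec tl w := by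
  obtain ⟨g, hg⟩ := C.exists_conj w
  have h1 : (g * a⁻¹) * pp p (a * w * a⁻¹) * (g * a⁻¹)⁻¹ = g * pp p w * g⁻¹ := by
    rw [pp_conj]
    group
  rw [C.Ec_eq hg, C.Ec_eq (g := g * a⁻¹) (by rw [h1]; exact hg), h1]

open Classical in
/-- The second part of `η`. -/
noncomputable def CE.kap (E : CE F X) (ϑ : G → ℂ) (w : X) : ℂ :=
  if E.pr (pp p w) = 1 then lam p (E.cd (pp p w)) * (ϑ (E.pr w) - 1) else 0

theorem CE.kap_class (E : CE F X) {ϑ : G → ℂ} (hϑ : IsClassFunction G ϑ) (a w : X) :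
    E.kap ϑ (a * w * a⁻¹) = E.kap ϑ w := by
  classical
  unfold CE.kap
  rw [pp_conj]
  by_cases h : E.pr (pp p w) = 1
  · have h1 : a * pp p w * a⁻¹ = pp p w := by
      rw [← E.comm_of_pr_one h a]
      group
    rw [h1, if_pos h, if_pos h, map_mul, map_mul, map_inv, hϑ]
  · have h1 : ¬ E.pr (a * pp p w * a⁻¹) = 1 := by
      rw [map_mul, map_mul, map_inv]
      intro h2
      apply h
      have : E.pr (pp p w) = (E.pr a)⁻¹ * (E.pr a * E.pr (pp p w) * (E.pr a)⁻¹) * E.pr a := by group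
      rw [this, h2]
      group
    rw [if_neg h, if_neg h1]

/-- The function `η`. -/
noncomputable def CE.eta (E : CE F X) (tl : X) (ϑ : G → ℂ) (b : ℤ) (w : X) : ℂ :=
  E.Ec tl w + (b : ℂ) * E.kap ϑ w

theorem Ctx.eta_class (C : Ctx E t tl) {ϑ : G → ℂ} (hϑ : IsClassFunction G ϑ) (b : ℤ) :
    IsClassFunction X (E.eta tl ϑ b) := by
  intro w a
  unfold CE.eta
  rw [C.Ec_class, E.kap_class hϑ]

/-- The restriction of `Ec` to an elementary subgroup is a generalized character. -/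
theorem Ctx.isGen_Ec (C : Ctx E t tl) (D : Subgroup X) (r : ℕ) (hr : r.Prime) (hD : IsElementary r D) :
    IsGeneralizedCharacter D (fun e : D => E.Ec tl e) := by
  classical
  letI : Fintype D := Fintype.ofFinite _
  obtain ⟨Q, L, hQn, hLn, hQp, hLr, Φ, hΦ⟩ := exists_decomp_of_isElementary r p hr hD
  letI : Fintype Q := Fintype.ofFinite _
  letI : Fintype L := Fintype.ofFinite _
  let i : Q →* X := D.subtype.comp Q.subtype
  have hpart : ∀ (u : Q) (h : L), IsPPart p ((Φ (u, h) : D) : X) (i u) := by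
    intro u h
    have hcomm : (u : D) * h = h * u := by
      exact Subgroup.commute_of_normal_of_disjoint _ _ hQn hLn
        (disjoint_iff.2 (disjoint_iff.1 (Subgroup.disjoint_of_coprime_natCard (by
          obtain ⟨n, hn⟩ := IsPGroup.iff_card.1 hQp
          rw [hn]
          apply Nat.Coprime.pow_left
          rw [Nat.Prime.coprime_iff_not_dvd hp.out]
          intro hd
          obtain ⟨x, hx⟩ := exists_prime_orderOf_dvd_card' p hd
          exact hLr x (by rw [Subgroup.orderOf_coe, hx])) ))) u h u.2 h.2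
    refine ⟨(h : X), ?_, ?_, ?_, ?_⟩
    · rw [hΦ]
      rfl
    · exact congrArg (Subtype.val) hcomm
    · obtain ⟨k, hk⟩ := (IsPGroup.iff_orderOf.1 hQp) u
      refine ⟨k, ?_⟩
      show orderOf ((u : D) : X) = _
      rw [Subgroup.orderOf_coe, Subgroup.orderOf_coe, hk]
    · rw [Subgroup.orderOf_coe]
      exact hLr h
  have hQp' : IsPGroup p (i.range) := hQp.of_surjective i.rangeRestrict i.rangeRestrict_surjective
  obtain ⟨g, hg⟩ := C.exists_conj_sub i.range hQp'
  let j : Q →* P.comap E.pr :=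
    { toFun := fun u => ⟨g * i u * g⁻¹, hg _ ⟨u, rfl⟩⟩
      map_one' := by
        apply Subtype.ext
        show g * i 1 * g⁻¹ = 1
        rw [map_one]
        group
      map_mul' := fun a b => by
        apply Subtype.ext
        show g * i (a * b) * g⁻¹ = (g * i a * g⁻¹) * (g * i b * g⁻¹)
        rw [map_mul]
        group }
  have hΛ : IsCharacter Q (fun u => E.thetaF tl ((j u : P.comap E.pr) : X)) :=
    isCharacter_comp_hom C.isCharacter_thetaF j
  have h1 : IsGeneralizedCharacter L (1 : L → ℂ) := isGeneralized_of_isCharacter isCharacter_one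
  have hgen := isGeneralized_of_prod Φ hΛ h1
  convert hgen using 1
  funext e
  obtain ⟨⟨u, h⟩, rfl⟩ := Φ.surjective e
  simp only [MulEquiv.symm_apply_apply, Pi.one_apply, mul_one]
  rw [C.Ec_eq (g := g) (by rw [pp_eq (hpart u h)]; exact hg _ ⟨u, rfl⟩), pp_eq (hpart u h)]
  rfl

/-- The restriction of `κ` to an elementary subgroup is a generalized character. -/
theorem Ctx.isGen_kap (C : Ctx E t tl) {ϑ : G → ℂ} (hϑ : IsGeneralizedCharacter G ϑ)
    (hsing : ∀ y : G, p ∣ orderOf y → ϑ y = 1) (D : Subgroup X) (r : ℕ) (hr : r.Prime)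
    (hD : IsElementary r D) : IsGeneralizedCharacter D (fun e : D => E.kap ϑ e) := by
  classical
  letI : Fintype D := Fintype.ofFinite _
  obtain ⟨Q, L, hQn, hLn, hQp, hLr, Φ, hΦ⟩ := exists_decomp_of_isElementary r p hr hD
  letI : Fintype Q := Fintype.ofFinite _
  letI : Fintype L := Fintype.ofFinite _
  let i : Q →* X := D.subtype.comp Q.subtype
  have hpart : ∀ (u : Q) (h : L), IsPPart p ((Φ (u, h) : D) : X) (i u) := by
    intro u h
    have hcomm : (u : D) * h = h * u := by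
      exact Subgroup.commute_of_normal_of_disjoint _ _ hQn hLn
        (disjoint_iff.2 (disjoint_iff.1 (Subgroup.disjoint_of_coprime_natCard (by
          obtain ⟨n, hn⟩ := IsPGroup.iff_card.1 hQp
          rw [hn]
          apply Nat.Coprime.pow_left
          rw [Nat.Prime.coprime_iff_not_dvd hp.out]
          intro hd
          obtain ⟨x, hx⟩ := exists_prime_orderOf_dvd_card' p hd
          exact hLr x (by rw [Subgroup.orderOf_coe, hx])) ))) u h u.2 h.2
    refine ⟨(h : X), ?_, ?_, ?_, ?_⟩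
    · rw [hΦ]
      rfl
    · exact congrArg (Subtype.val) hcomm
    · obtain ⟨k, hk⟩ := (IsPGroup.iff_orderOf.1 hQp) u
      refine ⟨k, ?_⟩
      show orderOf ((u : D) : X) = _
      rw [Subgroup.orderOf_coe, Subgroup.orderOf_coe, hk]
    · rw [Subgroup.orderOf_coe]
      exact hLr h
  have hprΦ : ∀ (u : Q) (h : L), E.pr ((Φ (u, h) : D) : X) = E.pr (i u) * E.pr ((h : D) : X) := by
    intro u h
    rw [hΦ, ← map_mul]
    rfl
  -- the kernel part of `Q`
  let Q₀ : Subgroup Q := E.pr.ker.comap i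
  letI : Fintype Q₀ := Fintype.ofFinite _
  have hQ₀ : ∀ u : Q, u ∈ Q₀ ↔ E.pr (i u) = 1 := fun u => MonoidHom.mem_ker
  let lam₀ : Q₀ →* ℂ :=
    { toFun := fun u => lam p (E.cd (i u))
      map_one' := by
        show lam p (E.cd (i 1)) = 1
        rw [map_one, E.cd_one, lam_zero]
      map_mul' := fun a b => by
        show lam p (E.cd (i (a * b))) = _
        rw [map_mul, E.cd_mul ((hQ₀ a).1 a.2) ((hQ₀ b).1 b.2), lam_add] }
  have hlam₀ : IsCharacter Q₀ (fun u => lam₀ u) :=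
    isCharacter_of_isIrrCharacter (isIrr_of_hom lam₀.toHomUnits)
  have hΛ : IsCharacter Q (indFun Q₀ (fun u => lam₀ u)) := isCharacter_indFun Q₀ hlam₀
  have hQ0 : (Nat.card Q : ℂ) ≠ 0 := Nat.cast_ne_zero.2 Nat.card_pos.ne'
  have hT0 : (Nat.card Q₀ : ℂ) ≠ 0 := Nat.cast_ne_zero.2 Nat.card_pos.ne'
  have hiinj : Function.Injective i := by
    intro a b hab
    exact Subtype.ext (Subtype.ext hab)
  have hΛval : ∀ (u : Q) (hu : E.pr (i u) = 1), indFun Q₀ (fun u => lam₀ u) u =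
      (Nat.card Q₀ : ℂ)⁻¹ * (Nat.card Q : ℂ) * lam p (E.cd (i u)) := by
    intro u hu
    rw [indFun_apply]
    have h1 : ∀ x : Q, extendByZero Q₀ (fun u => lam₀ u) (x⁻¹ * u * x) = lam p (E.cd (i u)) := by
      intro x
      have hxu : x⁻¹ * u * x = u := by
        apply hiinj
        rw [map_mul, map_mul, map_inv, mul_assoc, E.comm_of_pr_one hu (i x), inv_mul_cancel_left]
      rw [hxu, extendByZero_of_mem _ _ ((hQ₀ u).2 hu)]
      rfl
    simp only [h1, Finset.sum_const, Finset.card_univ, nsmul_eq_mul, ← Nat.card_eq_fintype_card]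
    ring
  have hΛval' : ∀ (u : Q), E.pr (i u) ≠ 1 → indFun Q₀ (fun u => lam₀ u) u = 0 := by
    intro u hu
    rw [indFun_apply]
    have h1 : ∀ x : Q, extendByZero Q₀ (fun u => lam₀ u) (x⁻¹ * u * x) = 0 := by
      intro x
      apply extendByZero_of_notMem
      intro hx
      apply hu
      have h2 := (hQ₀ _).1 hx
      rw [map_mul, map_mul, map_mul, map_mul, map_inv, map_inv] at h2
      have h3 : E.pr (i u) = E.pr (i x) * ((E.pr (i x))⁻¹ * E.pr (i u) * E.pr (i x)) * (E.pr (i x))⁻¹ := by group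
      rw [h3, h2]
      group
    simp [h1]
  -- the average
  obtain ⟨χ₁, χ₂, hχ₁, hχ₂, hϑeq⟩ := hϑ
  let π : Q × L →* G := E.pr.comp (D.subtype.comp Φ.toMonoidHom)
  have hτ₁ : IsCharacter (Q × L) (fun z => χ₁ (π z)) := isCharacter_comp_hom hχ₁ π
  have hτ₂ : IsCharacter (Q × L) (fun z => χ₂ (π z)) := isCharacter_comp_hom hχ₂ π
  have hτ₃ : IsCharacter (Q × L) (1 : Q × L → ℂ) := isCharacter_one
  have hζ : IsGeneralizedCharacter L (fun h => (Nat.card Q : ℂ)⁻¹ * ∑ u : Q, (ϑ (π (u, h)) - 1)) := by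
    have h1 := isGeneralized_sub (isGeneralized_sub (isGeneralized_average hτ₁) (isGeneralized_average hτ₂))
      (isGeneralized_average hτ₃)
    convert h1 using 1
    funext h
    simp only [Pi.sub_apply, Pi.one_apply, hϑeq]
    rw [← mul_sub, ← mul_sub, ← Finset.sum_sub_distrib, ← Finset.sum_sub_distrib]
  have hζval : ∀ h : L, (Nat.card Q : ℂ)⁻¹ * ∑ u : Q, (ϑ (π (u, h)) - 1) =
      (Nat.card Q : ℂ)⁻¹ * (Nat.card Q₀ : ℂ) * (ϑ (E.pr ((h : D) : X)) - 1) := by
    intro h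
    rw [mul_assoc]
    congr 1
    have h1 : ∀ u : Q, ϑ (π (u, h)) - 1 = if u ∈ Q₀ then ϑ (E.pr ((h : D) : X)) - 1 else 0 := by
      intro u
      have h2 : π (u, h) = E.pr (i u) * E.pr ((h : D) : X) := hprΦ u h
      by_cases hu : u ∈ Q₀
      · rw [if_pos hu, h2, (hQ₀ u).1 hu, one_mul]
      · rw [if_neg hu, hsing, sub_self]
        by_contra hreg
        apply hu
        rw [hQ₀]
        have h3 := isPPart_map E.pr (hpart u h)
        have h4 : E.pr ((Φ (u, h) : D) : X) = π (u, h) := rfl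
        rw [h4] at h3
        exact (isPPart_unique (Cfsg.Agent.Lib.Blocks.AbFrob.isPPart_one_of_reg hreg) h3).symm
    rw [Finset.sum_congr rfl fun u _ => h1 u, ← Finset.sum_filter, Finset.sum_const, nsmul_eq_mul]
    congr 2
    rw [← Nat.card_eq_finsetCard]
    exact Nat.card_congr (Equiv.subtypeEquivRight (fun u => by simp))
  have hgen := isGeneralized_of_prod Φ hΛ hζ
  convert hgen using 1
  funext e
  obtain ⟨⟨u, h⟩, rfl⟩ := Φ.surjective e
  simp only [MulEquiv.symm_apply_apply]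
  rw [hζval]
  unfold CE.kap
  rw [pp_eq (hpart u h)]
  by_cases hu : E.pr (i u) = 1
  · rw [if_pos hu, hΛval u hu, hprΦ, hu, one_mul]
    field_simp
  · rw [if_neg hu, hΛval' u hu, zero_mul]

/-- `η` is a generalized character. -/
theorem Ctx.isGen_eta (C : Ctx E t tl) {ϑ : G → ℂ} (hϑ : IsGeneralizedCharacter G ϑ)
    (hcl : IsClassFunction G ϑ) (hsing : ∀ y : G, p ∣ orderOf y → ϑ y = 1) (b : ℤ) :
    IsGeneralizedCharacter X (E.eta tl ϑ b) := by
  refine Cfsg.Agent.Lib.Char.BrauerInd.isGeneralized_of_restrict (C.eta_class hcl b) fun D r hr hD => ?_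
  letI : Fintype D := Fintype.ofFinite _
  have h1 := isGeneralized_add (C.isGen_Ec D r hr hD) (isGeneralized_intCast_smul (C.isGen_kap hϑ hsing D r hr hD) b)
  convert h1 using 1
  funext e
  simp [CE.eta]

end Main

end Cfsg.Agent.Lib.Transfer.AbTwo
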