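import Mathlib
import Cfsg.Agent.Lib.Transfer.AbTwoGen

/-!
# The norm and the real values of `η`
-/

set_option autoImplicit false

namespace Cfsg.Agent.Lib.Transfer.AbTwo

open Cfsg Cfsg.Agent.Lib.Blocks.CentralProd Cfsg.Agent.Lib.Char.Basic Cfsg.Agent.Lib.Char.Induced
  Cfsg.Agent.Lib.Char.IndRep Cfsg.Agent.Lib.Char.LinearChars Cfsg.Agent.Lib.Char.Virtual
  Cfsg.Agent.Lib.Blocks.SecondMain Cfsg.Agent.Lib.Blocks.Sections
open scoped ComplexConjugate

universe u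

section Main

variable {G : Type u} [Group G] [Fintype G] {p : ℕ} [hp : Fact p.Prime] {P : Subgroup G} {F : Form P p}
  {X : Type u} [Group X] [Fintype X] {E : CE F X} {t : G} {tl : X}

/-- The `p`-part of `y` is conjugate into the common kernel of `f₁, f₂`. -/
def R0 (F : Form P p) (y : G) : Prop :=
  ∃ g : G, g * pp p y * g⁻¹ ∈ P ∧ F.f₁ (g * pp p y * g⁻¹) = 0 ∧ F.f₂ (g * pp p y * g⁻¹) = 0

theorem Ctx.form_conj (C : Ctx E t tl) {x g : G} (hx : x ∈ P) (hg : g * x * g⁻¹ ∈ P)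
    (h₁ : F.f₁ x = 0) (h₂ : F.f₂ x = 0) : F.f₁ (g * x * g⁻¹) = 0 ∧ F.f₂ (g * x * g⁻¹) = 0 := by
  rcases C.hF _ _ hx hg with h | h
  · rw [h]
    exact ⟨h₁, h₂⟩
  · rw [h, AddOn.inv F.add₁ hx, AddOn.inv F.add₂ hx, h₁, h₂]
    simp

theorem Ctx.R0_iff (C : Ctx E t tl) {y g : G} (hg : g * pp p y * g⁻¹ ∈ P) :
    R0 F y ↔ (F.f₁ (g * pp p y * g⁻¹) = 0 ∧ F.f₂ (g * pp p y * g⁻¹) = 0) := by
  constructor
  · rintro ⟨g₀, hg₀, h₁, h₂⟩
    have h1 : g * pp p y * g⁻¹ = (g * g₀⁻¹) * (g₀ * pp p y * g₀⁻¹) * (g * g₀⁻¹)⁻¹ := by group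
    rw [h1] at hg ⊢
    exact C.form_conj hg₀ hg h₁ h₂
  · rintro ⟨h₁, h₂⟩
    exact ⟨g, hg, h₁, h₂⟩

theorem pp_of_reg {y : G} (hy : ¬ p ∣ orderOf y) : pp p y = 1 :=
  pp_eq (Cfsg.Agent.Lib.Blocks.AbFrob.isPPart_one_of_reg hy)

theorem reg_of_pp {y : G} (hy : pp p y = 1) : ¬ p ∣ orderOf y := by
  obtain ⟨y', hy', -, -, h⟩ := pp_spec (p := p) y
  rw [hy, one_mul] at hy'
  rwa [hy'] at h

theorem R0_of_reg {y : G} (hy : ¬ p ∣ orderOf y) : R0 F y := by
  refine ⟨1, ?_, ?_, ?_⟩ <;> rw [pp_of_reg hy] <;> simp [f₁_one, f₂_one, P.one_mem]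

theorem sing_of_not_R0 {y : G} (hy : ¬ R0 F y) : p ∣ orderOf y := by
  by_contra h
  exact hy (R0_of_reg h)

open Classical in
/-- The values of `η` on real elements. -/
noncomputable def Ev (F : Form P p) (ϑ : G → ℂ) (b : ℤ) (y : G) : ℂ :=
  if R0 F y then (p : ℂ) + (b : ℂ) * (ϑ y - 1) else 0

theorem thetaF_one (E : CE F X) (tl : X) : E.thetaF tl 1 = (p : ℂ) := by
  rw [E.thetaF_of_zero tl (by rw [map_one, f₁_one]) (by rw [map_one, f₂_one]), mu_aux, mul_one]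

theorem Ctx.Ec_ker (C : Ctx E t tl) {w : X} (h : E.pr (pp p w) = 1) :
    E.Ec tl w = (p : ℂ) * lam p (E.cd (pp p w)) := by
  have h1 : E.pr (1 * pp p w * 1⁻¹) ∈ P := by
    simp only [inv_one, mul_one, one_mul, h, P.one_mem]
  rw [C.Ec_eq h1]
  simp only [inv_one, mul_one, one_mul]
  rw [E.thetaF_of_zero tl (by rw [h, f₁_one]) (by rw [h, f₂_one])]
  congr 1
  conv_lhs => rw [← E.ι_cd h]
  exact C.mu_ι _

theorem Ctx.eta_ker (C : Ctx E t tl) (ϑ : G → ℂ) (b : ℤ) {w : X} (h : E.pr (pp p w) = 1) :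
    E.eta tl ϑ b w = lam p (E.cd (pp p w)) * ((p : ℂ) + (b : ℂ) * (ϑ (E.pr w) - 1)) := by
  classical
  unfold CE.eta
  rw [C.Ec_ker h]
  unfold CE.kap
  rw [if_pos h]
  ring

theorem CE.kap_ne (E : CE F X) (ϑ : G → ℂ) {w : X} (h : E.pr (pp p w) ≠ 1) : E.kap ϑ w = 0 := by
  classical
  unfold CE.kap
  rw [if_neg h]

/-- The norm of a value of `η`. -/
theorem Ctx.eta_norm (C : Ctx E t tl) {ϑ : G → ℂ} (hsing : ∀ y : G, p ∣ orderOf y → ϑ y = 1) (b : ℤ) (w : X) :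
    E.eta tl ϑ b w * conj (E.eta tl ϑ b w) = Ev F ϑ b (E.pr w) * conj (Ev F ϑ b (E.pr w)) := by
  classical
  by_cases h : E.pr (pp p w) = 1
  · have hy : ¬ p ∣ orderOf (E.pr w) := by
      apply reg_of_pp
      rw [← E.pr_pp, h]
    unfold Ev
    rw [C.eta_ker ϑ b h, if_pos (R0_of_reg hy), map_mul]
    calc _ = (lam p (E.cd (pp p w)) * conj (lam p (E.cd (pp p w)))) *
          (((p : ℂ) + (b : ℂ) * (ϑ (E.pr w) - 1)) * conj ((p : ℂ) + (b : ℂ) * (ϑ (E.pr w) - 1))) := by ring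
      _ = _ := by rw [lam_mul_conj, one_mul]
  · have hy : p ∣ orderOf (E.pr w) := by
      by_contra hc
      apply h
      rw [E.pr_pp, pp_of_reg hc]
    unfold CE.eta
    rw [E.kap_ne ϑ h, mul_zero, add_zero]
    obtain ⟨g, hg⟩ := C.exists_conj w
    rw [C.Ec_eq hg]
    have hg' : E.pr g * pp p (E.pr w) * (E.pr g)⁻¹ ∈ P := by
      have := hg
      simpa only [map_mul, map_inv, E.pr_pp] using this
    have hpr : E.pr (g * pp p w * g⁻¹) = E.pr g * pp p (E.pr w) * (E.pr g)⁻¹ := by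
      simp only [map_mul, map_inv, E.pr_pp]
    unfold Ev
    by_cases hform : F.f₁ (E.pr (g * pp p w * g⁻¹)) = 0 ∧ F.f₂ (E.pr (g * pp p w * g⁻¹)) = 0
    · have hR : R0 F (E.pr w) := by
        rw [C.R0_iff hg', ← hpr]
        exact hform
      rw [if_pos hR, E.thetaF_of_zero tl hform.1 hform.2, hsing _ hy, sub_self, mul_zero, add_zero, map_mul]
      unfold CE.mu
      calc _ = ((p : ℂ) * conj (p : ℂ)) * (lam p ((2 : ZMod p)⁻¹ * E.cd (g * pp p w * g⁻¹ * (tl * (g * pp p w * g⁻¹) * tl⁻¹))) *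
            conj (lam p ((2 : ZMod p)⁻¹ * E.cd (g * pp p w * g⁻¹ * (tl * (g * pp p w * g⁻¹) * tl⁻¹))))) := by ring
        _ = _ := by rw [lam_mul_conj, mul_one]
    · have hR : ¬ R0 F (E.pr w) := by
        rw [C.R0_iff hg', ← hpr]
        exact hform
      rw [if_neg hR, E.thetaF_of_ne tl hform]

/-- Sums over `X` of functions factoring through the projection. -/
theorem CE.sum_pr (E : CE F X) (g : G → ℂ) : ∑ w : X, g (E.pr w) = (p : ℂ) * ∑ y : G, g y := by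
  classical
  choose s hs using E.pr_surj
  let ψ : G × Multiplicative (ZMod p) → X := fun z => s z.1 * E.ι z.2
  have hψ : Function.Bijective ψ := by
    constructor
    · rintro ⟨y₁, a₁⟩ ⟨y₂, a₂⟩ h
      have h1 : E.pr (ψ (y₁, a₁)) = E.pr (ψ (y₂, a₂)) := by rw [h]
      have hpr : ∀ y a, E.pr (ψ (y, a)) = y := by
        intro y a
        show E.pr (s y * E.ι a) = y
        rw [map_mul, hs, E.pr_ι, mul_one]
      rw [hpr, hpr] at h1
      subst h1
      have h2 : s y₁ * E.ι a₁ = s y₁ * E.ι a₂ := h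
      exact Prod.ext rfl (E.ι_inj (mul_left_cancel h2))
    · intro w
      have h1 : E.pr ((s (E.pr w))⁻¹ * w) = 1 := by
        rw [map_mul, map_inv, hs, inv_mul_cancel]
      obtain ⟨a, ha⟩ := (E.ker_iff _).1 h1
      refine ⟨(E.pr w, a), ?_⟩
      show s (E.pr w) * E.ι a = w
      rw [ha]
      group
  have hpr : ∀ z, E.pr (ψ z) = z.1 := by
    intro z
    show E.pr (s z.1 * E.ι z.2) = z.1
    rw [map_mul, hs, E.pr_ι, mul_one]
  rw [← hψ.sum_comp (fun w => g (E.pr w))]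
  simp only [hpr]
  rw [Fintype.sum_prod_type_right]
  simp only [Finset.sum_const, Finset.card_univ, nsmul_eq_mul]
  rw [(Fintype.card_congr Multiplicative.toAdd).trans (ZMod.card p)]

/-- The class sum identity for signed irreducibles. -/
theorem signed_double_sum {θ : X → ℂ} (h : IsSignedIrr X θ) (x : X) :
    θ 1 * ∑ a : X, ∑ b : X, θ (a * x * a⁻¹ * (b * x * b⁻¹)) = (Nat.card X : ℂ) ^ 2 * (θ x) ^ 2 := by
  classical
  obtain ⟨ε, χ, hε, hχ, rfl⟩ := h.exists_sign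
  have hcl : IsClassFunction X χ := Cfsg.Agent.Lib.Blocks.Central.isClassFunction_of_irr hχ
  have h1 : ∀ y : X, χ 1 * ∑ a : X, χ (a * x * a⁻¹ * y) = (Nat.card X : ℂ) * (χ x * χ y) :=
    fun y => Cfsg.Agent.Lib.Char.ClassMul.irr_one_mul_sum ⟨χ, hχ⟩ x y
  have h2 : χ 1 * ∑ a : X, ∑ b : X, χ (a * x * a⁻¹ * (b * x * b⁻¹)) = (Nat.card X : ℂ) ^ 2 * (χ x) ^ 2 := by
    rw [Finset.sum_comm, Finset.mul_sum]
    rw [Finset.sum_congr rfl fun b _ => h1 (b * x * b⁻¹)]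
    simp only [hcl x]
    simp only [Finset.sum_const, Finset.card_univ, nsmul_eq_mul, ← Nat.card_eq_fintype_card]
    ring
  have hε2 : ε * ε = 1 := by
    rcases hε with rfl | rfl <;> norm_num
  simp only [Pi.smul_apply, smul_eq_mul]
  simp only [← Finset.mul_sum]
  calc ε * χ 1 * (ε * ∑ a : X, ∑ b : X, χ (a * x * a⁻¹ * (b * x * b⁻¹)))
      = (ε * ε) * (χ 1 * ∑ a : X, ∑ b : X, χ (a * x * a⁻¹ * (b * x * b⁻¹))) := by ring
    _ = (Nat.card X : ℂ) ^ 2 * (χ x) ^ 2 := by rw [hε2, one_mul, h2]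
    _ = (Nat.card X : ℂ) ^ 2 * (ε * χ x) ^ 2 := by
        rw [mul_pow, pow_two ε, hε2, one_mul]

/-- The norm of `η`. -/
theorem Ctx.classInner_eta (C : Ctx E t tl) {ϑ : G → ℂ} (hsing : ∀ y : G, p ∣ orderOf y → ϑ y = 1)
    (hsum0 : ∑ y : G, ϑ y = 0) (hsumn : ∑ y : G, ϑ y * conj (ϑ y) = (Nat.card G : ℂ))
    (hN : (p : ℂ) ^ 2 * (Nat.card {y : G // ¬ R0 F y} : ℂ) * 2 = (Nat.card G : ℂ) * ((p : ℂ) ^ 2 - 1))
    (b : ℤ) (hb : 2 * b = (p : ℤ) - 1 ∨ 2 * b = (p : ℤ) + 1) :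
    classInner (E.eta tl ϑ b) (E.eta tl ϑ b) = 1 := by
  classical
  have hG0 : (Nat.card G : ℂ) ≠ 0 := Nat.cast_ne_zero.2 Nat.card_pos.ne'
  have hp0 : (p : ℂ) ≠ 0 := Nat.cast_ne_zero.2 hp.out.ne_zero
  rw [Cfsg.Agent.Lib.Char.Induced.classInner_def]
  simp only [C.eta_norm hsing]
  rw [E.sum_pr (fun y => Ev F ϑ b y * conj (Ev F ϑ b y)), E.card]
  push_cast
  have hb' : ((2 : ℂ) * b = (p : ℂ) - 1) ∨ ((2 : ℂ) * b = (p : ℂ) + 1) := by
    rcases hb with h | h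
    · left
      exact_mod_cast congrArg (Int.cast : ℤ → ℂ) h
    · right
      exact_mod_cast congrArg (Int.cast : ℤ → ℂ) h
  -- the sum over `G`
  set a : ℂ := (p : ℂ) - (b : ℂ) with ha
  have hsplit : ∀ y : G, Ev F ϑ b y * conj (Ev F ϑ b y) =
      (a + b * ϑ y) * (a + b * conj (ϑ y)) - if ¬ R0 F y then (p : ℂ) ^ 2 else 0 := by
    intro y
    unfold Ev
    by_cases hy : R0 F y
    · rw [if_pos hy, if_neg (not_not.2 hy), sub_zero]
      simp only [map_add, map_mul, map_sub, Complex.conj_natCast, map_intCast, map_one, ha]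
      ring
    · have h1 := hsing y (sing_of_not_R0 hy)
      rw [if_neg hy, if_pos hy, h1]
      simp only [map_zero, mul_zero, map_one, mul_one, ha]
      ring
  have hNdef : (Finset.univ.filter (fun y : G => ¬ R0 F y)).card = Nat.card {y : G // ¬ R0 F y} := by
    rw [Nat.card_eq_fintype_card, Fintype.card_subtype]
  rw [Finset.sum_congr rfl fun y _ => hsplit y, Finset.sum_sub_distrib, Finset.sum_ite, Finset.sum_const_zero,
    add_zero, Finset.sum_const, hNdef, nsmul_eq_mul]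
  have h1 : ∑ y : G, (a + b * ϑ y) * (a + b * conj (ϑ y)) =
      (a ^ 2 + (b : ℂ) ^ 2) * (Nat.card G : ℂ) := by
    have h2 : ∀ y : G, (a + b * ϑ y) * (a + b * conj (ϑ y)) =
        a ^ 2 + a * b * ϑ y + a * b * conj (ϑ y) + (b : ℂ) ^ 2 * (ϑ y * conj (ϑ y)) := fun y => by ring
    rw [Finset.sum_congr rfl fun y _ => h2 y, Finset.sum_add_distrib, Finset.sum_add_distrib, Finset.sum_add_distrib,
      ← Finset.mul_sum, ← Finset.mul_sum, ← Finset.mul_sum, hsum0, hsumn, ← map_sum, hsum0, map_zero,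
      Finset.sum_const, Finset.card_univ, nsmul_eq_mul, ← Nat.card_eq_fintype_card]
    ring
  rw [h1]
  have h3 : 2 * (a ^ 2 + (b : ℂ) ^ 2) = (p : ℂ) ^ 2 + 1 := by
    rcases hb' with h | h
    · simp only [ha]
      linear_combination ((2 : ℂ) * b - (p : ℂ) - 1) * h
    · simp only [ha]
      linear_combination ((2 : ℂ) * b - (p : ℂ) + 1) * h
  field_simp
  linear_combination (1 / 2 : ℂ) * ((Nat.card G : ℂ) * h3 - hN)

/-- Real elements of the extension: the value of `η` at a product of two involutions. -/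
theorem Ctx.eta_real (C : Ctx E t tl) {ϑ : G → ℂ} (hsing : ∀ y : G, p ∣ orderOf y → ϑ y = 1) (b : ℤ)
    {j₁ j₂ : X} (h₁ : j₁ * j₁ = 1) (h₂ : j₂ * j₂ = 1) :
    E.eta tl ϑ b (j₁ * j₂) = Ev F ϑ b (E.pr (j₁ * j₂)) := by
  classical
  set w := j₁ * j₂ with hw
  have hj₁ : j₁⁻¹ = j₁ := inv_eq_of_mul_eq_one_left h₁
  have hj₂ : j₂⁻¹ = j₂ := inv_eq_of_mul_eq_one_left h₂
  have hinv : j₁ * w * j₁⁻¹ = w⁻¹ := by
    rw [hw, hj₁, mul_inv_rev, hj₁, hj₂, ← mul_assoc, h₁, one_mul]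
  have hu : j₁ * pp p w * j₁⁻¹ = (pp p w)⁻¹ := by
    rw [← pp_conj, hinv]
    exact pp_eq (isPPart_inv (pp_spec w))
  by_cases h : E.pr (pp p w) = 1
  · have hy : ¬ p ∣ orderOf (E.pr w) := by
      apply reg_of_pp
      rw [← E.pr_pp, h]
    -- the central `p`-part is trivial
    have h0 : pp p w = 1 := by
      have h1 := E.comm_of_pr_one h j₁
      have h2 : pp p w = (pp p w)⁻¹ := by
        rw [← hu, ← h1, mul_inv_cancel_right]
      have h3 : E.ι (Multiplicative.ofAdd (E.cd (pp p w))) = pp p w := E.ι_cd h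
      have h4 : E.cd (pp p w) + E.cd (pp p w) = 0 := by
        have h5 := E.cd_mul h h
        rw [mul_eq_one_iff_eq_inv.2 h2, E.cd_one] at h5
        exact h5.symm
      have h6 : E.cd (pp p w) = 0 := by
        have h7 : (2 : ZMod p) * E.cd (pp p w) = 0 := by rw [two_mul]; exact h4
        exact (mul_eq_zero.1 h7).resolve_left (two_ne_zero_zmod C.hp2)
      rw [← h3, h6]
      simp
    rw [C.eta_ker ϑ b h, h0, E.cd_one, lam_zero, one_mul]
    unfold Ev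
    rw [if_pos (R0_of_reg hy)]
  · have hy : p ∣ orderOf (E.pr w) := by
      by_contra hc
      apply h
      rw [E.pr_pp, pp_of_reg hc]
    unfold CE.eta
    rw [E.kap_ne ϑ h, mul_zero, add_zero]
    obtain ⟨g, hg⟩ := C.exists_conj w
    rw [C.Ec_eq hg]
    have hg' : E.pr g * pp p (E.pr w) * (E.pr g)⁻¹ ∈ P := by
      have := hg
      simpa only [map_mul, map_inv, E.pr_pp] using this
    have hpr : E.pr (g * pp p w * g⁻¹) = E.pr g * pp p (E.pr w) * (E.pr g)⁻¹ := by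
      simp only [map_mul, map_inv, E.pr_pp]
    unfold Ev
    set v := g * pp p w * g⁻¹ with hv
    by_cases hform : F.f₁ (E.pr v) = 0 ∧ F.f₂ (E.pr v) = 0
    · have hR : R0 F (E.pr w) := by
        rw [C.R0_iff hg', ← hpr]
        exact hform
      rw [if_pos hR, E.thetaF_of_zero tl hform.1 hform.2, hsing _ hy, sub_self, mul_zero, add_zero]
      -- `μ v = 1`
      set j' := g * j₁ * g⁻¹ with hj'
      have hinvv : j' * v * j'⁻¹ = v⁻¹ := by
        have h1 : j' * v * j'⁻¹ = g * (j₁ * pp p w * j₁⁻¹) * g⁻¹ := by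
          rw [hj', hv]
          group
        rw [h1, hu, hv]
        group
      set c := tl⁻¹ * j' with hc
      have hj'c : j' = tl * c := by rw [hc]; group
      have hcpr : E.pr c * E.pr v = E.pr v * E.pr c := by
        have h3 : E.pr c = t⁻¹ * E.pr j' := by rw [hc, map_mul, map_inv, C.htl]
        have h4 := C.t_inv (inv_mem hg)
        rw [inv_inv] at h4
        have h5 : E.pr j' * E.pr v * (E.pr j')⁻¹ = (E.pr v)⁻¹ := by
          have := congrArg E.pr hinvv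
          simpa only [map_mul, map_inv] using this
        calc E.pr c * E.pr v = t⁻¹ * (E.pr j' * E.pr v * (E.pr j')⁻¹) * E.pr j' := by rw [h3]; group
          _ = t⁻¹ * (E.pr v)⁻¹ * E.pr j' := by rw [h5]
          _ = (t⁻¹ * (E.pr v)⁻¹ * t) * (t⁻¹ * E.pr j') := by group
          _ = E.pr v * E.pr c := by rw [h4, h3]
      have h6 := C.commC hg hform.1 hform.2 hcpr
      have h7 : tl * v * tl⁻¹ = v⁻¹ := by
        rw [← hinvv, hj'c]
        calc tl * v * tl⁻¹ = tl * (v * c) * c⁻¹ * tl⁻¹ := by group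
          _ = tl * (c * v) * c⁻¹ * tl⁻¹ := by rw [h6]
          _ = _ := by group
      unfold CE.mu
      rw [h7, mul_inv_cancel, E.cd_one, mul_zero, lam_zero, mul_one]
    · have hR : ¬ R0 F (E.pr w) := by
        rw [C.R0_iff hg', ← hpr]
        exact hform
      rw [if_neg hR, E.thetaF_of_ne tl hform]

/-- Involutions lift to involutions. -/
theorem Ctx.exists_lift (C : Ctx E t tl) {i : G} (hi : i * i = 1) : ∃ j : X, E.pr j = i ∧ j * j = 1 := by
  obtain ⟨w, rfl⟩ := E.pr_surj i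
  have h1 : E.pr (w * w) = 1 := by rwa [map_mul]
  have h2 := E.ι_cd h1
  set z := E.cd (w * w) with hz
  refine ⟨w * E.ι (Multiplicative.ofAdd (-(2 : ZMod p)⁻¹ * z)), ?_, ?_⟩
  · rw [map_mul, E.pr_ι, mul_one]
  · set c := E.ι (Multiplicative.ofAdd (-(2 : ZMod p)⁻¹ * z)) with hc
    have h3 : c * w = w * c := E.central _ _
    have h4 : c * c * (w * w) = 1 := by
      rw [← h2, hc, ← E.ι.map_mul, ← E.ι.map_mul, ← ofAdd_add, ← ofAdd_add]
      have h5 : -(2 : ZMod p)⁻¹ * z + -(2 : ZMod p)⁻¹ * z + z = 0 := by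
        have h6 := two_ne_zero_zmod C.hp2
        field_simp
        ring
      rw [h5]
      simp
    calc w * c * (w * c) = (c * c) * (w * w) := by
          calc w * c * (w * c) = w * (c * w) * c := by simp only [mul_assoc]
            _ = w * (w * c) * c := by rw [h3]
            _ = (w * w) * (c * c) := by simp only [mul_assoc]
            _ = (c * c) * (w * w) :=
                (E.comm_of_pr_one (by rw [map_mul, hc, E.pr_ι, mul_one]) _).symm
      _ = 1 := h4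

/-- The identity given by the class sum of an involution. -/
theorem Ctx.eta_identity (C : Ctx E t tl) {ϑ : G → ℂ} (hsing : ∀ y : G, p ∣ orderOf y → ϑ y = 1)
    (b : ℤ) (hθ : IsSignedIrr X (E.eta tl ϑ b)) {i : G} (hi : i * i = 1) :
    ((p : ℂ) + (b : ℂ) * (ϑ 1 - 1)) * ∑ h₁ : G, ∑ h₂ : G, Ev F ϑ b (h₁ * i * h₁⁻¹ * (h₂ * i * h₂⁻¹)) =
      (Nat.card G : ℂ) ^ 2 * ((p : ℂ) + (b : ℂ) * (ϑ i - 1)) ^ 2 ∧ (p : ℂ) + (b : ℂ) * (ϑ 1 - 1) ≠ 0 := by
  classical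
  have hp0 : (p : ℂ) ≠ 0 := Nat.cast_ne_zero.2 hp.out.ne_zero
  obtain ⟨j, hj, hjj⟩ := C.exists_lift hi
  have hev1 : E.eta tl ϑ b 1 = (p : ℂ) + (b : ℂ) * (ϑ 1 - 1) := by
    have := C.eta_real hsing b (j₁ := 1) (j₂ := 1) (by simp) (by simp)
    rw [mul_one, map_one] at this
    rw [this]
    unfold Ev
    rw [if_pos (R0_of_reg (by rw [orderOf_one]; exact fun h => hp.out.one_lt.ne' (Nat.dvd_one.1 h)))]
  have hreg : ¬ p ∣ orderOf i := by
    intro hd
    have h1 : orderOf i ∣ 2 := orderOf_dvd_of_pow_eq_one (by rw [pow_two]; exact hi)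
    exact C.hp2 ((Nat.prime_dvd_prime_iff_eq hp.out Nat.prime_two).1 (hd.trans h1))
  have hevj : E.eta tl ϑ b j = (p : ℂ) + (b : ℂ) * (ϑ i - 1) := by
    have := C.eta_real hsing b (j₁ := j) (j₂ := 1) hjj (by simp)
    rw [mul_one, hj] at this
    rw [this]
    unfold Ev
    rw [if_pos (R0_of_reg hreg)]
  have hne : (p : ℂ) + (b : ℂ) * (ϑ 1 - 1) ≠ 0 := by
    rw [← hev1]
    obtain ⟨ε, χ, hε, hχ, hη⟩ := hθ.exists_sign
    rw [hη]
    simp only [Pi.smul_apply, smul_eq_mul]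
    refine mul_ne_zero ?_ (Cfsg.Agent.Lib.Char.Ortho.irr_apply_one_ne_zero hχ)
    rcases hε with rfl | rfl <;> norm_num
  refine ⟨?_, hne⟩
  have h1 := signed_double_sum hθ j
  rw [hev1, hevj] at h1
  have h2 : ∀ a b' : X, E.eta tl ϑ b (a * j * a⁻¹ * (b' * j * b'⁻¹)) =
      (fun (h₁ : G) => (fun (h₂ : G) => Ev F ϑ b (h₁ * i * h₁⁻¹ * (h₂ * i * h₂⁻¹))) (E.pr b')) (E.pr a) := by
    intro a b'
    have hconj : ∀ c : X, (c * j * c⁻¹) * (c * j * c⁻¹) = 1 := by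
      intro c
      calc (c * j * c⁻¹) * (c * j * c⁻¹) = c * (j * j) * c⁻¹ := by group
        _ = 1 := by rw [hjj]; group
    rw [C.eta_real hsing b (hconj a) (hconj b')]
    simp only [map_mul, map_inv, hj]
  simp only [h2] at h1
  have h3 : ∀ a : X, ∑ b' : X, (fun (h₂ : G) => Ev F ϑ b (E.pr a * i * (E.pr a)⁻¹ * (h₂ * i * h₂⁻¹))) (E.pr b') =
      (p : ℂ) * ∑ h₂ : G, Ev F ϑ b (E.pr a * i * (E.pr a)⁻¹ * (h₂ * i * h₂⁻¹)) :=
    fun a => E.sum_pr (fun h₂ => Ev F ϑ b (E.pr a * i * (E.pr a)⁻¹ * (h₂ * i * h₂⁻¹)))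
  simp only [h3] at h1
  rw [← Finset.mul_sum, E.sum_pr (fun h₁ => ∑ h₂ : G, Ev F ϑ b (h₁ * i * h₁⁻¹ * (h₂ * i * h₂⁻¹))), E.card] at h1
  push_cast at h1
  have hp2 : (p : ℂ) ^ 2 ≠ 0 := pow_ne_zero _ hp0
  apply mul_left_cancel₀ hp2
  linear_combination h1

end Main

end Cfsg.Agent.Lib.Transfer.AbTwo
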