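import Mathlib
import Cfsg.Agent.Lib.Transfer.AbTwoNorm

/-!
# The consequence of the class sums: `(1 - ϑ 1) (ϑ i - ϑ 1)² = 0`
-/

set_option autoImplicit false

namespace Cfsg.Agent.Lib.Transfer.AbTwo

open Cfsg Cfsg.Agent.Lib.Blocks.CentralProd Cfsg.Agent.Lib.Char.Basic Cfsg.Agent.Lib.Char.Induced
  Cfsg.Agent.Lib.Char.IndRep Cfsg.Agent.Lib.Char.LinearChars Cfsg.Agent.Lib.Char.Virtual
  Cfsg.Agent.Lib.Blocks.SecondMain Cfsg.Agent.Lib.Blocks.Sections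
open scoped ComplexConjugate

universe u

/-- The algebra. -/
theorem alg_key {A B D s n₁ n₂ N : ℂ} (hAB : A = B + 1) (hA : A ≠ 0) (hB : B ≠ 0) (hN : N ≠ 0)
    (e1 : (A + B * D) * (A * n₁ + B * n₂) = N * (A + B * s) ^ 2)
    (e2 : (B + A * D) * (B * n₁ + A * n₂) = N * (B + A * s) ^ 2)
    (e3 : D * (n₂ + N - n₁) = N * s ^ 2) :
    (1 - D) * (s - D) ^ 2 = 0 := by
  subst hAB
  have h : (B + 1) * B * N * ((1 - D) * (s - D) ^ 2) = 0 := by
    linear_combination (-D * (B + (B + 1) * D)) * e1 + (D * ((B + 1) + B * D)) * e2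
      - (((B + 1) + B * D) * (B + (B + 1) * D)) * e3
  have h2 : (B + 1) * B * N ≠ 0 := mul_ne_zero (mul_ne_zero hA hB) hN
  exact (mul_eq_zero.1 h).resolve_left h2

section Main

variable {G : Type u} [Group G] [Fintype G] {p : ℕ} [hp : Fact p.Prime] {P : Subgroup G} {F : Form P p}
  {X : Type u} [Group X] [Fintype X] {E : CE F X} {t : G} {tl : X}

theorem Ctx.key (C : Ctx E t tl) {ϑ : G → ℂ} (hϑ : IsSignedIrr G ϑ)
    (hsing : ∀ y : G, p ∣ orderOf y → ϑ y = 1) (hsum0 : ∑ y : G, ϑ y = 0)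
    (hN : (p : ℂ) ^ 2 * (Nat.card {y : G // ¬ R0 F y} : ℂ) * 2 = (Nat.card G : ℂ) * ((p : ℂ) ^ 2 - 1))
    {i : G} (hi : i * i = 1) : (1 - ϑ 1) * (ϑ i - ϑ 1) ^ 2 = 0 := by
  classical
  have hG0 : (Nat.card G : ℂ) ≠ 0 := Nat.cast_ne_zero.2 Nat.card_pos.ne'
  obtain ⟨k, hk⟩ : ∃ k : ℕ, p = 2 * k + 1 := by
    obtain h | h := hp.out.eq_two_or_odd'
    · exact absurd h C.hp2
    · exact h
  have hk0 : k ≠ 0 := by
    rintro rfl
    exact hp.out.one_lt.ne' (by simpa using hk)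
  obtain ⟨ε₀, χ₀, hε₀, hχ₀, hϑeq⟩ := hϑ.exists_sign
  have hcl : IsClassFunction G ϑ := by
    intro g h
    rw [hϑeq]
    simp only [Pi.smul_apply, smul_eq_mul]
    rw [Cfsg.Agent.Lib.Blocks.Central.isClassFunction_of_irr hχ₀]
  have hsumn : ∑ y : G, ϑ y * conj (ϑ y) = (Nat.card G : ℂ) := by
    have h1 := hϑ.classInner_self
    rw [Cfsg.Agent.Lib.Char.Induced.classInner_def] at h1
    field_simp at h1
    exact h1
  have hpk : (p : ℂ) = 2 * (k : ℂ) + 1 := by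
    rw [hk]
    push_cast
    ring
  have hη : ∀ b : ℤ, (2 * b = (p : ℤ) - 1 ∨ 2 * b = (p : ℤ) + 1) → IsSignedIrr X (E.eta tl ϑ b) := fun b hb =>
    isSignedIrr_of_norm_one (C.isGen_eta hϑ.isGeneralized hcl hsing b) (C.classInner_eta hsing hsum0 hsumn hN b hb)
  have e1 := (C.eta_identity hsing (k : ℤ) (hη k (Or.inl (by rw [hk]; push_cast; ring))) hi).1
  have e2 := (C.eta_identity hsing ((k : ℤ) + 1) (hη (k + 1) (Or.inr (by rw [hk]; push_cast; ring))) hi).1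
  have e3 := signed_double_sum hϑ i
  set r : G → ℂ := fun y => if R0 F y then 1 else 0 with hr
  set n₁ : ℂ := ∑ h₁ : G, ∑ h₂ : G, r (h₁ * i * h₁⁻¹ * (h₂ * i * h₂⁻¹)) with hn₁
  set n₂ : ℂ := ∑ h₁ : G, ∑ h₂ : G, r (h₁ * i * h₁⁻¹ * (h₂ * i * h₂⁻¹)) * ϑ (h₁ * i * h₁⁻¹ * (h₂ * i * h₂⁻¹)) with hn₂
  have hEv : ∀ b : ℤ, ∑ h₁ : G, ∑ h₂ : G, Ev F ϑ b (h₁ * i * h₁⁻¹ * (h₂ * i * h₂⁻¹)) =
      ((p : ℂ) - (b : ℂ)) * n₁ + (b : ℂ) * n₂ := by
    intro b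
    rw [hn₁, hn₂, Finset.mul_sum, Finset.mul_sum, ← Finset.sum_add_distrib]
    refine Finset.sum_congr rfl fun h₁ _ => ?_
    rw [Finset.mul_sum, Finset.mul_sum, ← Finset.sum_add_distrib]
    refine Finset.sum_congr rfl fun h₂ _ => ?_
    unfold Ev
    simp only [hr]
    split_ifs
    · ring
    · ring
  have hϑsum : ∑ a : G, ∑ b : G, ϑ (a * i * a⁻¹ * (b * i * b⁻¹)) = n₂ + (Nat.card G : ℂ) ^ 2 - n₁ := by
    have h1 : ∀ a b : G, ϑ (a * i * a⁻¹ * (b * i * b⁻¹)) = r (a * i * a⁻¹ * (b * i * b⁻¹)) * ϑ (a * i * a⁻¹ * (b * i * b⁻¹)) + 1 - r (a * i * a⁻¹ * (b * i * b⁻¹)) := by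
      intro a b
      simp only [hr]
      split_ifs with h
      · ring
      · rw [hsing _ (sing_of_not_R0 h)]
        ring
    rw [Finset.sum_congr rfl fun a _ => Finset.sum_congr rfl fun b _ => h1 a b]
    simp only [Finset.sum_sub_distrib, Finset.sum_add_distrib]
    simp only [Finset.sum_const, Finset.card_univ, nsmul_eq_mul, mul_one, ← Nat.card_eq_fintype_card]
    ring
  rw [hEv] at e1 e2
  rw [hϑsum] at e3
  have hA : ((k : ℂ) + 1) ≠ 0 := by exact_mod_cast Nat.succ_ne_zero k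
  have hB : (k : ℂ) ≠ 0 := Nat.cast_ne_zero.2 hk0
  push_cast at e1 e2
  refine alg_key (A := (k : ℂ) + 1) (B := k) (D := ϑ 1) (s := ϑ i) (n₁ := n₁) (n₂ := n₂)
    (N := (Nat.card G : ℂ) ^ 2) rfl hA hB (pow_ne_zero _ hG0) ?_ ?_ ?_
  · rw [hpk] at e1
    linear_combination e1
  · rw [hpk] at e2
    linear_combination e2
  · linear_combination e3

end Main

end Cfsg.Agent.Lib.Transfer.AbTwo
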