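import Mathlib
import Cfsg.Agent.Lib.Transfer.AbTwoKey
import Cfsg.Agent.Lib.Blocks.AbFrob4

/-!
# The set-up: the form on `P`, the hypotheses of the block theory and of the extension
-/

set_option autoImplicit false

namespace Cfsg.Agent.Lib.Transfer.AbTwo

open Cfsg Cfsg.Agent.Lib.Blocks.AbFrob Cfsg.Agent.Lib.Blocks.Sections

universe u

section Form

variable {G : Type u} [Group G] [Finite G] {p : ℕ} [hp : Fact p.Prime]

/-- A noncyclic abelian Sylow subgroup carries a form. -/
theorem exists_form (P : Sylow p G) (hab : IsMulCommutative (P : Subgroup G))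
    (hnc : ¬ IsCyclic (P : Subgroup G)) : Nonempty (Form (P : Subgroup G) p) := by
  classical
  letI : CommGroup ↥(P : Subgroup G) :=
    { (inferInstance : Group ↥(P : Subgroup G)) with mul_comm := hab.is_comm.comm }
  obtain ⟨ι, hι, n, hn, ⟨φ⟩⟩ := CommGroup.equiv_prod_multiplicative_zmod_of_finite ↥(P : Subgroup G)
  have h2 : ∃ i j : ι, i ≠ j := by
    by_contra hc
    push Not at hc
    haveI hs : Subsingleton ι := ⟨hc⟩
    apply hnc
    rcases isEmpty_or_nonempty ι with he | ⟨⟨i⟩⟩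
    · haveI : Subsingleton ((i : ι) → Multiplicative (ZMod (n i))) := inferInstance
      haveI : Subsingleton ↥(P : Subgroup G) := φ.toEquiv.subsingleton
      exact isCyclic_of_subsingleton
    · haveI : IsCyclic (Multiplicative (ZMod (n i))) := inferInstance
      let f : Multiplicative (ZMod (n i)) →* ↥(P : Subgroup G) :=
        { toFun := fun a => φ.symm (fun k => (Subsingleton.elim i k) ▸ a)
          map_one' := by
            apply φ.injective
            simp only [MulEquiv.apply_symm_apply, map_one]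
            funext k
            obtain rfl := Subsingleton.elim i k
            rfl
          map_mul' := fun a b => by
            apply φ.injective
            simp only [MulEquiv.apply_symm_apply, map_mul]
            funext k
            obtain rfl := Subsingleton.elim i k
            rfl }
      refine isCyclic_of_surjective f fun x => ?_
      refine ⟨φ x i, ?_⟩
      apply φ.injective
      show φ (φ.symm _) = φ x
      rw [MulEquiv.apply_symm_apply]
      funext k
      obtain rfl := Subsingleton.elim i k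
      rfl
  obtain ⟨i, j, hij⟩ := h2
  have hdvd : ∀ k : ι, p ∣ n k := by
    intro k
    let f : ↥(P : Subgroup G) →* Multiplicative (ZMod (n k)) :=
      (Pi.evalMonoidHom _ k).comp φ.toMonoidHom
    have hf : Function.Surjective f := by
      intro a
      refine ⟨φ.symm (Function.update 1 k a), ?_⟩
      show φ (φ.symm _) k = a
      rw [MulEquiv.apply_symm_apply, Function.update_self]
    have h3 := Subgroup.card_dvd_of_surjective f hf
    haveI : NeZero (n k) := ⟨by have := hn k; omega⟩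
    have h4 : Nat.card (Multiplicative (ZMod (n k))) = n k := by
      rw [Nat.card_congr Multiplicative.toAdd, Nat.card_zmod]
    rw [h4] at h3
    obtain ⟨a, ha⟩ := IsPGroup.iff_card.1 P.isPGroup'
    rw [ha] at h3
    obtain ⟨b, -, hb⟩ := (Nat.dvd_prime_pow hp.out).1 h3
    have hb0 : b ≠ 0 := by
      rintro rfl
      have := hn k
      rw [hb, pow_zero] at this
      omega
    rw [hb]
    exact dvd_pow_self p hb0
  let c : ι → ↥(P : Subgroup G) → ZMod p := fun k x =>
    ZMod.castHom (hdvd k) (ZMod p) (Multiplicative.toAdd (φ x k))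
  have hcadd : ∀ k x y, c k (x * y) = c k x + c k y := by
    intro k x y
    show ZMod.castHom (hdvd k) (ZMod p) (Multiplicative.toAdd (φ (x * y) k)) = _
    rw [map_mul, Pi.mul_apply, toAdd_mul, map_add]
  let g : ι → G → ZMod p := fun k x => if h : x ∈ (P : Subgroup G) then c k ⟨x, h⟩ else 0
  have hg : ∀ k x (h : x ∈ (P : Subgroup G)), g k x = c k ⟨x, h⟩ := fun k x h => dif_pos h
  refine ⟨⟨g i, g j, ?_, ?_, ?_⟩⟩
  · intro x hx y hy
    rw [hg _ _ hx, hg _ _ hy, hg _ _ (mul_mem hx hy)]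
    exact hcadd i ⟨x, hx⟩ ⟨y, hy⟩
  · intro x hx y hy
    rw [hg _ _ hx, hg _ _ hy, hg _ _ (mul_mem hx hy)]
    exact hcadd j ⟨x, hx⟩ ⟨y, hy⟩
  · intro a b
    obtain ⟨a', ha'⟩ := ZMod.castHom_surjective (hdvd i) a
    obtain ⟨b', hb'⟩ := ZMod.castHom_surjective (hdvd j) b
    let v : (k : ι) → Multiplicative (ZMod (n k)) :=
      Function.update (Function.update 1 i (Multiplicative.ofAdd a')) j (Multiplicative.ofAdd b')
    have hvi : v i = Multiplicative.ofAdd a' := by
      simp only [v]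
      rw [Function.update_of_ne hij, Function.update_self]
    have hvj : v j = Multiplicative.ofAdd b' := by
      simp only [v]
      rw [Function.update_self]
    refine ⟨(φ.symm v : ↥(P : Subgroup G)), (φ.symm v).2, ?_, ?_⟩
    · rw [hg _ _ (φ.symm v).2]
      show ZMod.castHom (hdvd i) (ZMod p) (Multiplicative.toAdd (φ (φ.symm v) i)) = a
      rw [MulEquiv.apply_symm_apply, hvi]
      exact ha'
    · rw [hg _ _ (φ.symm v).2]
      show ZMod.castHom (hdvd j) (ZMod p) (Multiplicative.toAdd (φ (φ.symm v) j)) = b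
      rw [MulEquiv.apply_symm_apply, hvj]
      exact hb'

/-- The hypotheses on the action of the normalizer. -/
structure Act (P : Sylow p G) (t : G) : Prop where
  hp2 : p ≠ 2
  hab : IsMulCommutative (P : Subgroup G)
  hnc : ¬ IsCyclic (P : Subgroup G)
  ht : ∀ x ∈ (P : Subgroup G), t * x * t⁻¹ = x⁻¹
  hN : ∀ n ∈ NN P, (∀ x ∈ (P : Subgroup G), n * x * n⁻¹ = x) ∨ (∀ x ∈ (P : Subgroup G), n * x * n⁻¹ = x⁻¹)

variable {P : Sylow p G} {t : G}

theorem Act.hodd (A : Act P t) {x : G} (hx : x ∈ (P : Subgroup G)) (h : x * x = 1) : x = 1 := by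
  obtain ⟨k, hk⟩ := (IsPGroup.iff_orderOf.1 P.isPGroup') (⟨x, hx⟩ : ↥(P : Subgroup G))
  rw [Subgroup.orderOf_mk] at hk
  have h1 : orderOf x ∣ 2 := orderOf_dvd_of_pow_eq_one (by rw [pow_two]; exact h)
  rw [hk] at h1
  have hk0 : k = 0 := by
    by_contra hk0
    have h2 : p ∣ 2 := (dvd_pow_self p hk0).trans h1
    exact A.hp2 ((Nat.prime_dvd_prime_iff_eq hp.out Nat.prime_two).1 h2)
  rw [hk0, pow_zero] at hk
  exact orderOf_eq_one_iff.1 hk

theorem Act.inv_ne (A : Act P t) {x : G} (hx : x ∈ (P : Subgroup G)) (hx1 : x ≠ 1) : x⁻¹ ≠ x := by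
  intro h
  apply hx1
  apply A.hodd hx
  nth_rw 1 [← h]
  exact inv_mul_cancel x

theorem Act.exists_ne (A : Act P t) : ∃ x ∈ (P : Subgroup G), x ≠ 1 := by
  by_contra hc
  push Not at hc
  apply A.hnc
  haveI : Subsingleton ↥(P : Subgroup G) :=
    ⟨fun a b => Subtype.ext (by rw [hc a a.2, hc b b.2])⟩
  exact isCyclic_of_subsingleton

theorem Act.t_mem (A : Act P t) : t ∈ NN P := by
  rw [mem_NN_iff]
  intro w
  constructor
  · intro hw
    rw [A.ht w hw]
    exact inv_mem hw
  · intro hw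
    have h2 := A.ht _ (inv_mem hw)
    rw [inv_inv] at h2
    have h3 : t * (t * w * t⁻¹)⁻¹ * t⁻¹ = t * w * t⁻¹ := h2
    have h4 : (t * w * t⁻¹)⁻¹ = w := by
      have h5 := mul_left_cancel (a := t) (b := (t * w * t⁻¹)⁻¹ * t⁻¹) (c := w * t⁻¹) (by
        simpa only [mul_assoc] using h3)
      exact mul_right_cancel h5
    rw [← h4]
    exact inv_mem hw

theorem Act.not_mem_CC (A : Act P t) : t ∉ CC P := by
  intro h
  obtain ⟨x, hx, hx1⟩ := A.exists_ne
  have h1 := (mem_CC_iff.1 h) x hx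
  rw [A.ht x hx] at h1
  exact A.inv_ne hx hx1 h1

/-- The block hypotheses. -/
theorem Act.hyp (A : Act P t) : Hyp P 2 := by
  refine ⟨A.hab, ?_, ?_⟩
  · rw [Subgroup.relIndex, Subgroup.index_eq_two_iff]
    refine ⟨⟨t, A.t_mem⟩, fun b => ?_⟩
    obtain ⟨x, hx, hx1⟩ := A.exists_ne
    have hnot : ∀ n : G, (∀ y ∈ (P : Subgroup G), n * y * n⁻¹ = y⁻¹) → n ∉ CC P := by
      intro n hn hc
      exact A.inv_ne hx hx1 (by rw [← hn x hx]; exact (mem_CC_iff.1 hc) x hx)
    simp only [Subgroup.mem_subgroupOf, Subgroup.coe_mul]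
    rcases A.hN b b.2 with h | h
    · right
      refine ⟨mem_CC_iff.2 h, fun hc => ?_⟩
      apply hnot _ (fun y hy => ?_) hc
      calc (b : G) * t * y * ((b : G) * t)⁻¹ = (b : G) * (t * y * t⁻¹) * (b : G)⁻¹ := by group
        _ = (b : G) * y⁻¹ * (b : G)⁻¹ := by rw [A.ht y hy]
        _ = y⁻¹ := h _ (inv_mem hy)
    · left
      refine ⟨mem_CC_iff.2 fun y hy => ?_, hnot _ h⟩
      calc (b : G) * t * y * ((b : G) * t)⁻¹ = (b : G) * (t * y * t⁻¹) * (b : G)⁻¹ := by group
        _ = (b : G) * y⁻¹ * (b : G)⁻¹ := by rw [A.ht y hy]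
        _ = (y⁻¹)⁻¹ := h _ (inv_mem hy)
        _ = y := inv_inv y
  · intro y hy hy1
    apply le_antisymm
    · rintro n ⟨hn1, hn2⟩
      have hn1' : n ∈ Cen y := hn1
      rw [mem_cen_iff] at hn1'
      rcases A.hN n hn2 with h | h
      · exact mem_CC_iff.2 h
      · exact absurd (by rw [← h y hy]; exact hn1') (A.inv_ne hy hy1)
    · intro c hc
      refine ⟨?_, CC_le_NN hc⟩
      show c ∈ Cen y
      rw [mem_cen_iff]
      exact (mem_CC_iff.1 hc) y hy

theorem Act.hF (A : Act P t) (g a : G) (ha : a ∈ (P : Subgroup G)) (hg : g * a * g⁻¹ ∈ (P : Subgroup G)) :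
    g * a * g⁻¹ = a ∨ g * a * g⁻¹ = a⁻¹ := by
  obtain ⟨n, hn, e⟩ := A.hyp.fusion ha hg
  rw [← e]
  rcases A.hN n hn with h | h
  · exact Or.inl (h a ha)
  · exact Or.inr (h a ha)

theorem exists_conj_sylow (P : Sylow p G) (R : Subgroup G) (hR : IsPGroup p R) :
    ∃ g : G, ∀ a ∈ R, g * a * g⁻¹ ∈ (P : Subgroup G) := by
  obtain ⟨S, hS⟩ := hR.exists_le_sylow
  obtain ⟨c, hc⟩ := MulAction.exists_smul_eq G S P
  refine ⟨c, fun a ha => ?_⟩
  rw [← hc, Sylow.coe_subgroup_smul]
  have := Subgroup.smul_mem_pointwise_smul _ (MulAut.conj c) (S : Subgroup G) (hS ha)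
  simpa [MulAut.smul_def, MulAut.conj_apply] using this

/-- The factorization of the centralizer of `x ∈ P#`. -/
theorem Act.hfac (A : Act P t) {x : G} (hx : x ∈ (P : Subgroup G)) (hx1 : x ≠ 1) {c : G} (hc : c * x = x * c) :
    ∃ θ u : G, c = θ * u ∧ u ∈ (P : Subgroup G) ∧ ¬ p ∣ orderOf θ := by
  classical
  have H := A.hyp
  have hidx := H.core_index hx hx1
  have hle := H.le_cen hx
  set K := pPrimeCore p (Cen x) with hK
  let P' : Subgroup (Cen x) := (P : Subgroup G).subgroupOf (Cen x)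
  have hP' : Nat.card P' = Nat.card (P : Subgroup G) :=
    Nat.card_congr (Subgroup.subgroupOfEquivOfLe hle).toEquiv
  have hmul : Nat.card K * Nat.card P' = Nat.card (Cen x) := by
    rw [hP', ← hidx]
    exact Subgroup.card_mul_index K
  have hcop : (Nat.card K).Coprime (Nat.card P') := by
    rw [hP']
    obtain ⟨k, hk⟩ := IsPGroup.iff_card.1 P.isPGroup'
    rw [hk]
    exact Nat.Coprime.pow_right _ (Cfsg.Agent.Lib.Solvable.Carter.card_pPrimeCore_coprime (G := Cen x) p)
  have hcomp := Subgroup.isComplement'_of_coprime hmul hcop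
  have hcC : c ∈ Cen x := Subgroup.mem_centralizer_singleton_iff.2 hc
  obtain ⟨⟨a, b⟩, hab, -⟩ := hcomp.existsUnique ⟨c, hcC⟩
  have hab' : ((a : Cen x) : G) * ((b : Cen x) : G) = c := congrArg Subtype.val hab
  refine ⟨((a : Cen x) : G), ((b : Cen x) : G), hab'.symm, b.2, ?_⟩
  rw [Subgroup.orderOf_coe]
  intro hd
  have h2 : Nat.Coprime (orderOf (a : Cen x)) p := by
    have h3 := Subgroup.orderOf_dvd_natCard K a.2
    exact Nat.Coprime.coprime_dvd_left h3
      (Cfsg.Agent.Lib.Solvable.Carter.card_pPrimeCore_coprime (G := Cen x) p)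
  have h3 : p ∣ Nat.gcd (orderOf (a : Cen x)) p := Nat.dvd_gcd hd (dvd_refl p)
  rw [Nat.Coprime.gcd_eq_one h2] at h3
  exact hp.out.one_lt.ne' (Nat.dvd_one.1 h3)

end Form

section CtxMk

variable {G : Type u} [Group G] [Finite G] {p : ℕ} [hp : Fact p.Prime] {P : Sylow p G} {t : G}
  {F : Form (P : Subgroup G) p} {X : Type u} [Group X]

/-- The context of the extension. -/
theorem Act.ctx (A : Act P t) (E : CE F X) {tl : X} (htl : E.pr tl = t) : Ctx E t tl where
  hp2 := A.hp2
  hcomm := fun _ hx _ hy => A.hyp.comm hx hy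
  htl := htl
  ht := A.ht
  hF := A.hF
  hfac := fun _ hx hx1 _ hc => A.hfac hx hx1 hc
  hsyl := exists_conj_sylow P

/-- The extension exists. -/
theorem Act.exists_ce (A : Act P t) (F : Form (P : Subgroup G) p) :
    ∃ (X : Type u) (_ : Group X) (_ : Finite X), Nonempty (CE F X) := by
  refine AbTwo.exists_ce F P.not_dvd_index (fun _ hx _ hy => A.hyp.comm hx hy) (fun _ hx h => A.hodd hx h) ?_
  intro g a ha hg
  have := A.hF g⁻¹ a ha (by simpa using hg)
  simpa using this

end CtxMk

end Cfsg.Agent.Lib.Transfer.AbTwo
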