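import Mathlib
import Cfsg.Agent.Lib.Transfer.AbTwoForm

/-!
# The block data when `|N(P) : C(P)| = 2`
-/

set_option autoImplicit false

namespace Cfsg.Agent.Lib.Transfer.AbTwo

open Cfsg Cfsg.Agent.Lib.Blocks.AbFrob Cfsg.Agent.Lib.Blocks.Sections Cfsg.Agent.Lib.Blocks.CentralProd
  Cfsg.Agent.Lib.Blocks.PrincipalCen Cfsg.Agent.Lib.Char.Virtual
open scoped ComplexConjugate

universe u

section Zeta

variable {G : Type u} [Group G] [Fintype G] {p : ℕ} [hp : Fact p.Prime] {P : Sylow p G}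
  [Fintype (P : Subgroup G)] [Fintype (↥(P : Subgroup G) →* ℂˣ)] {M : Ideal AlgInt} [hMp : M.IsPrime]

open Classical in
/-- The principal block data: exactly two characters outside the exceptional family. -/
theorem Hyp.exists_zeta (hM : IsPModular p M) (H : Hyp P 2) (hcard : 8 < Nat.card (P : Subgroup G)) :
    ∃ (ε : ℤ) (a : IrrCharacter G → ℤ) (f : TT P → IrrCharacter G) (ζ : IrrCharacter G),
      Data P 2 M ε 0 a f ∧ ζ ≠ Cfsg.Agent.Lib.Blocks.Principal.trivChar G ∧ (a ζ = 1 ∨ a ζ = -1) ∧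
        a (Cfsg.Agent.Lib.Blocks.Principal.trivChar G) = 1 ∧
        XF M f = {Cfsg.Agent.Lib.Blocks.Principal.trivChar G, ζ} ∧
        Nat.card (TT P) * 2 = Nat.card (P : Subgroup G) - 1 := by
  obtain ⟨ε, d, a, f, D⟩ := H.exists_data hM (by norm_num) (by omega : 2 + 1 < Nat.card (P : Subgroup G))
  have hm0 : (2 : ℕ) ≠ 0 := by norm_num
  have hcardT := H.card_TT_mul
  haveI hfT : Finite (TT P) := finite_TT
  have hT4 : 4 ≤ Nat.card (TT P) := by omega
  have hT2 : 1 < Nat.card (TT P) := by omega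
  obtain ⟨s₀, t₀, hst⟩ := (Finite.one_lt_card_iff_nontrivial.1 hT2).exists_pair_ne
  have hT : ∀ t : TT P, ∃ s : TT P, s ≠ t := by
    intro t
    by_cases h : s₀ = t
    · exact ⟨t₀, fun h' => hst (h.trans h'.symm)⟩
    · exact ⟨s₀, h⟩
  have hy₀ : ∃ y₀ : ↥(P : Subgroup G), y₀ ≠ 1 := by
    by_contra hc
    push Not at hc
    have : Subsingleton ↥(P : Subgroup G) := ⟨fun a b => by rw [hc a, hc b]⟩
    have h1 := Nat.card_of_subsingleton (1 : ↥(P : Subgroup G))
    omega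
  obtain ⟨y₀, hy₀⟩ := hy₀
  set triv := Cfsg.Agent.Lib.Blocks.Principal.trivChar G with htrivdef
  have htriv : triv ∈ XF M f :=
    mem_XF.2 ⟨Cfsg.Agent.Lib.Blocks.Principal.trivChar_mem_principalBlock, D.triv_notMem H hm0 hT⟩
  have hatriv : a triv = 1 := by
    have h1 := D.value_X H hm0 htriv hy₀
    have h2 : (triv : G → ℂ) y₀ = 1 := rfl
    rw [h2] at h1
    exact_mod_cast h1.symm
  have hnorm := D.norm hM H hm0 s₀
  have hsum0 : 1 ≤ ∑ χ ∈ XF M f, a χ ^ 2 := by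
    calc (1 : ℤ) = a triv ^ 2 := by rw [hatriv]; norm_num
      _ ≤ _ := Finset.single_le_sum (f := fun χ => a χ ^ 2) (fun _ _ => sq_nonneg _) htriv
  have hT3 : (3 : ℤ) ≤ (Nat.card (TT P) : ℤ) - 1 := by
    have : (4 : ℤ) ≤ (Nat.card (TT P) : ℤ) := by exact_mod_cast hT4
    omega
  have hd : d = 0 := by
    by_contra hd
    have h1 : (1 : ℤ) ≤ d ^ 2 := by
      have := sq_pos_of_ne_zero hd
      omega
    have h2 : (3 : ℤ) ≤ ((Nat.card (TT P) : ℤ) - 1) * d ^ 2 := by nlinarith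
    push_cast at hnorm
    nlinarith [sq_nonneg (d - ε)]
  subst hd
  have hε2 : ε ^ 2 = 1 := by
    rcases D.hε with h | h <;> rw [h] <;> norm_num
  have hsum2 : ∑ χ ∈ XF M f, a χ ^ 2 = 2 := by
    push_cast at hnorm
    simp only [zero_sub, neg_sq, hε2, ne_eq, OfNat.ofNat_ne_zero, not_false_eq_true, zero_pow, mul_zero, add_zero] at hnorm
    linarith
  set S := (XF M f).erase triv with hS
  have hS1 : ∑ χ ∈ S, a χ ^ 2 = 1 := by
    have h1 := Finset.add_sum_erase (XF M f) (fun χ => a χ ^ 2) htriv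
    simp only [hatriv] at h1
    rw [hsum2] at h1
    rw [hS]
    linarith
  have hpos : ∀ χ ∈ S, (1 : ℤ) ≤ a χ ^ 2 := by
    intro χ hχ
    have h0 := D.a_ne_zero hM H hm0 (Finset.mem_of_mem_erase hχ) hy₀
    have := sq_pos_of_ne_zero h0
    omega
  have hScard : S.card = 1 := by
    have h1 : S.card • (1 : ℤ) ≤ ∑ χ ∈ S, a χ ^ 2 := Finset.card_nsmul_le_sum S _ 1 hpos
    rw [hS1, nsmul_eq_mul, mul_one] at h1
    have h2 : S.card ≤ 1 := by exact_mod_cast h1
    have h3 : S.card ≠ 0 := by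
      intro h
      rw [Finset.card_eq_zero] at h
      rw [h] at hS1
      simp at hS1
    omega
  obtain ⟨ζ, hζ⟩ := Finset.card_eq_one.1 hScard
  have hζS : ζ ∈ S := by rw [hζ]; exact Finset.mem_singleton_self ζ
  rw [hζ, Finset.sum_singleton] at hS1
  refine ⟨ε, a, f, ζ, D, Finset.ne_of_mem_erase hζS, ?_, hatriv, ?_, hcardT⟩
  · have h1 : (a ζ - 1) * (a ζ + 1) = 0 := by linear_combination hS1
    rcases mul_eq_zero.1 h1 with h | h
    · left; omega
    · right; omega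
  · rw [← Finset.insert_erase htriv, ← hS, hζ]

end Zeta

section Count

variable {G : Type u} [Group G] [Fintype G] {p : ℕ} [hp : Fact p.Prime] {P : Sylow p G}
  [Fintype (P : Subgroup G)] [Fintype (↥(P : Subgroup G) →* ℂˣ)] {M : Ideal AlgInt} [hMp : M.IsPrime]
  {F : Form (P : Subgroup G) p} {X : Type u} [Group X] [Fintype X] {E : CE F X} {t : G} {tl : X}

open Classical in
/-- The indicator of the complement of the kernel of the form. -/
noncomputable def nz (F : Form (P : Subgroup G) p) : ↥(P : Subgroup G) → ℂ :=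
  fun y => if F.f₁ y = 0 ∧ F.f₂ y = 0 then 0 else 1

omit [Fintype (P : Subgroup G)] [Fintype (↥(P : Subgroup G) →* ℂˣ)] hMp in
theorem inv_nz (C : Ctx E t tl) : Inv (nz F) := by
  classical
  intro n _ w w' hw'
  unfold nz
  have h1 : (n * (w : G) * n⁻¹) ∈ (P : Subgroup G) := by rw [← hw']; exact w'.2
  have h2 : n⁻¹ * (w' : G) * n⁻¹⁻¹ = w := by rw [hw']; group
  have h3 : n⁻¹ * (w' : G) * n⁻¹⁻¹ ∈ (P : Subgroup G) := by rw [h2]; exact w.2
  by_cases hw : F.f₁ (w : G) = 0 ∧ F.f₂ (w : G) = 0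
  · have h4 := C.form_conj w.2 h1 hw.1 hw.2
    rw [← hw'] at h4
    rw [if_pos hw, if_pos h4]
  · have h4 : ¬ (F.f₁ (w' : G) = 0 ∧ F.f₂ (w' : G) = 0) := by
      intro hc
      apply hw
      have h5 := C.form_conj w'.2 h3 hc.1 hc.2
      rwa [h2] at h5
    rw [if_neg hw, if_neg h4]

omit hMp [Fintype (↥(P : Subgroup G) →* ℂˣ)] in
theorem secMap_class (f : ↥(P : Subgroup G) → ℂ) (g h : G) :
    secMap P 2 M f (h * g * h⁻¹) = secMap P 2 M f g := by
  refine Finset.sum_congr rfl fun χ _ => ?_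
  rw [Cfsg.Agent.Lib.Blocks.Central.isClassFunction_of_irr χ.2]

open Classical in
/-- The value of the section function of `nz`. -/
theorem secMap_nz (hM : IsPModular p M) (H : Hyp P 2) (C : Ctx E t tl) (g : G) :
    secMap P 2 M (nz F) g = if R0 F g then 0 else 1 := by
  by_cases hg : p ∣ orderOf g
  · obtain ⟨y', hy', hc, ⟨k, hk⟩, hy'r⟩ := pp_spec (p := p) g
    obtain ⟨c, hcm⟩ := exists_conj_mem P hk
    have hne : pp p g ≠ 1 := fun h => reg_of_pp h hg
    have hy1 : c * pp p g * c⁻¹ ≠ 1 := by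
      intro h
      apply hne
      have h2 : pp p g = c⁻¹ * (c * pp p g * c⁻¹) * c := by group
      rw [h2, h]
      group
    have hy2 : (⟨c * pp p g * c⁻¹, hcm⟩ : ↥(P : Subgroup G)) ≠ 1 := fun h => hy1 (congrArg Subtype.val h)
    rw [← secMap_class _ g c, secMap_section hM H _ (isPPart_conj (pp_spec g) c) hcm hy1]
    have h3 := secMap_apply hM H (by norm_num : (2 : ℕ) ≠ 0) (inv_nz C) ⟨c * pp p g * c⁻¹, hcm⟩ hy2
    rw [h3]
    unfold nz
    simp only [C.R0_iff hcm]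
  · rw [secMap_reg hM _ hg, if_pos (R0_of_reg hg)]

/-- The count of the elements off `R0`. -/
theorem count_notR0 (hM : IsPModular p M) (H : Hyp P 2) (C : Ctx E t tl) :
    (p : ℂ) ^ 2 * (Nat.card {y : G // ¬ R0 F y} : ℂ) * 2 = (Nat.card G : ℂ) * ((p : ℂ) ^ 2 - 1) := by
  classical
  have h1 := classInner_secMap_secMap hM H (by norm_num : (2 : ℕ) ≠ 0) (inv_nz (F := F) C) (nz F)
  have hG0 : (Nat.card G : ℂ) ≠ 0 := Nat.cast_ne_zero.2 Nat.card_pos.ne'
  have hP0 : (Nat.card (P : Subgroup G) : ℂ) ≠ 0 := Nat.cast_ne_zero.2 Nat.card_pos.ne'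
  have hp0 : (p : ℂ) ≠ 0 := Nat.cast_ne_zero.2 hp.out.ne_zero
  -- the left side
  have hL : classInner (secMap P 2 M (nz F)) (secMap P 2 M (nz F)) =
      (Nat.card G : ℂ)⁻¹ * (Nat.card {y : G // ¬ R0 F y} : ℂ) := by
    rw [Cfsg.Agent.Lib.Char.Induced.classInner_def]
    congr 1
    have h2 : ∀ g : G, secMap P 2 M (nz F) g * conj (secMap P 2 M (nz F) g) = if ¬ R0 F g then 1 else 0 := by
      intro g
      rw [secMap_nz hM H C]
      by_cases h : R0 F g
      · simp [h]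
      · simp [h]
    rw [Finset.sum_congr rfl fun g _ => h2 g, Finset.sum_boole, Nat.card_eq_fintype_card, Fintype.card_subtype]
  -- the right side
  set NP := (Finset.univ.filter (fun y : ↥(P : Subgroup G) => ¬ (F.f₁ y = 0 ∧ F.f₂ y = 0))).card with hNP
  set rr := (Finset.univ.filter (fun y : ↥(P : Subgroup G) => (F.f₁ y = 0 ∧ F.f₂ y = 0))).card with hrr
  have hR : ∑ y ∈ (Finset.univ.erase 1 : Finset ↥(P : Subgroup G)), nz F y * conj (nz F y) = (NP : ℂ) := by
    have h2 : ∀ y : ↥(P : Subgroup G), nz F y * conj (nz F y) = if ¬ (F.f₁ y = 0 ∧ F.f₂ y = 0) then 1 else 0 := by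
      intro y
      unfold nz
      by_cases h : F.f₁ y = 0 ∧ F.f₂ y = 0
      · simp [h]
      · simp [h]
    rw [Finset.sum_erase]
    · rw [Finset.sum_congr rfl fun g _ => h2 g, Finset.sum_boole]
    · rw [h2, if_neg]
      simp [f₁_one, f₂_one]
  rw [hL, hR] at h1
  let φ : ↥(P : Subgroup G) →* Multiplicative (ZMod p) × Multiplicative (ZMod p) :=
    { toFun := fun y => (Multiplicative.ofAdd (F.f₁ y), Multiplicative.ofAdd (F.f₂ y))
      map_one' := by
        show (Multiplicative.ofAdd (F.f₁ 1), Multiplicative.ofAdd (F.f₂ 1)) = _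
        rw [f₁_one, f₂_one]
        rfl
      map_mul' := fun a b => by
        show (Multiplicative.ofAdd (F.f₁ ((a : G) * b)), Multiplicative.ofAdd (F.f₂ ((a : G) * b))) = _
        rw [F.add₁ _ a.2 _ b.2, F.add₂ _ a.2 _ b.2, ofAdd_add, ofAdd_add]
        rfl }
  have hφ : ∀ y, φ y = (Multiplicative.ofAdd (F.f₁ y), Multiplicative.ofAdd (F.f₂ y)) := fun _ => rfl
  have hφsurj : Function.Surjective φ := by
    rintro ⟨a, b⟩
    obtain ⟨x, hx, h2, h3⟩ := F.surj (Multiplicative.toAdd a) (Multiplicative.toAdd b)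
    refine ⟨⟨x, hx⟩, ?_⟩
    rw [hφ]
    simp only [h2, h3]
    rfl
  have hidx : φ.ker.index = p ^ 2 := by
    rw [Subgroup.index_ker, MonoidHom.range_eq_top.2 hφsurj, Subgroup.card_top, Nat.card_prod,
      Nat.card_congr Multiplicative.toAdd, Nat.card_zmod, pow_two]
  have hk : Nat.card φ.ker = rr := by
    rw [hrr, ← Nat.card_eq_finsetCard]
    refine Nat.card_congr (Equiv.subtypeEquivRight fun y => ?_)
    rw [MonoidHom.mem_ker, hφ, Prod.ext_iff]
    simp only [Finset.mem_filter, Finset.mem_univ, true_and]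
    constructor
    · rintro ⟨h2, h3⟩
      exact ⟨ofAdd_eq_one.1 h2, ofAdd_eq_one.1 h3⟩
    · rintro ⟨h2, h3⟩
      exact ⟨ofAdd_eq_one.2 h2, ofAdd_eq_one.2 h3⟩
  have hrp : rr * p ^ 2 = Nat.card (P : Subgroup G) := by
    rw [← hk, ← hidx]
    exact Subgroup.card_mul_index φ.ker
  have hsum : rr + NP = Nat.card (P : Subgroup G) := by
    rw [hrr, hNP, Finset.card_filter_add_card_filter_not, Finset.card_univ, Nat.card_eq_fintype_card]
  have hrp' : (rr : ℂ) * (p : ℂ) ^ 2 = (Nat.card (P : Subgroup G) : ℂ) := by exact_mod_cast hrp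
  have hsum' : (rr : ℂ) + (NP : ℂ) = (Nat.card (P : Subgroup G) : ℂ) := by exact_mod_cast hsum
  have h2 : (2 : ℂ) * (Nat.card (P : Subgroup G) : ℂ) * (Nat.card {y : G // ¬ R0 F y} : ℂ) =
      (Nat.card G : ℂ) * (NP : ℂ) := by
    push_cast at h1
    field_simp at h1
    linear_combination h1
  apply mul_left_cancel₀ hP0
  linear_combination (p : ℂ) ^ 2 * h2 + (Nat.card G : ℂ) * (p : ℂ) ^ 2 * hsum' - (Nat.card G : ℂ) * hrp'

end Count

end Cfsg.Agent.Lib.Transfer.AbTwo
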