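import Mathlib
import Cfsg.Agent.Lib.Transfer.AbTwoCore

/-!
# The core theorem: `O_{p'}(G) = 1`, `P` abelian noncyclic, `N(P)` acting through `±1` with a nontrivial
element: `P` is normal in `G`.
-/

set_option autoImplicit false

namespace Cfsg.Agent.Lib.Transfer.AbTwo

open Cfsg Cfsg.Agent.Lib.Blocks.AbFrob Cfsg.Agent.Lib.Blocks.Sections Cfsg.Agent.Lib.Blocks.CentralProd
  Cfsg.Agent.Lib.Blocks.PrincipalCen Cfsg.Agent.Lib.Char.Virtual Cfsg.Agent.Lib.Char.Basic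
open scoped ComplexConjugate

universe u

theorem exists_ker_of_character {G : Type*} [Group G] [Finite G] {χ : G → ℂ} (hχ : IsCharacter G χ) :
    ∃ K : Subgroup G, K.Normal ∧ ∀ g, g ∈ K ↔ χ g = χ 1 := by
  obtain ⟨n, ρ, rfl⟩ := hχ
  refine ⟨MonoidHom.ker ρ, MonoidHom.normal_ker ρ, fun g => ?_⟩
  rw [MonoidHom.mem_ker, Module.End.one_eq_id, Representation.char_one,
    ← Cfsg.Agent.Lib.Char.Values.character_eq_finrank_iff ρ g]

/-- The existence of a modular ideal for `p`. -/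
lemma exists_modular' (p : ℕ) (hp : p.Prime) : ∃ M : Ideal AlgInt, IsPModular p M := by
  have hne : Ideal.span {(p : AlgInt)} ≠ ⊤ := by
    intro htop
    rw [Ideal.span_singleton_eq_top] at htop
    obtain ⟨γ, hγ⟩ := htop.exists_right_inv
    have h1 : ((p : ℂ)) * (γ : ℂ) = 1 := by
      have := congrArg (Subtype.val) hγ
      simpa using this
    have hp0 : (p : ℂ) ≠ 0 := by exact_mod_cast hp.ne_zero
    have h2 : (γ : ℂ) = algebraMap ℚ ℂ ((p : ℚ)⁻¹) := by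
      simp only [map_inv₀, map_natCast]
      field_simp
      linear_combination h1
    have h3 : IsIntegral ℤ (algebraMap ℚ ℂ ((p : ℚ)⁻¹)) := h2 ▸ γ.2
    have h4 : IsIntegral ℤ ((p : ℚ)⁻¹) :=
      (isIntegral_algebraMap_iff (algebraMap ℚ ℂ).injective).1 h3
    obtain ⟨n, hn⟩ := IsIntegrallyClosed.isIntegral_iff.1 h4
    have h5 : (n : ℚ) * p = 1 := by
      have hp0' : (p : ℚ) ≠ 0 := by exact_mod_cast hp.ne_zero
      have hn' : (n : ℚ) = (p : ℚ)⁻¹ := by simpa using hn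
      rw [hn']
      field_simp
    have h6 : n * (p : ℤ) = 1 := by exact_mod_cast h5
    have h7 : (p : ℤ) ∣ 1 := ⟨n, by linarith⟩
    have h8 : p ∣ 1 := by exact_mod_cast h7
    exact hp.one_lt.ne' (Nat.dvd_one.1 h8)
  obtain ⟨M, hM, hle⟩ := Ideal.exists_le_maximal _ hne
  exact ⟨M, hp, hM, hle (Ideal.mem_span_singleton_self _)⟩

section ActSec

variable {G : Type u} [Group G] [Finite G] {p : ℕ} [hp : Fact p.Prime] {P : Sylow p G} {t : G}

theorem Act.card_gt (A : Act P t) : 8 < Nat.card (P : Subgroup G) := by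
  obtain ⟨n, hn⟩ := IsPGroup.iff_card.1 P.isPGroup'
  have hp3 : 3 ≤ p := by
    have h1 := hp.out.two_le
    have h2 := A.hp2
    omega
  have hn2 : 2 ≤ n := by
    by_contra hc
    apply A.hnc
    have h3 : n = 0 ∨ n = 1 := by omega
    rcases h3 with rfl | rfl
    · rw [pow_zero] at hn
      haveI : Subsingleton ↥(P : Subgroup G) := (Nat.card_eq_one_iff_unique.1 hn).1
      exact isCyclic_of_subsingleton
    · rw [pow_one] at hn
      exact isCyclic_of_prime_card hn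
  calc 8 < 3 ^ 2 := by norm_num
    _ ≤ p ^ 2 := Nat.pow_le_pow_left hp3 2
    _ ≤ p ^ n := Nat.pow_le_pow_right hp.out.pos hn2
    _ = _ := hn.symm

theorem Act.exists_involution (A : Act P t) : ∃ i : G, i * i = 1 ∧ i ≠ 1 := by
  obtain ⟨x, hx, hx1⟩ := A.exists_ne
  have hsq : t * t * x * (t * t)⁻¹ = x := by
    have h1 := A.ht x hx
    have h2 := A.ht x⁻¹ (inv_mem hx)
    rw [inv_inv] at h2
    calc t * t * x * (t * t)⁻¹ = t * (t * x * t⁻¹) * t⁻¹ := by group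
      _ = x := by rw [h1, h2]
  have hconj : ∀ k : ℕ, t ^ (2 * k + 1) * x * (t ^ (2 * k + 1))⁻¹ = x⁻¹ := by
    intro k
    induction k with
    | zero =>
      simpa using A.ht x hx
    | succ k ih =>
      have h3 : 2 * (k + 1) + 1 = 2 + (2 * k + 1) := by ring
      rw [h3, pow_add, pow_two]
      calc t * t * t ^ (2 * k + 1) * x * (t * t * t ^ (2 * k + 1))⁻¹
          = (t * t) * (t ^ (2 * k + 1) * x * (t ^ (2 * k + 1))⁻¹) * (t * t)⁻¹ := by group
        _ = (t * t) * x⁻¹ * (t * t)⁻¹ := by rw [ih]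
        _ = (t * t * x * (t * t)⁻¹)⁻¹ := (fun (s y : G) => (by group : s * y⁻¹ * s⁻¹ = (s * y * s⁻¹)⁻¹)) (t * t) x
        _ = x⁻¹ := by rw [hsq]
  have heven : Even (orderOf t) := by
    by_contra hodd
    rw [Nat.not_even_iff_odd] at hodd
    obtain ⟨k, hk⟩ := hodd
    have h4 := hconj k
    rw [← hk, pow_orderOf_eq_one] at h4
    simp only [one_mul, inv_one, mul_one] at h4
    exact A.inv_ne hx hx1 h4.symm
  obtain ⟨k, hk⟩ := heven
  have hpos := orderOf_pos t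
  refine ⟨t ^ k, ?_, ?_⟩
  · rw [← pow_add, ← hk, pow_orderOf_eq_one]
  · exact pow_ne_one_of_lt_orderOf (by omega) (by omega)

open Classical in
/-- The orbit of a nontrivial linear character. -/
theorem Act.orbF_eq [Fintype (↥(P : Subgroup G) →* ℂˣ)] (A : Act P t) {ψ : ↥(P : Subgroup G) →* ℂˣ} (hψ : ψ ≠ 1) :
    orbF ψ = {ψ, ψ⁻¹} := by
  classical
  have H := A.hyp
  let n : ↥(NN P) := ⟨t, A.t_mem⟩
  have htw : twist n ψ = ψ⁻¹ := by
    ext w
    rw [twist_apply, MonoidHom.inv_apply, ← map_inv]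
    congr 3
    apply Subtype.ext
    have h1 := A.ht _ (inv_mem w.2)
    rw [inv_inv] at h1
    show ((n : G)⁻¹) * (w : G) * ((n : G)⁻¹)⁻¹ = (w : G)⁻¹
    show t⁻¹ * (w : G) * t⁻¹⁻¹ = (w : G)⁻¹
    conv_lhs => rw [← h1]
    group
  have hne : ψ ≠ ψ⁻¹ := by
    intro h
    have h2 : twist n ψ = ψ := by rw [htw]; exact h.symm
    exact A.not_mem_CC (H.stab hψ h2)
  apply (Finset.eq_of_subset_of_card_le _ _).symm
  · intro φ hφ
    simp only [Finset.mem_insert, Finset.mem_singleton] at hφ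
    rw [mem_orbF, mem_orb_iff]
    rcases hφ with rfl | rfl
    · exact ⟨1, (twist_one _).symm⟩
    · exact ⟨n, htw.symm⟩
  · rw [H.card_orbF hψ, Finset.card_pair hne]

theorem Act.theta_apply [Fintype (↥(P : Subgroup G) →* ℂˣ)] (A : Act P t) {ψ : ↥(P : Subgroup G) →* ℂˣ} (hψ : ψ ≠ 1)
    (y : ↥(P : Subgroup G)) : theta ψ y = ((ψ y : ℂˣ) : ℂ) + ((ψ y : ℂˣ) : ℂ)⁻¹ := by
  classical
  have hne : ψ ≠ ψ⁻¹ := by
    intro h
    have h1 := (Finset.card_pair_eq_one_or_two (a := ψ) (b := ψ⁻¹))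
    have h2 := A.hyp.card_orbF hψ
    rw [A.orbF_eq hψ, ← h, Finset.pair_eq_singleton, Finset.card_singleton] at h2
    omega
  simp only [theta]
  rw [A.orbF_eq hψ, Finset.sum_pair hne, MonoidHom.inv_apply, Units.val_inv_eq_inv_val]

end ActSec

section Main

/-- **Core theorem.** -/
theorem core_normal {G : Type u} [Group G] [Finite G] {p : ℕ} [hp : Fact p.Prime] {P : Sylow p G} {t : G}
    (A : Act P t) (hO : pPrimeCore p G = ⊥) : (P : Subgroup G).Normal := by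
  classical
  letI : Fintype G := Fintype.ofFinite G
  letI : Fintype (P : Subgroup G) := Fintype.ofFinite _
  have H : Hyp P 2 := A.hyp
  have hAb : ∀ a b : ↥(P : Subgroup G), a * b = b * a := fun a b => Subtype.ext (H.comm a.2 b.2)
  haveI : Finite (↥(P : Subgroup G) →* ℂˣ) := finite_dual hAb
  letI : Fintype (↥(P : Subgroup G) →* ℂˣ) := Fintype.ofFinite _
  obtain ⟨M, hM⟩ := exists_modular' p hp.out
  haveI hMp : M.IsPrime := hM.2.1.isPrime
  have hm0 : (2 : ℕ) ≠ 0 := by norm_num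
  obtain ⟨ε, a, f, ζ, D, hζ1, hδ, hatriv, hXF, hTcard⟩ := AbTwo.Hyp.exists_zeta hM H A.card_gt
  obtain ⟨F⟩ := exists_form P A.hab A.hnc
  obtain ⟨X, _, _, ⟨E⟩⟩ := A.exists_ce F
  letI : Fintype X := Fintype.ofFinite X
  obtain ⟨tl, htl⟩ := E.pr_surj t
  have C : Ctx E t tl := A.ctx E htl
  set triv := Cfsg.Agent.Lib.Blocks.Principal.trivChar G with htrivdef
  have hζXF : ζ ∈ XF M f := by rw [hXF]; simp
  have hδ' : ((a ζ : ℤ) : ℂ) = 1 ∨ ((a ζ : ℤ) : ℂ) = -1 := by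
    rcases hδ with h | h <;> rw [h] <;> simp
  have hδ2 : ((a ζ : ℤ) : ℂ) * ((a ζ : ℤ) : ℂ) = 1 := by
    rcases hδ' with h | h <;> rw [h] <;> norm_num
  -- the values of `ζ`
  have hζsing : ∀ u : G, p ∣ orderOf u → (ζ : G → ℂ) u = ((a ζ : ℤ) : ℂ) := by
    intro u hu
    obtain ⟨y', hy', hc, ⟨k, hk⟩, hy'r⟩ := pp_spec (p := p) u
    obtain ⟨c, hcm⟩ := exists_conj_mem P hk
    have hne : pp p u ≠ 1 := fun h => reg_of_pp h hu
    have hy1 : c * pp p u * c⁻¹ ≠ 1 := by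
      intro h
      apply hne
      have h2 : pp p u = c⁻¹ * (c * pp p u * c⁻¹) * c := by group
      rw [h2, h]
      group
    have hy2 : (⟨c * pp p u * c⁻¹, hcm⟩ : ↥(P : Subgroup G)) ≠ 1 := fun h => hy1 (congrArg Subtype.val h)
    rw [← Cfsg.Agent.Lib.Blocks.Central.isClassFunction_of_irr ζ.2 u c,
      H.apply_of_isPPart hM (isPPart_conj (pp_spec u) c) hcm hy1 (mem_XF.1 hζXF).1]
    exact D.value_X H hm0 hζXF hy2
  set ϑ : G → ℂ := ((a ζ : ℤ) : ℂ) • (ζ : G → ℂ) with hϑdef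
  have hϑapp : ∀ g, ϑ g = ((a ζ : ℤ) : ℂ) * (ζ : G → ℂ) g := fun g => rfl
  have hϑ : IsSignedIrr G ϑ := isSignedIrr_of_sign hδ' ζ.2
  have hsing : ∀ y : G, p ∣ orderOf y → ϑ y = 1 := by
    intro y hy
    rw [hϑapp, hζsing y hy, hδ2]
  have hsum0 : ∑ y : G, ϑ y = 0 := by
    have h1 := classInner_irr_of_ne ζ.2 triv.2 (fun h => hζ1 (Subtype.ext h))
    rw [Cfsg.Agent.Lib.Char.Induced.classInner_def] at h1
    have hG0 : (Nat.card G : ℂ) ≠ 0 := Nat.cast_ne_zero.2 Nat.card_pos.ne'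
    have h2 : ∑ y : G, (ζ : G → ℂ) y = 0 := by
      have h3 := (mul_eq_zero.1 h1).resolve_left (inv_ne_zero hG0)
      simpa [htrivdef] using h3
    simp only [hϑapp]
    rw [← Finset.mul_sum, h2, mul_zero]
  have hN := count_notR0 (M := M) hM H C
  have hkey : ∀ i : G, i * i = 1 → (1 - ϑ 1) * (ϑ i - ϑ 1) ^ 2 = 0 := fun i hi => C.key hϑ hsing hsum0 hN hi
  -- `D = 1`
  obtain ⟨K, hKn, hK⟩ := exists_ker_of_character (isCharacter_of_isIrrCharacter ζ.2)
  have hϑK : ∀ g, ϑ g = ϑ 1 → g ∈ K := by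
    intro g hg
    rw [hK]
    rw [hϑapp, hϑapp] at hg
    have h0 : ((a ζ : ℤ) : ℂ) ≠ 0 := by
      intro h
      rw [h, mul_zero] at hδ2
      exact zero_ne_one hδ2
    exact mul_left_cancel₀ h0 hg
  have hKϑ : ∀ g, g ∈ K → ϑ g = ϑ 1 := by
    intro g hg
    rw [hϑapp, hϑapp, (hK g).1 hg]
  have hD1 : ϑ 1 = 1 := by
    by_contra hD
    obtain ⟨i, hi, hi1⟩ := A.exists_involution
    have h1 := hkey i hi
    have h2 : 1 - ϑ 1 ≠ 0 := sub_ne_zero.2 (Ne.symm hD)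
    have h3 : ϑ i = ϑ 1 := by
      have h4 := (mul_eq_zero.1 h1).resolve_left h2
      exact sub_eq_zero.1 (pow_eq_zero_iff (by norm_num) |>.1 h4)
    have hiK := hϑK i h3
    have hcop : (Nat.card K).Coprime p := by
      rw [Nat.coprime_comm, Nat.Prime.coprime_iff_not_dvd hp.out]
      intro hd
      obtain ⟨u, hu⟩ := exists_prime_orderOf_dvd_card' p hd
      have h5 : p ∣ orderOf (u : G) := by
        rw [Subgroup.orderOf_coe, hu]
      exact hD ((hKϑ _ u.2).symm.trans (hsing _ h5))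
    have hle := Cfsg.Agent.Lib.Solvable.Carter.le_pPrimeCore hKn hcop
    rw [hO] at hle
    exact hi1 (Subgroup.mem_bot.1 (hle hiK))
  -- degree one
  obtain ⟨n, hn0, hn⟩ := exists_nat_irr_one ζ.2
  have hD1' : ((a ζ : ℤ) : ℂ) * (n : ℂ) = 1 := by
    rw [← hn]
    exact hD1
  have hδ1 : a ζ = 1 ∧ n = 1 := by
    have h1 : (a ζ) * (n : ℤ) = 1 := by exact_mod_cast hD1'
    rcases hδ with h | h
    · rw [h, one_mul] at h1
      exact ⟨h, by exact_mod_cast h1⟩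
    · rw [h] at h1
      omega
  have hζ1v : (ζ : G → ℂ) 1 = 1 := by
    rw [hn, hδ1.2]
    simp
  have hatriv' : ((a triv : ℤ) : ℂ) = 1 := by rw [hatriv]; simp
  have haζ' : ((a ζ : ℤ) : ℂ) = 1 := by rw [hδ1.1]; simp
  -- the exceptional characters
  obtain ⟨x₀, hx₀, hx₀1⟩ := A.exists_ne
  have hx₀1' : (⟨x₀, hx₀⟩ : ↥(P : Subgroup G)) ≠ 1 := fun h => hx₀1 (congrArg Subtype.val h)
  obtain ⟨ψ₀, hψ₀⟩ := exists_dual_ne hAb hx₀1'
  have hψ₀1 : ψ₀ ≠ 1 := by
    rintro rfl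
    exact hψ₀ rfl
  have hXFsum : ∀ g : G, ∑ χ ∈ XF M f, ((a χ : ℤ) : ℂ) * (χ : G → ℂ) g = 1 + (ζ : G → ℂ) g := by
    intro g
    rw [hXF, Finset.sum_pair (Ne.symm hζ1), hatriv', haζ', one_mul, one_mul]
    rfl
  have hrel : ∀ (s : TT P) (g : G), ¬ p ∣ orderOf g → (ε : ℂ) * (f s : G → ℂ) g = 1 + (ζ : G → ℂ) g := by
    intro s g hg
    have h1 := D.reg_rel hM hg s
    rw [hXFsum] at h1
    push_cast at h1
    linear_combination -h1
  have h1reg : ¬ p ∣ orderOf (1 : G) := by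
    rw [orderOf_one]
    exact fun h => hp.out.one_lt.ne' (Nat.dvd_one.1 h)
  have hε1 : ε = 1 := by
    obtain ⟨m, hm0, hm⟩ := exists_nat_irr_one (f (tOf ψ₀ hψ₀1)).2
    have h1 := hrel (tOf ψ₀ hψ₀1) 1 h1reg
    rw [hm, hζ1v] at h1
    have h2 : ε * (m : ℤ) = 2 := by
      have h3 : (ε : ℂ) * (m : ℂ) = 2 := by rw [h1]; norm_num
      exact_mod_cast h3
    rcases D.hε with h | h
    · exact h
    · rw [h] at h2
      omega
  have hε1' : (ε : ℂ) = 1 := by rw [hε1]; simp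
  have hfreg : ∀ (s : TT P) (g : G), ¬ p ∣ orderOf g → (f s : G → ℂ) g = 1 + (ζ : G → ℂ) g := by
    intro s g hg
    rw [← hrel s g hg, hε1', one_mul]
  have hf1 : ∀ s : TT P, (f s : G → ℂ) 1 = 2 := by
    intro s
    rw [hfreg s 1 h1reg, hζ1v]
    norm_num
  -- the kernels
  choose Ks hKsn hKs using fun s : TT P => exists_ker_of_character (isCharacter_of_isIrrCharacter (f s).2)
  set L : Subgroup G := K ⊓ ⨅ s, Ks s with hLdef
  have hLmem : ∀ g, g ∈ L ↔ g ∈ K ∧ ∀ s, g ∈ Ks s := by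
    intro g
    rw [hLdef, Subgroup.mem_inf, Subgroup.mem_iInf]
  have hLn : L.Normal := by
    refine ⟨fun g hg c => ?_⟩
    rw [hLmem] at hg ⊢
    exact ⟨hKn.conj_mem _ hg.1 c, fun s => (hKsn s).conj_mem _ (hg.2 s) c⟩
  have hLcop : (Nat.card L).Coprime p := by
    rw [Nat.coprime_comm, Nat.Prime.coprime_iff_not_dvd hp.out]
    intro hd
    obtain ⟨u, hu⟩ := exists_prime_orderOf_dvd_card' p hd
    have huo : orderOf (u : G) = p := by rw [Subgroup.orderOf_coe, hu]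
    obtain ⟨c, hcm⟩ := exists_conj_mem P (z := (u : G)) (k := 1) (by rw [huo, pow_one])
    have hu1 : (u : G) ≠ 1 := by
      intro h
      rw [h, orderOf_one] at huo
      exact hp.out.one_lt.ne huo
    have hv1 : c * (u : G) * c⁻¹ ≠ 1 := by
      intro h
      apply hu1
      have h2 : (u : G) = c⁻¹ * (c * (u : G) * c⁻¹) * c := by group
      rw [h2, h]
      group
    have hv1' : (⟨c * (u : G) * c⁻¹, hcm⟩ : ↥(P : Subgroup G)) ≠ 1 := fun h => hv1 (congrArg Subtype.val h)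
    have hvL := hLn.conj_mem u u.2 c
    obtain ⟨ψ, hψ⟩ := exists_dual_ne hAb hv1'
    have hψ1 : ψ ≠ 1 := by
      rintro rfl
      exact hψ rfl
    have h1 := D.value_Y H hm0 (tOf ψ hψ1) hv1'
    have h2 := (hKs (tOf ψ hψ1) _).1 ((hLmem _).1 hvL |>.2 (tOf ψ hψ1))
    rw [hf1] at h2
    have h1' : ((f (tOf ψ hψ1) : IrrCharacter G) : G → ℂ) (c * (u : G) * c⁻¹) = 2 := h2
    have h3 : (tOf ψ hψ1).1 = theta ψ := rfl
    rw [h3, A.theta_apply hψ1] at h1
    have h4 : ((ψ ⟨c * (u : G) * c⁻¹, hcm⟩ : ℂˣ) : ℂ) + ((ψ ⟨c * (u : G) * c⁻¹, hcm⟩ : ℂˣ) : ℂ)⁻¹ = 2 := by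
      have h5 : ((f (tOf ψ hψ1) : IrrCharacter G) : G → ℂ) ((⟨c * (u : G) * c⁻¹, hcm⟩ : ↥(P : Subgroup G)) : G) =
          ((f (tOf ψ hψ1) : IrrCharacter G) : G → ℂ) (c * (u : G) * c⁻¹) := rfl
      rw [h5, h1', hε1'] at h1
      push_cast at h1
      linear_combination -h1
    set w : ℂˣ := ψ ⟨c * (u : G) * c⁻¹, hcm⟩ with hw
    have hw0 : (w : ℂ) ≠ 0 := w.ne_zero
    have h6 : ((w : ℂ) - 1) ^ 2 = 0 := by
      field_simp at h4
      linear_combination h4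
    have h7 : (w : ℂ) = 1 := sub_eq_zero.1 (pow_eq_zero_iff (by norm_num) |>.1 h6)
    exact hψ (Units.ext h7)
  have hL0 : L = ⊥ := by
    have h1 := Cfsg.Agent.Lib.Solvable.Carter.le_pPrimeCore hLn hLcop
    rw [hO] at h1
    exact le_bot_iff.1 h1
  -- `K` is a `p`-group
  have hKp : IsPGroup p K := by
    rw [IsPGroup.iff_orderOf]
    intro y
    obtain ⟨g, hzg, -, ⟨k, hk⟩, hg⟩ := pp_spec (p := p) (y : G)
    obtain ⟨m, hm⟩ := isPPart_exists_pow_eq (pp_spec (p := p) (y : G))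
    have hz : pp p (y : G) ∈ K := by
      rw [← hm]
      exact K.pow_mem y.2 m
    have hgK : g ∈ K := by
      have h1 : g = (pp p (y : G))⁻¹ * (y : G) := eq_inv_mul_of_mul_eq hzg
      rw [h1]
      exact K.mul_mem (K.inv_mem hz) y.2
    have hgL : g ∈ L := by
      rw [hLmem]
      refine ⟨hgK, fun s => ?_⟩
      rw [hKs s, hfreg s g hg, hf1 s, (hK g).1 hgK, hζ1v]
      norm_num
    rw [hL0, Subgroup.mem_bot] at hgL
    rw [hgL, mul_one] at hzg
    refine ⟨k, ?_⟩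
    rw [← Subgroup.orderOf_coe, ← hzg, hk]
  have hle : (P : Subgroup G) ≤ K := by
    intro x hx
    by_cases hx1 : x = 1
    · rw [hx1]
      exact K.one_mem
    · apply hϑK
      rw [hD1]
      apply hsing
      obtain ⟨k, hk⟩ := orderOf_of_mem P hx
      rw [hk]
      refine dvd_pow_self p ?_
      rintro rfl
      rw [pow_zero] at hk
      exact hx1 (orderOf_eq_one_iff.1 hk)
  have hKP : K = (P : Subgroup G) := P.is_maximal' hKp hle
  rw [← hKP]
  exact hKn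

end Main

end Cfsg.Agent.Lib.Transfer.AbTwo
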