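import Mathlib
import Cfsg.Agent.Lib.Transfer.AbTwoMain
import Cfsg.Agent.Lib.Solvable.PSeries
import Cfsg.Agent.Lib.Basic.PCore
import Cfsg.Agent.Lib.OddOrder.BG37Wrap

/-!
# The reduction modulo `O_{p'}(G)`
-/

set_option autoImplicit false

namespace Cfsg.Agent.Lib.Transfer.AbTwo

open Cfsg Cfsg.Agent.Lib.Blocks.AbFrob
open scoped Pointwise

universe u

section Quot

variable {G : Type u} [Group G] [Finite G] {p : ℕ} [hp : Fact p.Prime] {P : Sylow p G} {t : G}

/-- The action passes to the quotient by a normal `p'`-subgroup. -/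
theorem Act.quot_act (A : Act P t) (O : Subgroup G) [hOn : O.Normal] (hO : (Nat.card O).Coprime p) :
    Act (P.mapSurjective (QuotientGroup.mk'_surjective O)) (t : G ⧸ O) := by
  classical
  set π := QuotientGroup.mk' O with hπdef
  have hπ : Function.Surjective π := QuotientGroup.mk'_surjective O
  set Pb : Sylow p (G ⧸ O) := P.mapSurjective (QuotientGroup.mk'_surjective O) with hPb
  have hmem : ∀ y : G ⧸ O, y ∈ (Pb : Subgroup (G ⧸ O)) ↔ ∃ x ∈ (P : Subgroup G), π x = y := by
    intro y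
    rw [hPb, Sylow.coe_mapSurjective]
    exact Subgroup.mem_map
  have hπP : ∀ x ∈ (P : Subgroup G), π x ∈ (Pb : Subgroup (G ⧸ O)) := fun x hx => (hmem _).2 ⟨x, hx, rfl⟩
  let φ : ↥(P : Subgroup G) →* ↥(Pb : Subgroup (G ⧸ O)) :=
    (π.comp (P : Subgroup G).subtype).codRestrict (Pb : Subgroup (G ⧸ O)) (fun x => hπP x x.2)
  have hφinj : Function.Injective φ := by
    rw [injective_iff_map_eq_one]
    intro x hx
    have h1 : π (x : G) = 1 := congrArg Subtype.val hx
    have h2 : (x : G) ∈ O := (QuotientGroup.eq_one_iff _).1 h1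
    obtain ⟨k, hk⟩ := (IsPGroup.iff_orderOf.1 P.isPGroup') x
    have h3 : orderOf (⟨x, h2⟩ : O) ∣ Nat.card O := orderOf_dvd_natCard _
    have h4 : orderOf (⟨x, h2⟩ : O) = p ^ k := by
      rw [Subgroup.orderOf_mk, ← hk, Subgroup.orderOf_coe]
    rw [h4] at h3
    have h5 : (p ^ k).Coprime (Nat.card O) := Nat.Coprime.pow_left _ hO.symm
    have h6 : p ^ k = 1 := Nat.Coprime.eq_one_of_dvd h5 h3
    rw [h6] at hk
    exact orderOf_eq_one_iff.1 hk
  refine ⟨A.hp2, ⟨⟨?_⟩⟩, ?_, ?_, ?_⟩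
  · rintro ⟨a, ha⟩ ⟨b, hb⟩
    obtain ⟨a', ha', rfl⟩ := (hmem a).1 ha
    obtain ⟨b', hb', rfl⟩ := (hmem b).1 hb
    apply Subtype.ext
    show π a' * π b' = π b' * π a'
    rw [← map_mul, ← map_mul, A.hyp.comm ha' hb']
  · intro hc
    exact A.hnc (isCyclic_of_injective φ hφinj)
  · intro y hy
    obtain ⟨x, hx, rfl⟩ := (hmem y).1 hy
    have h1 := congrArg π (A.ht x hx)
    show π t * π x * (π t)⁻¹ = (π x)⁻¹
    simpa only [map_mul, map_inv] using h1
  · intro nb hnb
    obtain ⟨h, rfl⟩ := hπ nb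
    -- the Frattini argument
    set J : Subgroup G := (P : Subgroup G) ⊔ O with hJ
    have hPJ : (P : Subgroup G) ≤ J := le_sup_left
    have hcon : ∀ x ∈ (P : Subgroup G), h * x * h⁻¹ ∈ J := by
      intro x hx
      have h1 : π (h * x * h⁻¹) ∈ (Pb : Subgroup (G ⧸ O)) := by
        have h2 := (mem_NN_iff.1 hnb (π x)).1 (hπP x hx)
        simpa only [map_mul, map_inv] using h2
      obtain ⟨x', hx', he⟩ := (hmem _).1 h1
      have h3 : x'⁻¹ * (h * x * h⁻¹) ∈ O := by
        rw [← QuotientGroup.eq_one_iff]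
        show π (x'⁻¹ * (h * x * h⁻¹)) = 1
        rw [map_mul, map_inv, he, inv_mul_cancel]
      have h4 : h * x * h⁻¹ = x' * (x'⁻¹ * (h * x * h⁻¹)) := by group
      rw [h4]
      exact Subgroup.mul_mem_sup hx' h3
    let Q : Sylow p G := h • P
    have hQmem : ∀ y : G, y ∈ (Q : Subgroup G) ↔ h⁻¹ * y * h ∈ (P : Subgroup G) := by
      intro y
      have h1 : (Q : Subgroup G) = MulAut.conj h • (P : Subgroup G) := Sylow.coe_subgroup_smul
      rw [h1, Subgroup.mem_pointwise_smul_iff_inv_smul_mem]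
      simp [MulAut.smul_def, MulAut.conj_apply]
    have hQJ : (Q : Subgroup G) ≤ J := by
      intro y hy
      have h1 := hcon _ ((hQmem y).1 hy)
      have h2 : h * (h⁻¹ * y * h) * h⁻¹ = y := by group
      rwa [h2] at h1
    let Q₁ : Sylow p J := P.subtype hPJ
    let Q₂ : Sylow p J := Q.subtype hQJ
    obtain ⟨j, hj⟩ := exists_conj_sylow Q₂ (Q₁ : Subgroup J) Q₁.isPGroup'
    have hjx : ∀ x ∈ (P : Subgroup G), (j : G) * x * (j : G)⁻¹ ∈ (Q : Subgroup G) := by
      intro x hx
      have h1 : (⟨x, hPJ hx⟩ : J) ∈ (Q₁ : Subgroup J) := by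
        show (⟨x, hPJ hx⟩ : J) ∈ (P.subtype hPJ : Subgroup J)
        rw [Sylow.coe_subtype, Subgroup.mem_subgroupOf]
        exact hx
      have h2 := hj _ h1
      have h3 : j * (⟨x, hPJ hx⟩ : J) * j⁻¹ ∈ (Q.subtype hQJ : Subgroup J) := h2
      rw [Sylow.coe_subtype, Subgroup.mem_subgroupOf] at h3
      exact h3
    set m : G := h⁻¹ * (j : G) with hm
    have hmx : ∀ x ∈ (P : Subgroup G), m * x * m⁻¹ ∈ (P : Subgroup G) := by
      intro x hx
      have h1 := (hQmem _).1 (hjx x hx)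
      have h2 : h⁻¹ * ((j : G) * x * (j : G)⁻¹) * h = m * x * m⁻¹ := by
        rw [hm]
        group
      rwa [h2] at h1
    have hmN : m ∈ NN P := by
      rw [mem_NN_iff]
      intro w
      refine ⟨fun hw => hmx w hw, fun hw => ?_⟩
      let f : ↥(P : Subgroup G) → ↥(P : Subgroup G) := fun x => ⟨m * x * m⁻¹, hmx x x.2⟩
      have hfinj : Function.Injective f := by
        intro a b hab
        have h1 : m * (a : G) * m⁻¹ = m * (b : G) * m⁻¹ := congrArg Subtype.val hab
        have h2 : (a : G) = b := by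
          have h3 := mul_right_cancel h1
          exact mul_left_cancel h3
        exact Subtype.ext h2
      obtain ⟨a, ha⟩ := (Finite.injective_iff_surjective.1 hfinj) ⟨m * w * m⁻¹, hw⟩
      have h1 : m * (a : G) * m⁻¹ = m * w * m⁻¹ := congrArg Subtype.val ha
      have h2 : (a : G) = w := by
        have h3 := mul_right_cancel h1
        exact mul_left_cancel h3
      rw [← h2]
      exact a.2
    -- writing `j`
    have hjmem : (j : G) ∈ (((P : Subgroup G) ⊔ O : Subgroup G) : Set G) := j.2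
    rw [Subgroup.mul_normal] at hjmem
    obtain ⟨x₀, hx₀, o₀, ho₀, hjeq⟩ := hjmem
    have hjeq' : x₀ * o₀ = (j : G) := hjeq
    have hπo : π o₀ = 1 := (QuotientGroup.eq_one_iff _).2 ho₀
    set k : G := x₀ * m⁻¹ with hk
    have hx₀N : x₀ ∈ NN P := Subgroup.le_normalizer hx₀
    have hkN : k ∈ NN P := mul_mem hx₀N (inv_mem hmN)
    have hπk : π k = π h := by
      rw [hk, hm, mul_inv_rev, inv_inv, ← hjeq', mul_inv_rev]
      simp only [map_mul, map_inv, hπo, inv_one, one_mul]
      group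
    rcases A.hN k hkN with hc | hc
    · left
      intro y hy
      obtain ⟨x, hx, rfl⟩ := (hmem y).1 hy
      rw [← hπk]
      have h1 := congrArg π (hc x hx)
      simpa only [map_mul, map_inv] using h1
    · right
      intro y hy
      obtain ⟨x, hx, rfl⟩ := (hmem y).1 hy
      rw [← hπk]
      have h1 := congrArg π (hc x hx)
      simpa only [map_mul, map_inv] using h1

/-- The main consequence: `p`-length at most one. -/
theorem Act.pLength (A : Act P t) : PLengthLE p 1 G := by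
  classical
  set O := pPrimeCore p G with hOdef
  have hOc : (Nat.card O).Coprime p := Cfsg.Agent.Lib.Solvable.Carter.card_pPrimeCore_coprime p
  haveI hOn : O.Normal := Cfsg.Agent.Lib.Basic.PCore.pPrimeCore_normal p G
  have hA := A.quot_act O hOc
  have h0 : pPrimeCore p (G ⧸ O) = ⊥ := Cfsg.Agent.Lib.Solvable.PSeries.pPrimeCore_quotient p
  have hn := core_normal hA h0
  refine Cfsg.Agent.Lib.OddOrder.BG37.pLengthLE_of_quot (QuotientGroup.mk' O) (QuotientGroup.mk'_surjective O)
    (QuotientGroup.ker_mk' O) h0 ?_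
  set Pb : Sylow p (G ⧸ O) := P.mapSurjective (QuotientGroup.mk'_surjective O) with hPb
  have hle : (Pb : Subgroup (G ⧸ O)) ≤ pCore p (G ⧸ O) :=
    Cfsg.Agent.Lib.Basic.PCore.le_pCore hn Pb.isPGroup'
  have h1 : (pCore p (G ⧸ O)).index ∣ (Pb : Subgroup (G ⧸ O)).index := Subgroup.index_dvd_of_le hle
  rw [Nat.coprime_comm, Nat.Prime.coprime_iff_not_dvd hp.out]
  exact fun hd => Pb.not_dvd_index (hd.trans h1)

end Quot

end Cfsg.Agent.Lib.Transfer.AbTwo
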