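import Mathlib
import Cfsg.Prelude.Def_Transfer

set_option autoImplicit false

/-!
Gaschütz style lifting through a central extension: a homomorphism `f : G →* W` lifts through a
surjection `π : E →* W` with central kernel of order prime to `[G : P]` as soon as it lifts on `P`.
The proof uses the transfer on the pull-back `G ×_W E`.
-/

namespace Cfsg.Agent.Lib.Transfer.CentralLift

open Subgroup
open scoped IsMulCommutative

private lemma mul_aux1 {E : Type*} [Group E] (a b x y : E) (h : ∀ w, (b * y⁻¹) * w = w * (b * y⁻¹)) :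
    a * b * (x * y)⁻¹ = a * x⁻¹ * (b * y⁻¹) := by
  calc a * b * (x * y)⁻¹ = a * ((b * y⁻¹) * x⁻¹) := by group
    _ = a * (x⁻¹ * (b * y⁻¹)) := by rw [h]
    _ = a * x⁻¹ * (b * y⁻¹) := by group

private lemma mul_aux2 {E : Type*} [Group E] (a b x y : E) (h : ∀ w, x * w = w * x) :
    a * b * (x * y)⁻¹ = a * x⁻¹ * (b * y⁻¹) := by
  have h' : x⁻¹ * (b * y⁻¹) = (b * y⁻¹) * x⁻¹ := (Commute.inv_left (h (b * y⁻¹))).eq
  calc a * b * (x * y)⁻¹ = a * ((b * y⁻¹) * x⁻¹) := by group
    _ = a * (x⁻¹ * (b * y⁻¹)) := by rw [h']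
    _ = a * x⁻¹ * (b * y⁻¹) := by group

variable {G E W : Type*} [Group G] [Group E] [Group W] [Finite G] [Finite E]

/-- **Central lifting.** If `f : G →* W` lifts through the surjection `π : E →* W` with central
kernel on a subgroup `P` whose index is prime to the order of the kernel, then `f` lifts. -/
theorem exists_lift_of_lift_on_subgroup (P : Subgroup G) (π : E →* W)
    (hsurj : Function.Surjective π) (hcent : π.ker ≤ center E) (f : G →* W) (s : P →* E)
    (hs : ∀ x : P, π (s x) = f x) (hcop : (Nat.card π.ker).Coprime P.index) :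
    ∃ F : G →* E, ∀ g, π (F g) = f g := by
  classical
  -- the commutative group structure on the kernel
  have hA : IsMulCommutative π.ker := ⟨⟨fun a b => Subtype.ext (by
    have := Subgroup.mem_center_iff.mp (hcent a.2) (b : E)
    simpa using this.symm)⟩⟩
  -- the pull-back
  let Gh : Subgroup (G × E) := (f.comp (MonoidHom.fst G E)).eqLocus (π.comp (MonoidHom.snd G E))
  have hGh : ∀ x : G × E, x ∈ Gh ↔ f x.1 = π x.2 := fun x => Iff.rfl
  let pr : Gh →* G := (MonoidHom.fst G E).comp Gh.subtype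
  have hpr : Function.Surjective pr := by
    intro g
    obtain ⟨y, hy⟩ := hsurj (f g)
    exact ⟨⟨(g, y), (hGh _).mpr hy.symm⟩, rfl⟩
  let H : Subgroup Gh := P.comap pr
  have hidx : H.index = P.index := Subgroup.index_comap_of_surjective P hpr
  have : H.FiniteIndex := ⟨by rw [hidx]; exact Subgroup.FiniteIndex.index_ne_zero⟩
  have hmem : ∀ x : H, (x : Gh).1.1 ∈ P := fun x => x.2
  have hz : ∀ x : H, (x : Gh).1.2 * (s ⟨(x : Gh).1.1, hmem x⟩)⁻¹ ∈ π.ker := by
    intro x
    rw [MonoidHom.mem_ker, map_mul, map_inv, hs]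
    have h1 := (hGh _).mp (x : Gh).2
    rw [← h1]
    simp
  let φ : H →* π.ker := MonoidHom.mk' (fun x => ⟨_, hz x⟩) (by
    intro a b
    apply Subtype.ext
    change (a : Gh).1.2 * (b : Gh).1.2 * (s ⟨(a : Gh).1.1 * (b : Gh).1.1, _⟩)⁻¹ =
      (a : Gh).1.2 * (s ⟨(a : Gh).1.1, hmem a⟩)⁻¹ *
        ((b : Gh).1.2 * (s ⟨(b : Gh).1.1, hmem b⟩)⁻¹)
    have h1 : (⟨(a : Gh).1.1 * (b : Gh).1.1, (H.mul_mem a.2 b.2)⟩ : P) =
        ⟨(a : Gh).1.1, hmem a⟩ * ⟨(b : Gh).1.1, hmem b⟩ := rfl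
    rw [h1, map_mul]
    exact mul_aux1 _ _ _ _ (fun w => (Subgroup.mem_center_iff.mp (hcent (hz b)) w).symm))
  let T : Gh →* π.ker := φ.transfer
  -- the transfer on central elements of the kernel
  have hT : ∀ z : π.ker, ∀ hzz : ((1 : G), (z : E)) ∈ Gh,
      ((T ⟨((1 : G), (z : E)), hzz⟩ : π.ker) : E) = (z : E) ^ P.index := by
    intro z hzz
    have hcentral : ∀ (g₀ : Gh) (k : ℕ), g₀⁻¹ * (⟨((1 : G), (z : E)), hzz⟩ : Gh) ^ k * g₀ =
        (⟨((1 : G), (z : E)), hzz⟩ : Gh) ^ k := by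
      intro g₀ k
      have hc : Commute (⟨((1 : G), (z : E)), hzz⟩ : Gh) g₀ := by
        apply Subtype.ext
        apply Prod.ext
        · simp
        · exact Subgroup.mem_center_iff.mp (hcent z.2) (g₀ : G × E).2 |>.symm
      have := (hc.pow_left k).eq
      rw [mul_assoc, this, inv_mul_cancel_left]
    have h1 := MonoidHom.transfer_eq_pow φ (⟨((1 : G), (z : E)), hzz⟩ : Gh)
      (fun k g₀ _ => hcentral g₀ k)
    have hφ : ∀ (n : ℕ) (hn : (⟨((1 : G), (z : E)), hzz⟩ : Gh) ^ n ∈ H),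
        ((φ ⟨(⟨((1 : G), (z : E)), hzz⟩ : Gh) ^ n, hn⟩ : π.ker) : E) = (z : E) ^ n := by
      intro n hn
      have hval : (((⟨((1 : G), (z : E)), hzz⟩ : Gh) ^ n : Gh) : G × E) =
          ((1 : G), (z : E) ^ n) := by
        simp
      change (((⟨((1 : G), (z : E)), hzz⟩ : Gh) ^ n : Gh) : G × E).2 *
        (s ⟨(((⟨((1 : G), (z : E)), hzz⟩ : Gh) ^ n : Gh) : G × E).1, _⟩)⁻¹ = _
      have hone : ∀ h, s ⟨(((⟨((1 : G), (z : E)), hzz⟩ : Gh) ^ n : Gh) : G × E).1, h⟩ = 1 := by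
        intro h
        have : (⟨(((⟨((1 : G), (z : E)), hzz⟩ : Gh) ^ n : Gh) : G × E).1, h⟩ : P) = 1 :=
          Subtype.ext (by simp)
        rw [this, map_one]
      rw [hone, hval]
      simp
    change ((φ.transfer (⟨((1 : G), (z : E)), hzz⟩ : Gh) : π.ker) : E) = _
    rw [h1, hφ, hidx]
  -- an inverse exponent
  obtain ⟨v, u, huv⟩ := Nat.isCoprime_iff_coprime.mpr hcop
  have hu : ∀ z : π.ker, ((z : E) ^ P.index) ^ u = z := by
    intro z
    have hcardz : (z : E) ^ (Nat.card π.ker) = 1 := by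
      have := pow_card_eq_one' (x := z)
      exact congrArg Subtype.val this
    calc ((z : E) ^ P.index) ^ u = (z : E) ^ ((P.index : ℤ) * u) := by
          rw [zpow_mul, zpow_natCast]
      _ = ((z : E) ^ (Nat.card π.ker)) ^ v * (z : E) ^ ((P.index : ℤ) * u) := by
          rw [hcardz, one_zpow, one_mul]
      _ = (z : E) ^ ((v * (Nat.card π.ker : ℤ) + u * (P.index : ℤ))) := by
          rw [← zpow_natCast, ← zpow_mul, ← zpow_add]
          congr 1
          ring
      _ = z := by rw [huv, zpow_one]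
  -- the map on the pull-back
  have hTc : ∀ x : Gh, ∀ w : E, (((T x) ^ u : π.ker) : E) * w = w * (((T x) ^ u : π.ker) : E) :=
    fun x w => (Subgroup.mem_center_iff.mp (hcent (Subtype.prop _)) w).symm
  let Fh : Gh →* E := MonoidHom.mk' (fun x => (x : G × E).2 * (((T x) ^ u : π.ker) : E)⁻¹) (by
    intro a b
    rw [map_mul, mul_zpow]
    exact mul_aux2 _ _ _ _ (hTc a))
  have hFh : ∀ x : Gh, Fh x = (x : G × E).2 * (((T x) ^ u : π.ker) : E)⁻¹ := fun x => rfl
  have hFz : ∀ z : π.ker, ∀ hzz : ((1 : G), (z : E)) ∈ Gh, Fh ⟨((1 : G), (z : E)), hzz⟩ = 1 := by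
    intro z hzz
    rw [hFh]
    have h1 : (((T ⟨((1 : G), (z : E)), hzz⟩) ^ u : π.ker) : E) = z := by
      rw [Subgroup.coe_zpow, hT, hu]
    rw [h1]
    simp
  have hwd : ∀ a b : Gh, (a : G × E).1 = (b : G × E).1 → Fh a = Fh b := by
    intro a b hab
    have ha := (hGh _).mp a.2
    have hb := (hGh _).mp b.2
    have hk : (b : G × E).2 * (a : G × E).2⁻¹ ∈ π.ker := by
      rw [MonoidHom.mem_ker, map_mul, map_inv, ← ha, ← hb, hab]
      simp
    have hzz : ((1 : G), (⟨_, hk⟩ : π.ker).1) ∈ Gh := by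
      rw [hGh]
      simpa using (MonoidHom.mem_ker.mp hk).symm
    have hprod : b = ⟨((1 : G), (⟨_, hk⟩ : π.ker).1), hzz⟩ * a := by
      apply Subtype.ext
      apply Prod.ext
      · simp [hab]
      · simp
    rw [hprod, map_mul, hFz]
    simp
  choose y hy using fun g => hsurj (f g)
  have hyG : ∀ g, (g, y g) ∈ Gh := fun g => (hGh _).mpr (hy g).symm
  refine ⟨MonoidHom.mk' (fun g => Fh ⟨(g, y g), hyG g⟩) ?_, ?_⟩
  · intro a b
    rw [← map_mul]
    apply hwd
    simp
  · intro g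
    change π (Fh _) = _
    rw [hFh, map_mul, map_inv]
    have h0 : π (((T ⟨(g, y g), hyG g⟩) ^ u : π.ker) : E) = 1 :=
      MonoidHom.mem_ker.mp (Subtype.prop _)
    rw [h0, inv_one, mul_one]
    exact hy g

end Cfsg.Agent.Lib.Transfer.CentralLift
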