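import Mathlib

/-!
Homocyclic Sylow 2-subgroups of type (2^m, 2^m): the action of the normalizer on the three
involutions of P.  Used for S0945 and S0946.
-/

set_option autoImplicit false

namespace Cfsg.Agent.Lib.Transfer.HomocyclicSylow

variable {G : Type*} [Group G]

/-- In `ZMod (2 ^ m)`, `2 * u = 0` forces `u = 0` or `u = 2 ^ (m - 1)`. -/
theorem zmod_two_mul_eq_zero {m : ℕ} (hm : 1 ≤ m) (u : ZMod (2 ^ m)) (h : 2 * u = 0) :
    u = 0 ∨ u = ((2 ^ (m - 1) : ℕ) : ZMod (2 ^ m)) := by
  obtain ⟨k, rfl⟩ : ∃ k, m = k + 1 := ⟨m - 1, by omega⟩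
  simp only [Nat.add_sub_cancel]
  haveI : NeZero (2 ^ (k + 1)) := ⟨by positivity⟩
  have hu : ((u.val : ℕ) : ZMod (2 ^ (k + 1))) = u := ZMod.natCast_zmod_val u
  have hlt : u.val < 2 ^ (k + 1) := ZMod.val_lt u
  have h2 : ((2 * u.val : ℕ) : ZMod (2 ^ (k + 1))) = 0 := by
    rw [Nat.cast_mul, hu]; simpa using h
  rw [ZMod.natCast_eq_zero_iff] at h2
  generalize u.val = a at hu hlt h2
  have h3 : 2 ^ k ∣ a := by
    rw [pow_succ, mul_comm] at h2
    exact Nat.dvd_of_mul_dvd_mul_left (by norm_num) h2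
  obtain ⟨b, hb⟩ := h3
  have hb2 : b < 2 := by
    by_contra hcon
    push Not at hcon
    have : 2 ^ k * 2 ≤ 2 ^ k * b := Nat.mul_le_mul_left _ hcon
    rw [pow_succ] at hlt
    omega
  interval_cases b
  · left
    rw [← hu, hb]; simp
  · right
    rw [← hu, hb]; simp

/-- The involutions of `P`. -/
def omega (P : Subgroup G) : Set G := {x | x ∈ P ∧ x ≠ 1 ∧ x ^ 2 = 1}

theorem omega_ncard_le (P : Subgroup G) {m : ℕ} (hm : 1 ≤ m)
    (e : P ≃* Multiplicative (ZMod (2 ^ m) × ZMod (2 ^ m))) : (omega P).ncard ≤ 3 := by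
  set h : ZMod (2 ^ m) := ((2 ^ (m - 1) : ℕ) : ZMod (2 ^ m)) with hh
  let c : ZMod (2 ^ m) × ZMod (2 ^ m) → G := fun a => ((e.symm (Multiplicative.ofAdd a) : P) : G)
  have hsub : omega P ⊆ ({c (h, 0), c (0, h), c (h, h)} : Set G) := by
    rintro x ⟨hxP, hx1, hx2⟩
    set y : ZMod (2 ^ m) × ZMod (2 ^ m) := Multiplicative.toAdd (e ⟨x, hxP⟩) with hy
    have hxc : x = c y := by
      simp [c, hy]
    have hy2 : 2 • y = 0 := by
      have h1 : (⟨x, hxP⟩ : P) ^ 2 = 1 := Subtype.ext (by simpa using hx2)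
      have h2 : (e ⟨x, hxP⟩) ^ 2 = 1 := by rw [← map_pow, h1, map_one]
      have h3 := congrArg Multiplicative.toAdd h2
      simpa [hy, toAdd_pow] using h3
    have hy0 : y ≠ 0 := by
      intro h0
      apply hx1
      rw [hxc, h0]
      simp [c]
    have h1 : 2 * y.1 = 0 := by
      have := congrArg Prod.fst hy2
      simpa using this
    have h2 : 2 * y.2 = 0 := by
      have := congrArg Prod.snd hy2
      simpa using this
    rcases zmod_two_mul_eq_zero hm _ h1 with ha | ha <;>
      rcases zmod_two_mul_eq_zero hm _ h2 with hb | hb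
    · exact absurd (Prod.ext ha hb) hy0
    · right; left
      rw [hxc]
      show c y = c (0, h)
      congr 1
      exact Prod.ext ha hb
    · left
      rw [hxc]
      show c y = c (h, 0)
      congr 1
      exact Prod.ext ha hb
    · right; right
      rw [hxc]
      show c y = c (h, h)
      congr 1
      exact Prod.ext ha hb
  refine (Set.ncard_le_ncard hsub (Set.toFinite _)).trans ?_
  classical
  have h3 : ({c (h, 0), c (0, h), c (h, h)} : Set G) =
      ↑({c (h, 0), c (0, h), c (h, h)} : Finset G) := by simp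
  rw [h3, Set.ncard_coe_finset]
  exact Finset.card_le_three

/-- An odd-order element normalizing an abelian 2-subgroup and centralizing its elements of order at
most 2 centralizes the subgroup. -/
theorem centralizes_of_odd (P : Subgroup G) (hP : IsPGroup 2 P)
    (hab : ∀ x ∈ P, ∀ y ∈ P, x * y = y * x) (h : G) (hh : h ∈ Subgroup.normalizer (P : Set G))
    (n : ℕ) (hn : Odd n) (hpow : h ^ n = 1) (htriv : ∀ x ∈ P, x ^ 2 = 1 → h * x * h⁻¹ = x) :
    ∀ x ∈ P, h * x * h⁻¹ = x := by
  have hind : ∀ j : ℕ, ∀ x ∈ P, x ^ (2 ^ j) = 1 → h * x * h⁻¹ = x := by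
    intro j
    induction j with
    | zero =>
      intro x _ hx
      have : x = 1 := by simpa using hx
      simp [this]
    | succ j ih =>
      intro x hxP hx
      have hxh : h * x * h⁻¹ ∈ P := (Subgroup.mem_normalizer_iff.1 hh x).1 hxP
      have h2 : h * x ^ 2 * h⁻¹ = x ^ 2 := by
        apply ih (x ^ 2) (P.pow_mem hxP 2)
        rw [← pow_mul, ← pow_succ']
        exact hx
      set y := h * x * h⁻¹ with hy
      have hyx : y * x = x * y := hab y hxh x hxP
      have hw : y * x⁻¹ ∈ P := P.mul_mem hxh (P.inv_mem hxP)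
      have hy2 : y ^ 2 = x ^ 2 := by
        rw [← h2, hy, conj_pow]
      have hw2 : (y * x⁻¹) ^ 2 = 1 := by
        have hcomm : Commute y x⁻¹ := (Commute.inv_right hyx)
        rw [hcomm.mul_pow, hy2, inv_pow, mul_inv_cancel]
      have hwh : h * (y * x⁻¹) * h⁻¹ = y * x⁻¹ := htriv _ hw hw2
      -- the powers
      set w := y * x⁻¹ with hwdef
      have hyw : y = w * x := by rw [hwdef]; group
      have hpowi : ∀ i : ℕ, h ^ i * x * (h ^ i)⁻¹ = w ^ i * x := by
        intro i
        induction i with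
        | zero => simp
        | succ i ihi =>
          calc h ^ (i + 1) * x * (h ^ (i + 1))⁻¹ = h ^ i * (h * x * h⁻¹) * (h ^ i)⁻¹ := by
                rw [pow_succ]; group
            _ = h ^ i * (w * x) * (h ^ i)⁻¹ := by rw [← hy, hyw]
            _ = (h ^ i * w * (h ^ i)⁻¹) * (h ^ i * x * (h ^ i)⁻¹) := by group
            _ = w * (w ^ i * x) := by
                have hwi : ∀ i : ℕ, h ^ i * w * (h ^ i)⁻¹ = w := by
                  intro i
                  induction i with
                  | zero => simp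
                  | succ i ihi2 =>
                    calc h ^ (i + 1) * w * (h ^ (i + 1))⁻¹ = h ^ i * (h * w * h⁻¹) * (h ^ i)⁻¹ := by
                          rw [pow_succ]; group
                      _ = w := by rw [hwh, ihi2]
                rw [hwi, ihi]
            _ = w ^ (i + 1) * x := by rw [pow_succ']; group
      have h3 := hpowi n
      rw [hpow] at h3
      simp only [one_mul, inv_one, mul_one] at h3
      have hwn : w ^ n = 1 := by
        have : w ^ n * x = 1 * x := by rw [← h3]; simp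
        exact mul_right_cancel this
      obtain ⟨r, hr⟩ := hn
      have hw1 : w = 1 := by
        rw [hr, pow_succ, pow_mul, hw2, one_pow, one_mul] at hwn
        exact hwn
      have : y = x := by rw [hyw, hw1, one_mul]
      exact this
  intro x hxP
  obtain ⟨j, hj⟩ := (IsPGroup.iff_orderOf.1 hP) ⟨x, hxP⟩
  apply hind j x hxP
  have := pow_orderOf_eq_one (⟨x, hxP⟩ : P)
  rw [hj] at this
  simpa using congrArg Subtype.val this

/-- Every element of `N_G(P)`, `P` Sylow, is a product of an odd-order element of `N_G(P)` and an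
element of `P`. -/
theorem exists_odd_mul [Finite G] [Fact (Nat.Prime 2)] (P : Sylow 2 G) (g : G)
    (hg : g ∈ Subgroup.normalizer ((P : Subgroup G) : Set G)) :
    ∃ h y : G, g = h * y ∧ y ∈ (P : Subgroup G) ∧
      h ∈ Subgroup.normalizer ((P : Subgroup G) : Set G) ∧ ∃ n : ℕ, Odd n ∧ h ^ n = 1 := by
  have hpos : orderOf g ≠ 0 := (orderOf_pos g).ne'
  obtain ⟨k, n, hn, hkn⟩ := Nat.exists_eq_two_pow_mul_odd hpos
  have hcop : Nat.Coprime (2 ^ k) n := by
    apply Nat.Coprime.pow_left
    exact Nat.coprime_two_left.2 hn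
  have hbez : ((2 ^ k : ℕ) : ℤ) * Nat.gcdA (2 ^ k) n + (n : ℤ) * Nat.gcdB (2 ^ k) n = 1 := by
    have := Nat.gcd_eq_gcd_ab (2 ^ k) n
    rw [hcop] at this
    simpa using this.symm
  set a := Nat.gcdA (2 ^ k) n
  set b := Nat.gcdB (2 ^ k) n
  have hg1 : g = g ^ (((2 ^ k : ℕ) : ℤ) * a) * g ^ ((n : ℤ) * b) := by
    rw [← zpow_add, hbez, zpow_one]
  refine ⟨g ^ (((2 ^ k : ℕ) : ℤ) * a), g ^ ((n : ℤ) * b), hg1, ?_, ?_, n, hn, ?_⟩
  · -- the 2-part is in P
    set y := g ^ ((n : ℤ) * b) with hydef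
    have hy2 : y ^ (2 ^ k) = 1 := by
      rw [hydef, ← zpow_natCast, ← zpow_mul]
      have : (n : ℤ) * b * ((2 ^ k : ℕ) : ℤ) = (orderOf g : ℤ) * b := by
        rw [hkn]; push_cast; ring
      rw [this, zpow_mul, zpow_natCast, pow_orderOf_eq_one, one_zpow]
    have hy : IsPGroup 2 (Subgroup.zpowers y) := by
      rw [IsPGroup.iff_card, Nat.card_zpowers]
      obtain ⟨j, _, hj⟩ := (Nat.dvd_prime_pow Nat.prime_two).1 (orderOf_dvd_of_pow_eq_one hy2)
      exact ⟨j, hj⟩
    have hmem : y ∈ Subgroup.zpowers y ⊓ Subgroup.normalizer ((P : Subgroup G) : Set G) :=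
      ⟨Subgroup.mem_zpowers y, Subgroup.zpow_mem _ hg _⟩
    have h2 : Subgroup.zpowers y ⊓ Subgroup.normalizer ((P : Subgroup G) : Set G) =
        Subgroup.zpowers y ⊓ (P : Subgroup G) := hy.inf_normalizer_sylow P
    rw [h2] at hmem
    exact hmem.2
  · exact Subgroup.zpow_mem _ hg _
  · rw [← zpow_natCast, ← zpow_mul]
    have : ((2 ^ k : ℕ) : ℤ) * a * (n : ℤ) = (orderOf g : ℤ) * a := by
      rw [hkn]; push_cast; ring
    rw [this, zpow_mul, zpow_natCast, pow_orderOf_eq_one, one_zpow]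

/-- An odd-order element moving `u` does not fix `u` under its square. -/
theorem square_moved (h : G) (n : ℕ) (hn : Odd n) (hpow : h ^ n = 1)
    (u : G) (hmove : h * u * h⁻¹ ≠ u) : h * (h * u * h⁻¹) * h⁻¹ ≠ u := by
  set π : G → G := fun x => h * x * h⁻¹ with hπ
  intro h2u
  have h2u' : π (π u) = u := h2u
  have hev : ∀ i : ℕ, (π^[2 * i]) u = u := by
    intro i
    induction i with
    | zero => simp
    | succ i ih =>
      rw [show 2 * (i + 1) = 2 + 2 * i by ring, Function.iterate_add_apply, ih]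
      exact h2u'
  obtain ⟨r, hr⟩ := hn
  have h3 : (π^[n]) u = π u := by
    rw [hr, add_comm, Function.iterate_add_apply, hev r]
    rfl
  have h4 : ∀ i : ℕ, (π^[i]) u = h ^ i * u * (h ^ i)⁻¹ := by
    intro i
    induction i with
    | zero => simp
    | succ i ih =>
      rw [Function.iterate_succ_apply', ih, pow_succ']
      simp only [hπ]
      group
  rw [h4 n, hpow] at h3
  apply hmove
  have : π u = u := by rw [← h3]; simp
  exact this

theorem conj_mem_omega (P : Subgroup G) (h : G) (hh : h ∈ Subgroup.normalizer (P : Set G))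
    (x : G) (hx : x ∈ omega P) : h * x * h⁻¹ ∈ omega P := by
  obtain ⟨hxP, hx1, hx2⟩ := hx
  refine ⟨(Subgroup.mem_normalizer_iff.1 hh x).1 hxP, ?_, ?_⟩
  · intro h0
    apply hx1
    simpa using h0
  · rw [conj_pow, hx2]; simp

/-- An odd-order element `h` normalizing `P` with at most three involutions: if `h` moves an
involution `u` of `P`, then the orbit of `u` exhausts the involutions of `P`. -/
theorem orbit_of_moved [Finite G] (P : Subgroup G) (hcard : (omega P).ncard ≤ 3) (h : G)
    (hh : h ∈ Subgroup.normalizer (P : Set G)) (n : ℕ) (hn : Odd n) (hpow : h ^ n = 1)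
    (u : G) (hu : u ∈ omega P) (hmove : h * u * h⁻¹ ≠ u) :
    ∀ v ∈ omega P, v = u ∨ v = h * u * h⁻¹ ∨ v = h * (h * u * h⁻¹) * h⁻¹ := by
  classical
  have h2 : h * (h * u * h⁻¹) * h⁻¹ ≠ u := square_moved h n hn hpow u hmove
  have hdist : ({u, h * u * h⁻¹, h * (h * u * h⁻¹) * h⁻¹} : Finset G).card = 3 := by
    rw [Finset.card_eq_three]
    refine ⟨u, _, _, ?_, ?_, ?_, rfl⟩
    · exact fun h0 => hmove h0.symm
    · exact fun h0 => h2 h0.symm
    · intro h0
      apply hmove
      have : h * u * h⁻¹ = u := by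
        have h3 := h0
        simpa using h3.symm
      exact this
  have hsub : ((({u, h * u * h⁻¹, h * (h * u * h⁻¹) * h⁻¹} : Finset G) : Set G)) ⊆ omega P := by
    intro x hx
    simp only [Finset.coe_insert, Finset.coe_singleton, Set.mem_insert_iff,
      Set.mem_singleton_iff] at hx
    rcases hx with rfl | rfl | rfl
    · exact hu
    · exact conj_mem_omega P h hh _ hu
    · exact conj_mem_omega P h hh _ (conj_mem_omega P h hh _ hu)
  have heq := Set.eq_of_subset_of_ncard_le hsub (by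
    rw [Set.ncard_coe_finset, hdist]; exact hcard) (Set.toFinite _)
  intro v hv
  rw [← heq] at hv
  simpa using hv

/-- An involution `s` of `G` is conjugate to a member of `omega P`, `P` Sylow. -/
theorem conj_into_omega [Finite G] [Fact (Nat.Prime 2)] (P : Sylow 2 G) (t : G)
    (ht : orderOf t = 2) : ∃ x ∈ omega (P : Subgroup G), IsConj x t := by
  have hpg : IsPGroup 2 (Subgroup.zpowers t) := by
    rw [IsPGroup.iff_card, Nat.card_zpowers, ht]
    exact ⟨1, by simp⟩
  obtain ⟨R, hR⟩ := hpg.exists_le_sylow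
  obtain ⟨g, rfl⟩ := MulAction.exists_smul_eq G P R
  have htR : t ∈ ((g • P : Sylow 2 G) : Subgroup G) := hR (Subgroup.mem_zpowers t)
  rw [Sylow.coe_subgroup_smul, Subgroup.mem_pointwise_smul_iff_inv_smul_mem] at htR
  have hval : (MulAut.conj g)⁻¹ • t = g⁻¹ * t * g := by
    simp
  rw [hval] at htR
  refine ⟨g⁻¹ * t * g, ⟨htR, ?_, ?_⟩, ?_⟩
  · intro h1
    have h2 : t = 1 := by
      have h4 : g * (g⁻¹ * t * g) * g⁻¹ = 1 := by rw [h1]; simp
      simpa [mul_assoc] using h4
    rw [h2, orderOf_one] at ht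
    omega
  · have : t ^ 2 = 1 := by rw [← ht]; exact pow_orderOf_eq_one t
    have h5 : g⁻¹ * t * g = g⁻¹ * t * g⁻¹⁻¹ := by simp
    rw [h5, conj_pow, this]; simp
  · rw [isConj_iff]
    refine ⟨g, ?_⟩
    simp [mul_assoc]

/-- Key lemma: an element of `N_G(P)` fixing an involution of `P` centralizes `P`. -/
theorem fix_imp_centralizes [Finite G] [Fact (Nat.Prime 2)] (P : Sylow 2 G)
    (hab : ∀ x ∈ (P : Subgroup G), ∀ y ∈ (P : Subgroup G), x * y = y * x)
    (hcard : (omega (P : Subgroup G)).ncard ≤ 3) (k : G)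
    (hk : k ∈ Subgroup.normalizer ((P : Subgroup G) : Set G)) (v : G)
    (hv : v ∈ omega (P : Subgroup G)) (hfix : k * v * k⁻¹ = v) :
    ∀ x ∈ (P : Subgroup G), k * x * k⁻¹ = x := by
  obtain ⟨h, y, rfl, hy, hh, n, hn, hpow⟩ := exists_odd_mul P k hk
  have hhv : h * v * h⁻¹ = v := by
    have h1 : y * v * y⁻¹ = v := by
      have := hab y hy v hv.1
      rw [this]; simp
    calc h * v * h⁻¹ = h * (y * v * y⁻¹) * h⁻¹ := by rw [h1]
      _ = h * y * v * (h * y)⁻¹ := by group
      _ = v := hfix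
  have hall : ∀ x ∈ (P : Subgroup G), x ^ 2 = 1 → h * x * h⁻¹ = x := by
    intro u huP hu2
    by_cases hu1 : u = 1
    · simp [hu1]
    by_contra hmove
    have hu : u ∈ omega (P : Subgroup G) := ⟨huP, hu1, hu2⟩
    rcases orbit_of_moved (P : Subgroup G) hcard h hh n hn hpow u hu hmove v hv with
      rfl | rfl | rfl
    · exact hmove hhv
    · apply hmove
      have : h * (h * u * h⁻¹) * h⁻¹ = h * u * h⁻¹ := hhv
      simpa using this
    · apply hmove
      have : h * (h * (h * u * h⁻¹) * h⁻¹) * h⁻¹ = h * (h * u * h⁻¹) * h⁻¹ := hhv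
      simpa using this
  have hc := centralizes_of_odd (P : Subgroup G) P.isPGroup' hab h hh n hn hpow hall
  intro x hx
  have h1 : y * x * y⁻¹ = x := by
    have := hab y hy x hx
    rw [this]; simp
  calc h * y * x * (h * y)⁻¹ = h * (y * x * y⁻¹) * h⁻¹ := by group
    _ = x := by rw [h1, hc x hx]

/-- Conjugation action of a subgroup on the group, as an explicit (non-instance) action. -/
@[reducible] def conjActOn (N : Subgroup G) : MulAction N G where
  smul k x := (k : G) * x * (k : G)⁻¹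
  one_smul x := by show (1 : G) * x * (1 : G)⁻¹ = x; simp
  mul_smul a b x := by
    show (a : G) * b * x * ((a : G) * b)⁻¹ = a * (b * x * (b : G)⁻¹) * (a : G)⁻¹
    group

/-- Orbit-stabilizer in the shape of a relative index. -/
theorem relIndex_eq_ncard (N C : Subgroup G) (u : G) (S : Set G)
    (hS : ∀ k ∈ N, k * u * k⁻¹ ∈ S) (hS' : ∀ v ∈ S, ∃ k ∈ N, k * u * k⁻¹ = v)
    (hC : ∀ k ∈ N, k * u * k⁻¹ = u ↔ k ∈ C) : C.relIndex N = S.ncard := by
  letI := conjActOn N
  have h1 := MulAction.index_stabilizer N u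
  have hstab : MulAction.stabilizer N u = C.subgroupOf N := by
    ext k
    rw [MulAction.mem_stabilizer_iff, Subgroup.mem_subgroupOf]
    exact hC k k.2
  have horb : MulAction.orbit N u = S := by
    ext v
    rw [MulAction.mem_orbit_iff]
    constructor
    · rintro ⟨k, rfl⟩
      exact hS k k.2
    · intro hv
      obtain ⟨k, hk, rfl⟩ := hS' v hv
      exact ⟨⟨k, hk⟩, rfl⟩
  rw [hstab, horb] at h1
  exact h1

end Cfsg.Agent.Lib.Transfer.HomocyclicSylow
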