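import Mathlib
import Cfsg.Agent.Lib.Transfer.CentralLift
import Cfsg.Agent.Lib.Transfer.Basic

set_option autoImplicit false

/-!
**Tate's theorem** on normal `p`-complements, by iterating the central lifting of `CentralLift`
along `[Q, P] < Q`: if a normal subgroup `L` with `LP = G` meets the Sylow subgroup `P` in a
non-generating subgroup, then `L` contains a normal `p`-complement of `G`.
-/

namespace Cfsg.Agent.Lib.Transfer.Tate

open Subgroup
open scoped commutatorElement

/-- A nontrivial subgroup `Q` of a nilpotent group is not inside `[Q, T]`. -/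
theorem not_le_commutator_top {T : Type*} [Group T] [hT : Group.IsNilpotent T] (Q : Subgroup T)
    (hQ : Q ≠ ⊥) : ¬ Q ≤ ⁅Q, (⊤ : Subgroup T)⁆ := by
  intro h
  apply hQ
  obtain ⟨n, hn⟩ := (_root_.nilpotent_iff_lowerCentralSeries).mp hT
  have hk : ∀ k, Q ≤ (⊤ : Subgroup T).lowerCentralSeries k := by
    intro k
    induction k with
    | zero => exact le_top
    | succ k ih => exact h.trans (Subgroup.commutator_mono ih le_rfl)
  have := hk n
  rw [hn] at this
  exact le_bot_iff.mp this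

variable {G : Type*} [Group G] [Finite G] {p : ℕ} [hp : Fact p.Prime]

/-- One step of the descent. -/
theorem tate_step (P : Subgroup G) (hP : IsPGroup p P) (hidx : ¬ p ∣ P.index) (L : Subgroup G)
    [hL : L.Normal] (hsup : L ⊔ P = ⊤)
    (hng : ∀ M : Subgroup P, M ⊔ L.subgroupOf P = ⊤ → M = ⊤) (hne : L.subgroupOf P ≠ ⊥) :
    ∃ L' : Subgroup G, L' ≤ L ∧ L'.Normal ∧ L' ⊔ P = ⊤ ∧
      Nat.card (L'.subgroupOf P) < Nat.card (L.subgroupOf P) := by
  classical
  have hnil : Group.IsNilpotent P := hP.isNilpotent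
  have hQn : (L.subgroupOf P).Normal := inferInstance
  have hBn : (⁅L.subgroupOf P, (⊤ : Subgroup P)⁆).Normal := inferInstance
  generalize hQdef : L.subgroupOf P = Q at *
  have hmemQ : ∀ x : P, x ∈ Q ↔ (x : G) ∈ L := by
    intro x
    rw [← hQdef, Subgroup.mem_subgroupOf]
  generalize hBdef : ⁅Q, (⊤ : Subgroup P)⁆ = B at *
  have hBQ : B ≤ Q := by
    rw [← hBdef]
    exact Subgroup.commutator_le_left Q ⊤
  have hBlt : ¬ Q ≤ B := by
    rw [← hBdef]
    exact not_le_commutator_top Q hne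
  let f : G →* G ⧸ L := QuotientGroup.mk' L
  have hfk : ∀ g : G, f g = 1 ↔ g ∈ L := fun g => QuotientGroup.eq_one_iff g
  have hB1 : ∀ b ∈ B, (f.comp P.subtype) b = 1 := by
    intro b hb
    exact (hfk _).mpr ((hmemQ b).mp (hBQ hb))
  let π : P ⧸ B →* G ⧸ L := QuotientGroup.lift B (f.comp P.subtype) hB1
  have hπ : ∀ x : P, π (x : P ⧸ B) = f x := fun x => rfl
  have hsurj : Function.Surjective π := by
    intro w
    obtain ⟨g, rfl⟩ := QuotientGroup.mk_surjective w
    have hg : g ∈ L ⊔ P := by rw [hsup]; trivial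
    rw [← SetLike.mem_coe, Subgroup.normal_mul] at hg
    obtain ⟨l, hl, x, hx, rfl⟩ := hg
    refine ⟨((⟨x, hx⟩ : P) : P ⧸ B), ?_⟩
    rw [hπ]
    change f x = f (l * x)
    rw [map_mul, (hfk l).mpr hl, one_mul]
  have hker : ∀ x : P, π (x : P ⧸ B) = 1 ↔ x ∈ Q := by
    intro x
    rw [hπ, hfk, hmemQ]
  have hcent : π.ker ≤ center (P ⧸ B) := by
    intro y hy
    obtain ⟨x, rfl⟩ := QuotientGroup.mk_surjective y
    rw [MonoidHom.mem_ker, hker] at hy
    rw [Subgroup.mem_center_iff]
    intro w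
    obtain ⟨u, rfl⟩ := QuotientGroup.mk_surjective w
    have hc : ⁅x, u⁆ ∈ B := by
      rw [← hBdef]
      exact Subgroup.commutator_mem_commutator hy (mem_top u)
    have hc' : (x : P ⧸ B) * (u : P ⧸ B) * ((x : P ⧸ B))⁻¹ * ((u : P ⧸ B))⁻¹ = 1 := by
      rw [commutatorElement_def, ← QuotientGroup.eq_one_iff] at hc
      simpa using hc
    have h2 : (x : P ⧸ B) * (u : P ⧸ B) = (u : P ⧸ B) * (x : P ⧸ B) := by
      rwa [mul_inv_eq_one, mul_inv_eq_iff_eq_mul] at hc'
    exact h2.symm
  have hcop : (Nat.card π.ker).Coprime P.index := by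
    have hpg : IsPGroup p π.ker := (hP.to_quotient B).to_subgroup _
    obtain ⟨k, hk⟩ := IsPGroup.iff_card.mp hpg
    rw [hk]
    exact Nat.Coprime.pow_left k ((Nat.Prime.coprime_iff_not_dvd hp.out).mpr hidx)
  obtain ⟨F, hF⟩ := Cfsg.Agent.Lib.Transfer.CentralLift.exists_lift_of_lift_on_subgroup P π hsurj
    hcent f (QuotientGroup.mk' B) (fun x => rfl) hcop
  let θ : P →* P ⧸ B := F.comp P.subtype
  have hθsurj : Function.Surjective θ := by
    have hM : (θ.range.comap (QuotientGroup.mk' B)) ⊔ Q = ⊤ := by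
      rw [eq_top_iff]
      intro x _
      have h1 : π ((θ x)⁻¹ * (x : P ⧸ B)) = 1 := by
        rw [map_mul, map_inv, hπ]
        change (π (F (x : G)))⁻¹ * f x = 1
        rw [hF]
        simp
      obtain ⟨q, hq⟩ := QuotientGroup.mk_surjective ((θ x)⁻¹ * (x : P ⧸ B))
      have hqQ : q ∈ Q := by
        rw [← hker, hq]
        exact h1
      have hxq : x * q⁻¹ ∈ θ.range.comap (QuotientGroup.mk' B) := by
        rw [Subgroup.mem_comap]
        refine ⟨x, ?_⟩
        change θ x = ((x * q⁻¹ : P) : P ⧸ B)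
        rw [QuotientGroup.mk_mul, QuotientGroup.mk_inv, hq]
        group
      have := Subgroup.mul_mem_sup hxq hqQ
      simpa using this
    have hM' := hng _ hM
    intro y
    obtain ⟨x, rfl⟩ := QuotientGroup.mk_surjective y
    have : x ∈ θ.range.comap (QuotientGroup.mk' B) := by rw [hM']; trivial
    exact this
  have hkerθ : θ.ker = F.ker.subgroupOf P := by
    ext x
    rw [MonoidHom.mem_ker, Subgroup.mem_subgroupOf, MonoidHom.mem_ker]
    rfl
  refine ⟨F.ker, ?_, inferInstance, ?_, ?_⟩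
  · intro g hg
    rw [MonoidHom.mem_ker] at hg
    have := hF g
    rw [hg, map_one] at this
    exact (hfk g).mp this.symm
  · rw [eq_top_iff]
    intro g _
    obtain ⟨x, hx⟩ := hθsurj (F g)
    have h1 : g * (x : G)⁻¹ ∈ F.ker := by
      rw [MonoidHom.mem_ker, map_mul, map_inv, ← hx]
      change θ x * (θ x)⁻¹ = 1
      group
    have := Subgroup.mul_mem_sup h1 x.2
    simpa using this
  · rw [← hkerθ]
    have hc1 : Nat.card θ.ker * θ.ker.index = Nat.card P := Subgroup.card_mul_index _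
    have hc2 : θ.ker.index = Nat.card (P ⧸ B) := by
      rw [Subgroup.index_ker, MonoidHom.range_eq_top.mpr hθsurj]
      exact Nat.card_congr Subgroup.topEquiv.toEquiv
    have hc3 : Nat.card B * B.index = Nat.card P := Subgroup.card_mul_index _
    have hc4 : B.index = Nat.card (P ⧸ B) := Subgroup.index_eq_card B
    have hpos : 0 < Nat.card (P ⧸ B) := Nat.card_pos
    have hEq : Nat.card θ.ker = Nat.card B := by
      apply Nat.eq_of_mul_eq_mul_right hpos
      rw [← hc2, hc1, ← hc3, hc4, hc2]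
    rw [hEq]
    have hlt : B < Q := lt_of_le_not_ge hBQ hBlt
    exact lt_of_le_of_ne (Nat.le_of_dvd Nat.card_pos (Subgroup.card_dvd_of_le hlt.le))
      (fun e => hlt.ne (Subgroup.eq_of_le_of_card_ge hlt.le e.ge))

/-- Iterating the step. -/
theorem tate_core (P : Subgroup G) (hP : IsPGroup p P) (hidx : ¬ p ∣ P.index) :
    ∀ (n : ℕ) (L : Subgroup G) (_ : L.Normal), Nat.card (L.subgroupOf P) = n → L ⊔ P = ⊤ →
      (∀ M : Subgroup P, M ⊔ L.subgroupOf P = ⊤ → M = ⊤) →
      ∃ L' : Subgroup G, L' ≤ L ∧ L'.Normal ∧ L' ⊔ P = ⊤ ∧ L'.subgroupOf P = ⊥ := by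
  intro n
  induction n using Nat.strong_induction_on with
  | _ n ih =>
    intro L hLn hn hsup hng
    by_cases hne : L.subgroupOf P = ⊥
    · exact ⟨L, le_rfl, hLn, hsup, hne⟩
    · obtain ⟨L₁, hL₁, hL₁n, hsup₁, hlt⟩ := tate_step P hP hidx L hsup hng hne
      have hng₁ : ∀ M : Subgroup P, M ⊔ L₁.subgroupOf P = ⊤ → M = ⊤ := by
        intro M hM
        apply hng
        rw [eq_top_iff, ← hM]
        refine sup_le_sup_left ?_ M
        intro x hx
        rw [Subgroup.mem_subgroupOf] at hx ⊢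
        exact hL₁ hx
      obtain ⟨L', hL', h1, h2, h3⟩ := ih _ (hn ▸ hlt) L₁ hL₁n rfl hsup₁ hng₁
      exact ⟨L', hL'.trans hL₁, h1, h2, h3⟩

/-- A normal complement of `P` from the descent: `L` contains a normal `p`-complement. -/
theorem hasNormalPComplement_of_nongenerating (P : Subgroup G) (hP : IsPGroup p P)
    (hidx : ¬ p ∣ P.index) (L : Subgroup G) [hL : L.Normal] (hsup : L ⊔ P = ⊤)
    (hng : ∀ M : Subgroup P, M ⊔ L.subgroupOf P = ⊤ → M = ⊤) :
    Cfsg.HasNormalPComplement p G := by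
  obtain ⟨L', -, hn, hsup', hbot⟩ := tate_core P hP hidx _ L hL rfl hsup hng
  have hdisj : Disjoint L' P := by
    rw [disjoint_iff, eq_bot_iff]
    intro x hx
    have hx' : (⟨x, hx.2⟩ : P) ∈ L'.subgroupOf P := by
      rw [Subgroup.mem_subgroupOf]; exact hx.1
    rw [hbot, Subgroup.mem_bot] at hx'
    have := congrArg Subtype.val hx'
    simpa using this
  have hc : L'.IsComplement' P := by
    apply Subgroup.isComplement'_of_disjoint_and_mul_eq_univ hdisj
    rw [← Subgroup.normal_mul, hsup']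
    rfl
  refine Cfsg.Agent.Lib.Transfer.Basic.hasNormalPComplement_iff.mpr ⟨L', hn, ?_, ?_⟩
  · have : Nat.card L' = P.index := hc.index_eq_card.symm
    rw [this, Nat.coprime_comm]
    exact (Nat.Prime.coprime_iff_not_dvd hp.out).mpr hidx
  · have h1 : Nat.card (G ⧸ L') = Nat.card P := by
      rw [← Subgroup.index_eq_card]
      exact hc.symm.index_eq_card
    obtain ⟨k, hk⟩ := IsPGroup.iff_card.mp hP
    exact IsPGroup.of_card (n := k) (by rw [h1, hk])

end Cfsg.Agent.Lib.Transfer.Tate
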