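import Mathlib
import Cfsg.Agent.S1328
import Cfsg.Agent.S0205
import Cfsg.Agent.Lib.Transfer.CoreControl
import Cfsg.Agent.Lib.Coprime.Coset
import Cfsg.Agent.Lib.Components.Layer
import Cfsg.Agent.Lib.Components.Transport

/-!
# Separated pairs of four-groups: the argument in the quotient by the core

`K` is a finite group, `π : K → H` a surjection with kernel of odd order, and `O(H) = 1`.
-/

set_option autoImplicit false
set_option linter.style.haveILetI false
set_option linter.unusedVariables false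
set_option linter.unusedSectionVars false

namespace Cfsg.Agent.Lib.Transfer.CoreSep

open Subgroup Cfsg
open scoped commutatorElement
open Cfsg.Agent.Lib.Transfer.CoreControl

section inH

variable {H : Type*} [Group H] [Finite H]

/-- Unbalanced components, for a group with trivial core. -/
theorem exists_comp (hO : oddCore H = ⊥) (t : H) (ht : orderOf t = 2) (N Y : Subgroup H)
    (hNC : ∀ n ∈ N, n * t = t * n) (hNn : ∀ c : H, c * t = t * c → ∀ n ∈ N, c * n * c⁻¹ ∈ N)
    (hNodd : Odd (Nat.card N)) (hYN : Y ≤ N) (hY1 : Y ≠ ⊥) :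
    ∃ E : Subgroup H, IsComponent E ∧ t ∈ normalizer (E : Set H) ∧ Y ≤ normalizer (E : Set H) ∧
      t ∉ centralizer (E : Set H) ∧ ¬ Y ≤ centralizer (E : Set H) := by
  classical
  have hO' : oddCore ↥(⊤ : Subgroup H) = ⊥ := by
    have h1 := Cfsg.Agent.Lib.Components.Transport.pPrimeCore_map_equiv 2 (Subgroup.topEquiv (G := H))
    have hO2 : pPrimeCore 2 H = ⊥ := hO
    rw [hO2] at h1
    rw [Subgroup.map_eq_bot_iff_of_injective _ (Subgroup.topEquiv (G := H)).injective] at h1
    exact h1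
  let C : Subgroup H := ⊤ ⊓ centralizer ({t} : Set H)
  have hY : Y ≤ (oddCore ↥C).map C.subtype := by
    intro y hy
    have hyC : y ∈ C := by
      refine mem_inf.mpr ⟨mem_top y, ?_⟩
      rw [mem_centralizer_iff]
      intro h hh
      rw [Set.mem_singleton_iff] at hh
      rw [hh]
      exact (hNC y (hYN hy)).symm
    refine ⟨⟨y, hyC⟩, ?_, rfl⟩
    have hN' : (N.subgroupOf C) ≤ oddCore ↥C := by
      refine Cfsg.Agent.Lib.Components.PComponent.le_pPrimeCore' ?_ ?_
      · refine ⟨fun x hx g => ?_⟩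
        rw [mem_subgroupOf] at hx ⊢
        have hg : (g : H) * t = t * g := by
          have := (mem_centralizer_iff.mp (mem_inf.mp g.2).2) t rfl
          exact this.symm
        exact hNn g hg x hx
      · have hdvd : Nat.card (N.subgroupOf C) ∣ Nat.card N := by
          refine Subgroup.card_dvd_of_injective
            (MonoidHom.codRestrict (C.subtype.comp (N.subgroupOf C).subtype) N (fun x => x.2)) ?_
          intro x y hxy
          have := congrArg Subtype.val hxy
          exact Subtype.ext (Subtype.ext this)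
        exact Nat.Coprime.coprime_dvd_left hdvd (Nat.coprime_two_right.mpr hNodd)
    exact hN' (by rw [mem_subgroupOf]; exact hYN hy)
  have hcond : t ∈ normalizer ((⊤ : Subgroup H) : Set H) := by
    rw [mem_normalizer_iff]
    intro h
    simp
  obtain ⟨E, hE, h1, h2, h3, h4⟩ := Cfsg.Agent.S1328.result (⊤ : Subgroup H) hO' t ht hcond Y hY1 hY
  refine ⟨E.map (⊤ : Subgroup H).subtype, ?_,
    (Cfsg.Agent.Lib.Components.Balance.map_conj_eq_iff_mem_normalizer _ _).mp h1, h2, h3, h4⟩
  have := Cfsg.Agent.Lib.Components.Transport.isComponent_map_equiv (Subgroup.topEquiv (G := H)) hE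
  exact this

/-- A commutator of odd order with a 2-element centralising `E`, normalising `E`, centralises `E`. -/
theorem comm_mem_centralizer {E : Subgroup H} {z β : H} {k : ℕ} (hβ : β ^ 2 ^ k = 1)
    (hβE : β ∈ centralizer (E : Set H)) (hg : ⁅z, β⁆ ∈ normalizer (E : Set H))
    (hodd : Odd (orderOf ⁅z, β⁆)) : ⁅z, β⁆ ∈ centralizer (E : Set H) := by
  classical
  set g := ⁅z, β⁆ with hgdef
  have hw : z * β * z⁻¹ = g * β := by
    rw [hgdef, commutatorElement_def]
    group
  have hβe : ∀ e ∈ E, β * e * β⁻¹ = e := by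
    intro e he
    have := (mem_centralizer_iff.mp hβE) e he
    rw [← this]
    group
  have hpow : ∀ (n : ℕ), ∀ e ∈ E, (g * β) ^ n * e * ((g * β) ^ n)⁻¹ = g ^ n * e * (g ^ n)⁻¹ ∧
      g ^ n * e * (g ^ n)⁻¹ ∈ E := by
    intro n
    induction n with
    | zero =>
      intro e he
      simpa using he
    | succ n ih =>
      intro e he
      obtain ⟨h1, h2⟩ := ih e he
      have hge : ∀ f ∈ E, g * f * g⁻¹ ∈ E := fun f hf =>
        (mem_normalizer_iff.mp hg f).mp hf
      have e1 : (g * β) ^ (n + 1) * e * ((g * β) ^ (n + 1))⁻¹ =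
          g * β * ((g * β) ^ n * e * ((g * β) ^ n)⁻¹) * β⁻¹ * g⁻¹ := by
        rw [pow_succ', mul_inv_rev, mul_inv_rev]
        simp only [mul_assoc]
      have e2 : g ^ (n + 1) * e * (g ^ (n + 1))⁻¹ = g * (g ^ n * e * (g ^ n)⁻¹) * g⁻¹ := by
        rw [pow_succ', mul_inv_rev]
        simp only [mul_assoc]
      rw [e1, h1, e2]
      constructor
      · have := hβe _ h2
        calc g * β * (g ^ n * e * (g ^ n)⁻¹) * β⁻¹ * g⁻¹
            = g * (β * (g ^ n * e * (g ^ n)⁻¹) * β⁻¹) * g⁻¹ := by group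
          _ = _ := by rw [this]
      · exact hge _ h2
  have hone : (g * β) ^ 2 ^ k = 1 := by
    rw [← hw]
    have : (z * β * z⁻¹) ^ 2 ^ k = z * β ^ 2 ^ k * z⁻¹ := by
      simp [conj_pow]
    rw [this, hβ]
    group
  have hcop : Nat.Coprime (2 ^ k) (orderOf g) :=
    Nat.Coprime.pow_left k (Nat.coprime_two_left.mpr hodd)
  obtain ⟨m, hm⟩ := exists_pow_eq_self_of_coprime hcop
  rw [mem_centralizer_iff]
  intro e he
  have h1 := (hpow (2 ^ k) e he).1
  rw [hone] at h1
  simp only [one_mul, inv_one, mul_one] at h1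
  -- `g ^ 2 ^ k` centralises `E`
  have hce : ∀ f ∈ E, g ^ 2 ^ k * f = f * g ^ 2 ^ k := by
    intro f hf
    have h2 := (hpow (2 ^ k) f hf).1
    rw [hone] at h2
    simp only [one_mul, inv_one, mul_one] at h2
    calc g ^ 2 ^ k * f = (g ^ 2 ^ k * f * (g ^ 2 ^ k)⁻¹) * g ^ 2 ^ k := by group
      _ = f * g ^ 2 ^ k := by rw [← h2]
  have hce2 : ∀ n : ℕ, (g ^ 2 ^ k) ^ n * e = e * (g ^ 2 ^ k) ^ n := by
    intro n
    induction n with
    | zero => simp
    | succ n ih =>
      rw [pow_succ, mul_assoc, hce e he, ← mul_assoc, ih, mul_assoc]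
  have := hce2 m
  rw [hm] at this
  exact this.symm

end inH

section main

variable {K : Type*} [Group K] [Finite K] {H : Type*} [Group H] [Finite H] (π : K →* H)

/-- The data of a surjection with odd kernel onto a group with trivial core. -/
structure Sec : Prop where
  surj : Function.Surjective π
  ker_odd : Odd (Nat.card π.ker)
  core : oddCore H = ⊥

variable {π}

theorem Sec.not_dvd (h : Sec π) : ¬ 2 ∣ Nat.card π.ker := by
  intro h2
  exact (Nat.not_even_iff_odd.mpr h.ker_odd) (even_iff_two_dvd.mpr h2)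

/-- Lifting fixed points. -/
theorem Sec.lift (h : Sec π) {S : Subgroup K} (hS : IsPGroup 2 S) {x : H}
    (hx : ∀ s ∈ S, x * π s = π s * x) : ∃ c : K, π c = x ∧ ∀ s ∈ S, s * c = c * s := by
  classical
  haveI : Fact (Nat.Prime 2) := ⟨Nat.prime_two⟩
  obtain ⟨t, rfl⟩ := h.surj x
  obtain ⟨n, hn, hfix⟩ := exists_fixed_mul_of_pgroup (q := 2) (A := S) (N := π.ker) hS
    (fun a _ n hn => (inferInstance : π.ker.Normal).conj_mem n hn a) h.not_dvd (t := t) (by
      intro a ha
      rw [MonoidHom.mem_ker, map_mul, map_inv, map_mul, map_mul, map_inv, ← hx a ha]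
      group)
  refine ⟨t * n, ?_, fun s hs => ?_⟩
  · rw [map_mul, MonoidHom.mem_ker.mp hn, mul_one]
  · have := hfix s hs
    calc s * (t * n) = (s * (t * n) * s⁻¹) * s := by group
      _ = t * n * s := by rw [this]

/-- The unbalanced component, upstairs. -/
theorem Sec.exists_comp (h : Sec π) {a : K} (ha2 : a * a = 1) (ha1 : a ≠ 1) (R Q : Subgroup K)
    (hRa : ∀ r ∈ R, r * a = a * r) (hRn : ∀ c : K, c * a = a * c → ∀ r ∈ R, c * r * c⁻¹ ∈ R)
    (hRodd : Odd (Nat.card R)) (hQR : Q ≤ R) (hQ : Q.map π ≠ ⊥) :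
    ∃ E : Subgroup H, IsComponent E ∧ π a ∈ normalizer (E : Set H) ∧
      Q.map π ≤ normalizer (E : Set H) ∧
      π a ∉ centralizer (E : Set H) ∧ ¬ Q.map π ≤ centralizer (E : Set H) := by
  classical
  haveI : Fact (Nat.Prime 2) := ⟨Nat.prime_two⟩
  have hzp : IsPGroup 2 (zpowers a) := by
    rintro ⟨_, k, rfl⟩
    refine ⟨1, ?_⟩
    apply Subtype.ext
    change (a ^ k) ^ 2 ^ 1 = 1
    rw [pow_one, ← zpow_natCast, ← zpow_mul, mul_comm, zpow_mul, zpow_natCast, pow_two, ha2, one_zpow]
  have hord : orderOf (π a) = 2 := by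
    refine orderOf_eq_prime ?_ ?_
    · rw [pow_two, ← map_mul, ha2, map_one]
    · intro h1
      have h2 : a ∈ π.ker := h1
      have h3 : orderOf a ∣ Nat.card π.ker := Subgroup.orderOf_dvd_natCard _ h2
      have h4 : orderOf a = 2 := orderOf_eq_prime (by rw [pow_two, ha2]) ha1
      rw [h4] at h3
      exact h.not_dvd h3
  refine CoreSep.exists_comp h.core (π a) hord (R.map π) (Q.map π) ?_ ?_ ?_
    (Subgroup.map_mono hQR) hQ
  · rintro _ ⟨r, hr, rfl⟩
    rw [← map_mul, hRa r hr, map_mul]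
  · rintro x hx _ ⟨r, hr, rfl⟩
    obtain ⟨c, rfl, hc⟩ := h.lift hzp (S := zpowers a) (x := x) (by
      rintro _ ⟨k, rfl⟩
      have e : ∀ k : ℤ, x * π (a ^ k) = π (a ^ k) * x := by
        intro k
        rw [map_zpow]
        exact ((Commute.zpow_right (show Commute x (π a) from hx) k)).eq
      exact e k)
    refine ⟨c * r * c⁻¹, hRn c ?_ r hr, ?_⟩
    · exact (hc a (mem_zpowers a)).symm
    · simp [map_mul]
  · have hdvd : Nat.card (R.map π) ∣ Nat.card R := Subgroup.card_map_dvd R π
    rcases Nat.even_or_odd (Nat.card (R.map π)) with he | ho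
    · exact absurd (he.two_dvd.trans hdvd)
        (fun h2 => (Nat.not_even_iff_odd.mpr hRodd) (even_iff_two_dvd.mpr h2))
    · exact ho

/-- Fixed points of a `2`-subgroup in a coset: elements of `T` normalise `E`. -/
theorem Sec.normalizes (h : Sec π) {T S : Subgroup K} {E : Subgroup H} (hTodd : Odd (Nat.card T))
    (hS : IsPGroup 2 S) (hST : ∀ s ∈ S, ∀ t ∈ T, s * t * s⁻¹ ∈ T)
    (hSE : ∀ s ∈ S, π s ∈ normalizer (E : Set H))
    (hconj : ∀ t ∈ T, ∀ s ∈ S, π (t⁻¹ * s * t) ∈ normalizer (E : Set H))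
    (hfix : ∀ x ∈ T, (∀ s ∈ S, s * x = x * s) → π x ∈ normalizer (E : Set H)) :
    ∀ t ∈ T, π t ∈ normalizer (E : Set H) := by
  classical
  haveI : Fact (Nat.Prime 2) := ⟨Nat.prime_two⟩
  intro t ht
  let N : Subgroup K := T ⊓ (normalizer (E : Set H)).comap π
  have hNodd : ¬ 2 ∣ Nat.card N := by
    intro h2
    have h3 := h2.trans (Subgroup.card_dvd_of_le (inf_le_left : N ≤ T))
    exact (Nat.not_even_iff_odd.mpr hTodd) (even_iff_two_dvd.mpr h3)
  obtain ⟨n, hn, hf⟩ := exists_fixed_mul_of_pgroup (q := 2) (A := S) (N := N) hS (by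
      intro a ha n hn
      refine mem_inf.mpr ⟨hST a ha n (mem_inf.mp hn).1, ?_⟩
      have h1 : π n ∈ normalizer (E : Set H) := (mem_inf.mp hn).2
      change π (a * n * a⁻¹) ∈ normalizer (E : Set H)
      rw [map_mul, map_mul, map_inv]
      exact mul_mem (mul_mem (hSE a ha) h1) (inv_mem (hSE a ha))) hNodd (t := t) (by
      intro a ha
      refine mem_inf.mpr ⟨mul_mem (inv_mem ht) (hST a ha t ht), ?_⟩
      have e : t⁻¹ * (a * t * a⁻¹) = (t⁻¹ * a * t) * a⁻¹ := by group
      change π (t⁻¹ * (a * t * a⁻¹)) ∈ normalizer (E : Set H)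
      rw [e, map_mul, map_inv]
      exact mul_mem (hconj t ht a ha) (inv_mem (hSE a ha)))
  have h1 : π (t * n) ∈ normalizer (E : Set H) := by
    refine hfix (t * n) (mul_mem ht (mem_inf.mp hn).1) fun s hs => ?_
    have := hf s hs
    calc s * (t * n) = (s * (t * n) * s⁻¹) * s := by group
      _ = t * n * s := by rw [this]
  have h2 : π n ∈ normalizer (E : Set H) := (mem_inf.mp hn).2
  have e : t = (t * n) * n⁻¹ := by group
  rw [e, map_mul, map_inv]
  exact mul_mem h1 (inv_mem h2)

end main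

section separated

variable {K : Type*} [Group K] [Finite K] {H : Type*} [Group H] [Finite H] {π : K →* H}

theorem two_pow_of_isPGroup {P : Subgroup K} (hP : IsPGroup 2 P) {x : K} (hx : x ∈ P) :
    ∃ k : ℕ, x ^ 2 ^ k = 1 := by
  obtain ⟨k, hk⟩ := hP ⟨x, hx⟩
  exact ⟨k, by simpa using congrArg Subtype.val hk⟩

theorem odd_orderOf_map {R : Subgroup K} (hR : Odd (Nat.card R)) {x : K} (hx : x ∈ R) :
    Odd (orderOf (π x)) := by
  rcases Nat.even_or_odd (orderOf (π x)) with he | ho
  · have h1 : orderOf (π x) ∣ orderOf x := orderOf_map_dvd π x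
    have h2 : orderOf x ∣ Nat.card R := Subgroup.orderOf_dvd_natCard R hx
    exact absurd (he.two_dvd.trans (h1.trans h2))
      (fun h2 => (Nat.not_even_iff_odd.mpr hR) (even_iff_two_dvd.mpr h2))
  · exact ho

theorem odd_card_of_le {R Q : Subgroup K} (hR : Odd (Nat.card R)) (h : Q ≤ R) :
    Odd (Nat.card Q) := by
  rcases Nat.even_or_odd (Nat.card Q) with he | ho
  · exact absurd (he.two_dvd.trans (Subgroup.card_dvd_of_le h))
      (fun h2 => (Nat.not_even_iff_odd.mpr hR) (even_iff_two_dvd.mpr h2))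
  · exact ho

theorem normalizer_of_centralizer {E : Subgroup H} {x : H} (hx : x ∈ centralizer (E : Set H)) :
    x ∈ normalizer (E : Set H) := by
  rw [mem_normalizer_iff]
  intro h
  have hc : ∀ e ∈ E, x * e * x⁻¹ = e := by
    intro e he
    have := (mem_centralizer_iff.mp hx) e he
    rw [← this]
    group
  constructor
  · intro hh
    rwa [hc h hh]
  · intro hh
    have h1 := hc _ hh
    have e1 : x⁻¹ * (x * h * x⁻¹) * x = h := by group
    have h2 : x * h * x⁻¹ = h := by
      have h3 : (x * h * x⁻¹) * x = x * (x * h * x⁻¹) := (mem_centralizer_iff.mp hx) _ hh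
      have h4 : h = x * h * x⁻¹ := by
        have h5 : x⁻¹ * (x * h * x⁻¹) * x = x * h * x⁻¹ := by
          calc x⁻¹ * (x * h * x⁻¹) * x = x⁻¹ * ((x * h * x⁻¹) * x) := by group
            _ = x⁻¹ * (x * (x * h * x⁻¹)) := by rw [h3]
            _ = x * h * x⁻¹ := by group
        rw [e1] at h5
        exact h5
      exact h4.symm
    rwa [h2] at hh

theorem conj_centralizer {E : Subgroup H} {t x : H} (ht : t ∈ normalizer (E : Set H))
    (hx : x ∈ centralizer (E : Set H)) : t * x * t⁻¹ ∈ centralizer (E : Set H) := by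
  rw [mem_centralizer_iff]
  intro e he
  have h1 : t⁻¹ * e * t ∈ E := by
    rw [mem_normalizer_iff] at ht
    refine (ht _).mpr ?_
    have e1 : t * (t⁻¹ * e * t) * t⁻¹ = e := by group
    rwa [e1]
  have h2 := (mem_centralizer_iff.mp hx) _ h1
  calc e * (t * x * t⁻¹) = t * ((t⁻¹ * e * t) * x) * t⁻¹ := by group
    _ = t * (x * (t⁻¹ * e * t)) * t⁻¹ := by rw [h2]
    _ = t * x * t⁻¹ * e := by group

/-- The commutator `[R, P]` is killed by `π`, for a central element `d ∈ P`. -/
theorem Sec.commutator_le_ker (h : Sec π) {P P' R : Subgroup K} {a p p' d : K}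
    (hP : IsPGroup 2 P) (hP' : IsPGroup 2 P') (ha2 : a * a = 1) (ha1 : a ≠ 1)
    (hp : p ∈ P) (hp' : p' ∈ P') (happ : a = p * p')
    (hd : d ∈ P) (hdc : ∀ k, d * k = k * d)
    (hPfour : p ≠ 1 → p ≠ d → ∀ α ∈ P, α = 1 ∨ α = d ∨ α = p ∨ α = p * d)
    (hS : ∀ E : Subgroup H, IsComponent E → (∀ α ∈ P, π α ∈ centralizer (E : Set H)) ∨
      (∀ α ∈ P', π α ∈ centralizer (E : Set H)))
    (hRa : ∀ r ∈ R, r * a = a * r) (hRn : ∀ c : K, c * a = a * c → ∀ r ∈ R, c * r * c⁻¹ ∈ R)
    (hRodd : Odd (Nat.card R)) (hRP : P ≤ normalizer (R : Set K)) :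
    ⁅R, P⁆ ≤ π.ker := by
  classical
  have hQR : ⁅R, P⁆ ≤ R := Cfsg.Agent.Lib.Coprime.Coset.commutator_le_left_of_le_normalizer hRP
  rw [← Subgroup.map_eq_bot_iff]
  by_contra hne
  obtain ⟨E, hE, h1, h2, h3, h4⟩ := h.exists_comp ha2 ha1 R ⁅R, P⁆ hRa hRn hRodd hQR hne
  apply h4
  have hdH : π d ∈ center H := by
    rw [mem_center_iff]
    intro g
    obtain ⟨g', rfl⟩ := h.surj g
    rw [← map_mul, ← map_mul, hdc g']
  rw [Subgroup.commutator_def, MonoidHom.map_closure, Subgroup.closure_le]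
  rintro _ ⟨_, ⟨z, hz, α, hα, rfl⟩, rfl⟩
  have hg : π ⁅z, α⁆ ∈ normalizer (E : Set H) :=
    h2 (mem_map_of_mem π (commutator_mem_commutator hz hα))
  have hgodd : Odd (orderOf (π ⁅z, α⁆)) :=
    odd_orderOf_map hRodd (hQR (commutator_mem_commutator hz hα))
  change π ⁅z, α⁆ ∈ centralizer (E : Set H)
  rw [map_commutatorElement] at hg hgodd ⊢
  rcases hS E hE with hPc | hPc'
  · obtain ⟨k, hk⟩ := two_pow_of_isPGroup hP hα
    exact comm_mem_centralizer (by rw [← map_pow, hk, map_one]) (hPc α hα) hg hgodd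
  · have hcenter : ∀ x : H, x ∈ center H → x ∈ centralizer (E : Set H) := by
      intro x hx
      rw [mem_centralizer_iff]
      intro e _
      exact ((mem_center_iff.mp hx) e)
    have hp1 : p ≠ 1 := by
      intro hp1
      apply h3
      rw [happ, hp1, one_mul]
      exact hPc' p' hp'
    have hpd : p ≠ d := by
      intro hpd
      apply h3
      rw [happ, hpd, map_mul]
      exact mul_mem (hcenter _ hdH) (hPc' p' hp')
    have hzc : π z * π a = π a * π z := by
      rw [← map_mul, ← map_mul, hRa z hz]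
    have hzd : ⁅π z, π d⁆ = 1 := by
      rw [commutatorElement_eq_one_iff_mul_comm]
      exact ((mem_center_iff.mp hdH) (π z))
    have hcase : ⁅π z, π p⁆ ∈ normalizer (E : Set H) → Odd (orderOf ⁅π z, π p⁆) →
        ⁅π z, π p⁆ ∈ centralizer (E : Set H) := by
      intro hg1 _
      have hpe : π p = π a * (π p')⁻¹ := by
        rw [happ, map_mul, mul_inv_cancel_right]
      have e : ⁅π z, π p⁆ = π a * ⁅π z, (π p')⁻¹⁆ * (π a)⁻¹ := by
        rw [hpe, commutatorElement_def, commutatorElement_def]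
        calc π z * (π a * (π p')⁻¹) * (π z)⁻¹ * (π a * (π p')⁻¹)⁻¹
            = (π z * π a) * (π p')⁻¹ * (π z)⁻¹ * π p' * (π a)⁻¹ := by group
          _ = (π a * π z) * (π p')⁻¹ * (π z)⁻¹ * π p' * (π a)⁻¹ := by rw [hzc]
          _ = π a * (π z * (π p')⁻¹ * (π z)⁻¹ * ((π p')⁻¹)⁻¹) * (π a)⁻¹ := by group
      have e' : ⁅π z, (π p')⁻¹⁆ = (π a)⁻¹ * ⁅π z, π p⁆ * π a := by
        rw [e]
        group
      have hg' : ⁅π z, (π p')⁻¹⁆ ∈ normalizer (E : Set H) := by
        rw [e']
        exact mul_mem (mul_mem (inv_mem h1) hg1) h1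
      have hodd' : Odd (orderOf ⁅π z, (π p')⁻¹⁆) := by
        have hr : ⁅z, p⁆ ∈ R := hQR (commutator_mem_commutator hz hp)
        have hr' : a⁻¹ * ⁅z, p⁆ * a⁻¹⁻¹ ∈ R :=
          hRn a⁻¹ (by rw [inv_mul_eq_iff_eq_mul, ← mul_assoc, ← mul_inv_eq_iff_eq_mul]; simp) _ hr
        have h5 := odd_orderOf_map (π := π) hRodd hr'
        have h6 : π (a⁻¹ * ⁅z, p⁆ * a⁻¹⁻¹) = ⁅π z, (π p')⁻¹⁆ := by
          rw [e', map_mul, map_mul, map_inv, inv_inv, map_commutatorElement]
        rwa [h6] at h5
      obtain ⟨k, hk⟩ := two_pow_of_isPGroup hP' (inv_mem hp')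
      have hc := comm_mem_centralizer (z := π z) (β := (π p')⁻¹) (k := k)
        (by rw [← map_inv, ← map_pow, hk, map_one]) (inv_mem (hPc' p' hp')) hg' hodd'
      rw [e]
      exact conj_centralizer h1 hc
    rcases hPfour hp1 hpd α hα with rfl | rfl | rfl | rfl
    · rw [map_one, commutatorElement_one_right]
      exact one_mem _
    · rw [hzd]
      exact one_mem _
    · exact hcase hg hgodd
    · have e : ⁅π z, π (p * d)⁆ = ⁅π z, π p⁆ := by
        rw [map_mul, commutatorElement_def, commutatorElement_def, mul_inv_rev]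
        have hdc' : ∀ x : H, π d * x = x * π d := fun x => ((mem_center_iff.mp hdH) x).symm
        calc π z * (π p * π d) * (π z)⁻¹ * ((π d)⁻¹ * (π p)⁻¹)
            = π z * π p * (π d * (π z)⁻¹) * (π d)⁻¹ * (π p)⁻¹ := by group
          _ = π z * π p * ((π z)⁻¹ * π d) * (π d)⁻¹ * (π p)⁻¹ := by rw [hdc']
          _ = π z * π p * (π z)⁻¹ * (π p)⁻¹ := by group
      rw [e] at hg hgodd ⊢
      exact hcase hg hgodd

/-- Elements of an odd subgroup normalised by the centraliser of a `2`-subgroup centralise the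
components centralised by that `2`-subgroup. -/
theorem Sec.cent_of_normal (h : Sec π) {S D : Subgroup K} {E : Subgroup H} (hS : IsPGroup 2 S)
    (hE : IsComponent E) (hES : ∀ s ∈ S, π s ∈ centralizer (E : Set H))
    (hD : Odd (Nat.card D)) (hDn : ∀ c : K, (∀ s ∈ S, s * c = c * s) → ∀ y ∈ D, c * y * c⁻¹ ∈ D) :
    ∀ y ∈ D, π y ∈ centralizer (E : Set H) := by
  classical
  have hodd : Odd (Nat.card (D.map π)) := by
    rcases Nat.even_or_odd (Nat.card (D.map π)) with he | ho
    · exact absurd (he.two_dvd.trans (Subgroup.card_map_dvd D π))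
        (fun h2 => (Nat.not_even_iff_odd.mpr hD) (even_iff_two_dvd.mpr h2))
    · exact ho
  have hsolv : Group.IsSolvable (D.map π) := Cfsg.Agent.S0205.result hodd
  have hinv : E ≤ normalizer ((D.map π : Subgroup H) : Set H) := by
    intro e he
    have hl : ∀ s ∈ S, e * π s = π s * e := fun s hs =>
      ((mem_centralizer_iff.mp (hES s hs)) e he)
    obtain ⟨c, rfl, hc⟩ := h.lift hS hl
    rw [mem_normalizer_iff]
    have hc' : ∀ s ∈ S, s * c⁻¹ = c⁻¹ * s := by
      intro s hs
      have := hc s hs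
      calc s * c⁻¹ = c⁻¹ * (c * s) * c⁻¹ := by group
        _ = c⁻¹ * (s * c) * c⁻¹ := by rw [this]
        _ = c⁻¹ * s := by group
    intro x
    constructor
    · rintro ⟨y, hy, rfl⟩
      exact ⟨c * y * c⁻¹, hDn c hc y hy, by simp [map_mul]⟩
    · rintro ⟨y, hy, hyx⟩
      refine ⟨c⁻¹ * y * c⁻¹⁻¹, hDn c⁻¹ hc' y hy, ?_⟩
      rw [map_mul, map_mul, map_inv, inv_inv, hyx]
      group
  have hc := Cfsg.Agent.Lib.Components.Layer.commutator_eq_bot_of_isSolvable hE hsolv hinv
  intro y hy
  rw [mem_centralizer_iff]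
  intro e he
  have h1 : ⁅e, π y⁆ = 1 := by
    have := commutator_mem_commutator he (mem_map_of_mem π hy)
    rwa [hc, mem_bot] at this
  exact commutatorElement_eq_one_iff_mul_comm.mp h1

theorem map_conj_centralizer {E : Subgroup H} {u x : H}
    (hx : x ∈ centralizer ((E.map (MulAut.conj u).toMonoidHom : Subgroup H) : Set H)) :
    u⁻¹ * x * u ∈ centralizer (E : Set H) := by
  rw [mem_centralizer_iff]
  intro e he
  have h1 := (mem_centralizer_iff.mp hx) (u * e * u⁻¹) ⟨e, he, rfl⟩
  calc e * (u⁻¹ * x * u) = u⁻¹ * ((u * e * u⁻¹) * x) * u := by group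
    _ = u⁻¹ * (x * (u * e * u⁻¹)) * u := by rw [h1]
    _ = u⁻¹ * x * u * e := by group

/-- The main step: `T` centralises every component centralised by `P` and moved by `a`. -/
theorem Sec.centralizes (h : Sec π) {P P' T : Subgroup K} {a p p' : K} {E : Subgroup H}
    (hP : IsPGroup 2 P) (hp : p ∈ P) (hp' : p' ∈ P') (happ : a = p * p') (hp2 : p * p = 1)
    (hS : ∀ E : Subgroup H, IsComponent E → (∀ α ∈ P, π α ∈ centralizer (E : Set H)) ∨
      (∀ α ∈ P', π α ∈ centralizer (E : Set H)))
    (hTa : ∀ r ∈ T, r * a = a * r) (hTodd : Odd (Nat.card T)) (hTP : P ≤ normalizer (T : Set K))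
    (hE : IsComponent E) (hEP : ∀ α ∈ P, π α ∈ centralizer (E : Set H))
    (h1 : π a ∈ normalizer (E : Set H)) (h2 : π a ∉ centralizer (E : Set H))
    (hfixP : ∀ x ∈ T, (∀ α ∈ P, α * x = x * α) → π x ∈ centralizer (E : Set H))
    (hfixp : p ≠ 1 → ∀ x ∈ T, p * x = x * p → π x ∈ centralizer (E : Set H)) :
    ∀ x ∈ T, π x ∈ centralizer (E : Set H) := by
  classical
  haveI : Fact (Nat.Prime 2) := ⟨Nat.prime_two⟩
  have hEt : ∀ t : K, IsComponent (E.map (MulAut.conj (π t)).toMonoidHom) := fun t =>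
    Cfsg.Agent.Lib.Components.Layer.isComponent_conj (π t) hE
  have hPT : ∀ s ∈ P, ∀ t ∈ T, s * t * s⁻¹ ∈ T := fun s hs t ht =>
    (mem_normalizer_iff.mp (hTP hs) t).mp ht
  have hta : ∀ t ∈ T, π (t⁻¹ * a * t) = π a := by
    intro t ht
    have h3 := hTa t ht
    have e : t⁻¹ * a * t = a := by
      rw [mul_assoc, ← h3]
      group
    rw [e]
  have hN : ∀ t ∈ T, π t ∈ normalizer (E : Set H) := by
    by_cases hp1 : p = 1
    · have hap : a = p' := by rw [happ, hp1, one_mul]
      refine h.normalizes hTodd hP hPT (fun s hs => normalizer_of_centralizer (hEP s hs)) ?_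
        (fun x hx hc => normalizer_of_centralizer (hfixP x hx hc))
      intro t ht s hs
      rcases hS _ (hEt t) with hc | hc
      · have := map_conj_centralizer (hc s hs)
        rw [map_mul, map_mul, map_inv]
        exact normalizer_of_centralizer this
      · exfalso
        have h3 := map_conj_centralizer (hc p' hp')
        rw [← hap] at h3
        have h4 : (π t)⁻¹ * π a * π t = π a := by
          have := hta t ht
          rwa [map_mul, map_mul, map_inv] at this
        rw [h4] at h3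
        exact h2 h3
    · have hzp : IsPGroup 2 (zpowers p) := by
        rintro ⟨_, k, rfl⟩
        refine ⟨1, ?_⟩
        apply Subtype.ext
        change (p ^ k) ^ 2 ^ 1 = 1
        rw [pow_one, ← zpow_natCast, ← zpow_mul, mul_comm, zpow_mul, zpow_natCast, pow_two, hp2,
          one_zpow]
      have hzP : zpowers p ≤ P := zpowers_le.mpr hp
      refine h.normalizes hTodd hzp (fun s hs => hPT s (hzP hs))
        (fun s hs => normalizer_of_centralizer (hEP s (hzP hs))) ?_ ?_
      · rintro t ht _ ⟨k, rfl⟩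
        have hbase : π (t⁻¹ * p * t) ∈ normalizer (E : Set H) := by
          rcases hS _ (hEt t) with hc | hc
          · have := map_conj_centralizer (hc p hp)
            rw [map_mul, map_mul, map_inv]
            exact normalizer_of_centralizer this
          · have h3 := map_conj_centralizer (hc p' hp')
            have e : p = a * p'⁻¹ := by rw [happ]; group
            have e2 : π (t⁻¹ * p * t) = π (t⁻¹ * a * t) * ((π t)⁻¹ * π p' * π t)⁻¹ := by
              conv_lhs => rw [e]
              simp only [map_mul, map_inv]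
              group
            rw [e2, hta t ht]
            exact mul_mem h1 (inv_mem (normalizer_of_centralizer h3))
        have e : π (t⁻¹ * (p ^ k) * t) = (π (t⁻¹ * p * t)) ^ k := by
          have : t⁻¹ * (p ^ k) * t = (t⁻¹ * p * t) ^ k := by
            have := conj_zpow (a := t⁻¹) (b := p) (i := k)
            simpa using this.symm
          rw [this, map_zpow]
        change π (t⁻¹ * p ^ k * t) ∈ _
        rw [e]
        exact zpow_mem hbase k
      · intro x hx hc
        exact normalizer_of_centralizer (hfixp hp1 x hx (hc p (mem_zpowers p)))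
  intro x hx
  have hcomm : ∀ y ∈ (⁅T, P⁆ : Subgroup K), π y ∈ centralizer (E : Set H) := by
    have : ⁅T, P⁆ ≤ (centralizer (E : Set H)).comap π := by
      refine commutator_le.mpr fun r hr α hα => ?_
      change π ⁅r, α⁆ ∈ centralizer (E : Set H)
      rw [map_commutatorElement, commutatorElement_def]
      exact mul_mem (conj_centralizer (hN r hr) (hEP α hα)) (inv_mem (hEP α hα))
    exact fun y hy => this hy
  have hTP' : ⁅T, P⁆ ≤ T := Cfsg.Agent.Lib.Coprime.Coset.commutator_le_left_of_le_normalizer hTP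
  have hN2 : ¬ 2 ∣ Nat.card (⁅T, P⁆ : Subgroup K) := by
    intro h2'
    have h3 := h2'.trans (Subgroup.card_dvd_of_le hTP')
    exact (Nat.not_even_iff_odd.mpr hTodd) (even_iff_two_dvd.mpr h3)
  obtain ⟨n, hn, hf⟩ := exists_fixed_mul_of_pgroup (q := 2) (A := P) (N := ⁅T, P⁆) hP
    (fun α hα n hn => (mem_normalizer_iff.mp
      (Cfsg.Agent.Lib.Coprime.Coset.commutator_le_normalizer_right hTP hα) n).mp hn) hN2 (t := x)
    (by
      intro α hα
      have e : x⁻¹ * (α * x * α⁻¹) = ⁅x⁻¹, α⁆ := by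
        rw [commutatorElement_def]
        group
      rw [e]
      exact commutator_mem_commutator (inv_mem hx) hα)
  have h3 : π (x * n) ∈ centralizer (E : Set H) := by
    refine hfixP (x * n) (mul_mem hx (hTP' hn)) fun α hα => ?_
    have := hf α hα
    calc α * (x * n) = (α * (x * n) * α⁻¹) * α := by group
      _ = x * n * α := by rw [this]
  have e : x = (x * n) * n⁻¹ := by group
  rw [e, map_mul, map_inv]
  exact mul_mem h3 (inv_mem (hcomm n hn))

end separated

end Cfsg.Agent.Lib.Transfer.CoreSep
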