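import Mathlib
import Cfsg.Agent.Lib.Transfer.CoreSep
import Cfsg.Agent.S1329
import Cfsg.Agent.Lib.Components.PComponent
import Cfsg.Agent.Lib.Coprime.Three

/-!
# Separated pairs of four-groups: the balance condition
-/

set_option autoImplicit false
set_option linter.style.haveILetI false
set_option linter.unusedVariables false
set_option linter.unusedSectionVars false

namespace Cfsg.Agent.Lib.Transfer.CoreSep

open Subgroup Cfsg
open scoped commutatorElement
open Cfsg.Agent.Lib.Components.PComponent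
open Cfsg.Agent.Lib.Transfer.CoreControl

variable {G : Type*} [Group G] [Finite G]

/-- The centraliser of an element. -/
abbrev Cg (x : G) : Subgroup G := centralizer ({x} : Set G)

/-- The core of the centraliser of an element. -/
abbrev Og (x : G) : Subgroup G := centralizerPPrimeCore 2 x

/-- The core of the centraliser of a subgroup. -/
abbrev Oc (P : Subgroup G) : Subgroup G :=
  (oddCore ↥(centralizer ((P : Subgroup G) : Set G))).map (centralizer ((P : Subgroup G) : Set G)).subtype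

/-- The functor attached to `P`. -/
abbrev Th (P : Subgroup G) (a : G) : Subgroup G := ⁅Og a, P⁆ ⊔ (Og a ⊓ Oc P)

theorem mem_Cg {x y : G} : y ∈ Cg x ↔ y * x = x * y := by
  rw [mem_centralizer_iff]
  constructor
  · intro h
    exact (h x rfl).symm
  · intro h z hz
    rw [Set.mem_singleton_iff] at hz
    rw [hz]
    exact h.symm

theorem core_odd (H : Subgroup G) : Odd (Nat.card ((pPrimeCore 2 H).map H.subtype)) := by
  rw [Subgroup.card_map_of_injective H.subtype_injective]
  exact Nat.coprime_two_right.mp (Cfsg.Agent.Lib.Components.Transport.coprime_card_pPrimeCore 2)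

theorem Og_le (x : G) : Og x ≤ Cg x := map_subtype_le _

theorem Og_odd (x : G) : Odd (Nat.card (Og x)) := core_odd _

theorem Oc_le (P : Subgroup G) : Oc P ≤ centralizer (P : Set G) := map_subtype_le _

theorem Oc_odd (P : Subgroup G) : Odd (Nat.card (Oc P)) := core_odd _

theorem Og_conj {x c y : G} (hc : c ∈ Cg x) (hy : y ∈ Og x) : c * y * c⁻¹ ∈ Og x :=
  conj_mem_map_pPrimeCore 2 (Cg x) c (le_normalizer hc) hy

theorem Oc_conj {P : Subgroup G} {c y : G} (hc : c ∈ centralizer (P : Set G)) (hy : y ∈ Oc P) :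
    c * y * c⁻¹ ∈ Oc P :=
  conj_mem_map_pPrimeCore 2 (centralizer (P : Set G)) c (le_normalizer hc) hy

theorem mem_normalizer_of_conj' {L : Subgroup G} {g : G} (h₁ : ∀ l ∈ L, g⁻¹ * l * g ∈ L)
    (h₂ : ∀ l ∈ L, g * l * g⁻¹ ∈ L) : g ∈ normalizer (L : Set G) := by
  rw [mem_normalizer_iff'']
  intro h
  refine ⟨h₁ h, fun hh => ?_⟩
  have := h₂ _ hh
  have e : g * (g⁻¹ * h * g) * g⁻¹ = h := by group
  rwa [e] at this

theorem Og_norm {x c : G} (hc : c ∈ Cg x) : c ∈ normalizer (Og x : Set G) :=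
  mem_normalizer_of_conj'
    (fun l hl => by simpa using Og_conj (inv_mem hc) hl) (fun l hl => Og_conj hc hl)

theorem Oc_norm {P : Subgroup G} {c : G} (hc : c ∈ centralizer (P : Set G)) :
    c ∈ normalizer (Oc P : Set G) :=
  mem_normalizer_of_conj'
    (fun l hl => by simpa using Oc_conj (inv_mem hc) hl) (fun l hl => Oc_conj hc hl)

theorem odd_subgroupOf {T : Subgroup G} (hT : Odd (Nat.card T)) (K : Subgroup G) :
    Odd (Nat.card (T.subgroupOf K)) := by
  have hdvd : Nat.card (T.subgroupOf K) ∣ Nat.card T := by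
    refine Subgroup.card_dvd_of_injective
      (MonoidHom.codRestrict (K.subtype.comp (T.subgroupOf K).subtype) T (fun x => x.2)) ?_
    intro x y hxy
    have := congrArg Subtype.val hxy
    exact Subtype.ext (Subtype.ext this)
  rcases Nat.even_or_odd (Nat.card (T.subgroupOf K)) with he | ho
  · exact absurd (he.two_dvd.trans hdvd)
      (fun h2 => (Nat.not_even_iff_odd.mpr hT) (even_iff_two_dvd.mpr h2))
  · exact ho

theorem isP_subgroupOf {P : Subgroup G} (hsq : ∀ x ∈ P, x ^ 2 = 1) (K : Subgroup G) :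
    IsPGroup 2 (P.subgroupOf K) := by
  intro x
  refine ⟨1, ?_⟩
  apply Subtype.ext
  apply Subtype.ext
  have := hsq _ (mem_subgroupOf.mp x.2)
  simpa using this

theorem isP_of_sq {P : Subgroup G} (hsq : ∀ x ∈ P, x ^ 2 = 1) : IsPGroup 2 P := by
  intro x
  refine ⟨1, ?_⟩
  apply Subtype.ext
  have := hsq _ x.2
  simpa using this

theorem norm_subgroupOf {U K : Subgroup G} {x : K} (hx : (x : G) ∈ normalizer (U : Set G)) :
    x ∈ normalizer ((U.subgroupOf K : Subgroup K) : Set K) := by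
  rw [mem_normalizer_iff]
  intro y
  rw [mem_subgroupOf, mem_subgroupOf]
  exact (mem_normalizer_iff.mp hx y)

/-- A pair of commuting four-groups with the separation property, in one order. -/
structure Sep (P P' : Subgroup G) : Prop where
  ea : IsElementaryAbelian 2 P
  ea' : IsElementaryAbelian 2 P'
  c4 : Nat.card P = 4
  comm : ∀ x ∈ P, ∀ y ∈ P', x * y = y * x
  sep : ∀ a ∈ P ⊔ P', a ≠ 1 → ∀ E : Subgroup ↥(Cg a), IsPComponent 2 E →
    ⁅E.map (Cg a).subtype, P⁆ ≤ Og a ∨ ⁅E.map (Cg a).subtype, P'⁆ ≤ Og a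

variable {P P' : Subgroup G}

theorem Sep.commP (h : Sep P P') {x y : G} (hx : x ∈ P) (hy : y ∈ P) : x * y = y * x :=
  congrArg Subtype.val (h.ea.1.is_comm.comm ⟨x, hx⟩ ⟨y, hy⟩)

theorem Sep.commP' (h : Sep P P') {x y : G} (hx : x ∈ P') (hy : y ∈ P') : x * y = y * x :=
  congrArg Subtype.val (h.ea'.1.is_comm.comm ⟨x, hx⟩ ⟨y, hy⟩)

theorem Sep.decomp (h : Sep P P') {a : G} (ha : a ∈ P ⊔ P') : ∃ p ∈ P, ∃ p' ∈ P', a = p * p' := by
  have hN : P' ≤ normalizer (P : Set G) := by
    intro y hy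
    refine normalizer_of_centralizer ?_
    rw [mem_centralizer_iff]
    intro x hx
    exact h.comm x hx y hy
  obtain ⟨n, hn, b, hb, rfl⟩ := (Cfsg.Agent.Lib.Coprime.Coset.mem_sup_iff_of_le_normalizer hN a).mp ha
  exact ⟨n, hn, b, hb, rfl⟩

theorem Sep.comm_sup (h : Sep P P') {a x : G} (ha : a ∈ P ⊔ P') (hx : x ∈ P ⊔ P') :
    a * x = x * a := by
  obtain ⟨p, hp, p', hp', rfl⟩ := h.decomp ha
  obtain ⟨q, hq, q', hq', rfl⟩ := h.decomp hx
  calc p * p' * (q * q') = p * (p' * q) * q' := by group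
    _ = p * (q * p') * q' := by rw [h.comm q hq p' hp']
    _ = (p * q) * (p' * q') := by group
    _ = (q * p) * (q' * p') := by rw [h.commP hp hq, h.commP' hp' hq']
    _ = q * (p * q') * p' := by group
    _ = q * (q' * p) * p' := by rw [h.comm p hp q' hq']
    _ = q * q' * (p * p') := by group

theorem Sep.sq_P (h : Sep P P') {x : G} (hx : x ∈ P) : x ^ 2 = 1 := h.ea.2 x hx

theorem Sep.sq_P' (h : Sep P P') {x : G} (hx : x ∈ P') : x ^ 2 = 1 := h.ea'.2 x hx

theorem Sep.sq (h : Sep P P') {a : G} (ha : a ∈ P ⊔ P') : a * a = 1 := by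
  obtain ⟨p, hp, p', hp', rfl⟩ := h.decomp ha
  have h1 : p * p = 1 := by rw [← pow_two]; exact h.sq_P hp
  have h2 : p' * p' = 1 := by rw [← pow_two]; exact h.sq_P' hp'
  calc p * p' * (p * p') = p * (p' * p) * p' := by group
    _ = p * (p * p') * p' := by rw [h.comm p hp p' hp']
    _ = (p * p) * (p' * p') := by group
    _ = 1 := by rw [h1, h2, one_mul]

theorem Sep.le_Cg (h : Sep P P') {a x : G} (ha : a ∈ P ⊔ P') (hx : x ∈ P ⊔ P') : x ∈ Cg a :=
  mem_Cg.mpr (h.comm_sup hx ha)

theorem Sep.symm_mem {a : G} (ha : a ∈ P ⊔ P') : a ∈ P' ⊔ P := by rwa [sup_comm]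

theorem Sep.four (h : Sep P P') {p d : G} (hp : p ∈ P) (hd : d ∈ P) (hp1 : p ≠ 1) (hpd : p ≠ d)
    (hd1 : d ≠ 1) : ∀ α ∈ P, α = 1 ∨ α = d ∨ α = p ∨ α = p * d := by
  classical
  have hd2 : d * d = 1 := by rw [← pow_two]; exact h.sq_P hd
  have hp2 : p * p = 1 := by rw [← pow_two]; exact h.sq_P hp
  let s : Finset G := {1, d, p, p * d}
  have hcard : s.card = 4 := by
    have h1 : (1 : G) ≠ d := fun e => hd1 e.symm
    have h2 : (1 : G) ≠ p := fun e => hp1 e.symm
    have h3 : (1 : G) ≠ p * d := by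
      intro e
      apply hpd
      have : p * d * d = d := by rw [← e, one_mul]
      rwa [mul_assoc, hd2, mul_one] at this
    have h4 : d ≠ p := fun e => hpd e.symm
    have h5 : d ≠ p * d := by
      intro e
      apply hp1
      exact (mul_eq_right.mp e.symm)
    have h6 : p ≠ p * d := by
      intro e
      apply hd1
      exact (mul_eq_left.mp e.symm)
    rw [Finset.card_insert_of_notMem, Finset.card_insert_of_notMem, Finset.card_insert_of_notMem,
      Finset.card_singleton]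
    · simpa using h6
    · simp only [Finset.mem_insert, Finset.mem_singleton, not_or]
      exact ⟨h4, h5⟩
    · simp only [Finset.mem_insert, Finset.mem_singleton, not_or]
      exact ⟨h1, h2, h3⟩
  have hsub : (s : Set G) ⊆ (P : Set G) := by
    intro x hx
    simp only [s, Finset.coe_insert, Finset.coe_singleton, Set.mem_insert_iff,
      Set.mem_singleton_iff] at hx
    rcases hx with rfl | rfl | rfl | rfl
    · exact one_mem _
    · exact hd
    · exact hp
    · exact mul_mem hp hd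
  have hcardP : (P : Set G).ncard = 4 := by
    have := Nat.card_coe_set_eq (P : Set G)
    rw [← this]
    exact h.c4
  have heq : (s : Set G) = (P : Set G) := by
    refine Set.eq_of_subset_of_ncard_le hsub ?_ (Set.toFinite _)
    rw [hcardP, Set.ncard_coe_finset, hcard]
  intro α hα
  have hmem : α ∈ (s : Set G) := by
    rw [heq]
    exact hα
  simp only [s, Finset.coe_insert, Finset.coe_singleton, Set.mem_insert_iff,
    Set.mem_singleton_iff] at hmem
  exact hmem

/-- The projection modulo the core of a centraliser. -/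
abbrev piOf (b : G) : ↥(Cg b) →* (↥(Cg b) ⧸ oddCore ↥(Cg b)) := QuotientGroup.mk' (oddCore ↥(Cg b))

theorem sec (b : G) : Sec (piOf b) := by
  refine ⟨QuotientGroup.mk'_surjective _, ?_, pPrimeCore_quotient_eq_bot 2⟩
  rw [QuotientGroup.ker_mk']
  exact Nat.coprime_two_right.mp (Cfsg.Agent.Lib.Components.Transport.coprime_card_pPrimeCore 2)

theorem Sep.sep_at (h : Sep P P') {b : G} (hb : b ∈ P ⊔ P') (hb1 : b ≠ 1)
    (E : Subgroup (↥(Cg b) ⧸ oddCore ↥(Cg b))) (hE : IsComponent E) :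
    (∀ α ∈ P.subgroupOf (Cg b), piOf b α ∈ centralizer (E : Set _)) ∨
      (∀ α ∈ P'.subgroupOf (Cg b), piOf b α ∈ centralizer (E : Set _)) := by
  have hE' := isPComponent_pLift (X := ↥(Cg b)) (p := 2) hE
  have hmap := map_pLift (X := ↥(Cg b)) (p := 2) hE
  have key : ∀ Q : Subgroup G, ⁅(pLift 2 E).map (Cg b).subtype, Q⁆ ≤ Og b →
      ∀ α ∈ Q.subgroupOf (Cg b), piOf b α ∈ centralizer (E : Set _) := by
    intro Q hQ α hα
    rw [mem_centralizer_iff]
    intro e he
    rw [← hmap] at he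
    obtain ⟨e', he', rfl⟩ := he
    have h1 : ⁅(e' : G), (α : G)⁆ ∈ Og b :=
      hQ (commutator_mem_commutator ⟨e', he', rfl⟩ (mem_subgroupOf.mp hα))
    obtain ⟨y, hy, hyc⟩ := h1
    have h2 : y = ⁅e', α⁆ := Subtype.ext (by
      have hyc' : (y : G) = ⁅(e' : G), (α : G)⁆ := hyc
      rw [hyc']
      rfl)
    rw [h2] at hy
    have h3 : piOf b ⁅e', α⁆ = 1 := by
      have : ⁅e', α⁆ ∈ (piOf b).ker := by
        rw [QuotientGroup.ker_mk']
        exact hy
      exact this
    rw [map_commutatorElement, commutatorElement_eq_one_iff_mul_comm] at h3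
    exact h3
  rcases h.sep b hb hb1 _ hE' with h1 | h1
  · exact Or.inl (key P h1)
  · exact Or.inr (key P' h1)

/-- `[O(C(a)) ∩ C(d), P] ≤ O(C(d))` for `d ∈ P`. -/
theorem Sep.LA (h : Sep P P') {a d : G} (ha : a ∈ P ⊔ P') (ha1 : a ≠ 1) (hd : d ∈ P) (hd1 : d ≠ 1) :
    ⁅Og a ⊓ Cg d, P⁆ ≤ Og d := by
  classical
  have hdA : d ∈ P ⊔ P' := mem_sup_left hd
  by_cases had : a = d
  · subst had
    refine commutator_le.mpr fun g hg α hα => ?_
    have hα' : α ∈ Cg a := h.le_Cg hdA (mem_sup_left hα)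
    rw [commutatorElement_def, mul_assoc, mul_assoc]
    refine mul_mem (mem_inf.mp hg).1 ?_
    have := Og_conj hα' (inv_mem (mem_inf.mp hg).1)
    rwa [← mul_assoc]
  obtain ⟨p, hp, p', hp', happ⟩ := h.decomp ha
  have hKmem : ∀ {x : G}, x ∈ P ⊔ P' → x ∈ Cg d := fun hx => h.le_Cg hdA hx
  let aK : Cg d := ⟨a, hKmem ha⟩
  let pK : Cg d := ⟨p, hKmem (mem_sup_left hp)⟩
  let p'K : Cg d := ⟨p', hKmem (mem_sup_right hp')⟩
  let dK : Cg d := ⟨d, hKmem hdA⟩
  have key := (sec d).commutator_le_ker (P := P.subgroupOf (Cg d)) (P' := P'.subgroupOf (Cg d))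
    (R := (Og a).subgroupOf (Cg d)) (a := aK) (p := pK) (p' := p'K) (d := dK)
    (isP_subgroupOf (fun x hx => h.sq_P hx) _) (isP_subgroupOf (fun x hx => h.sq_P' hx) _)
    (Subtype.ext (h.sq ha)) (fun e => ha1 (congrArg Subtype.val e))
    (mem_subgroupOf.mpr hp) (mem_subgroupOf.mpr hp') (Subtype.ext happ)
    (mem_subgroupOf.mpr hd) (fun k => Subtype.ext ((mem_Cg.mp k.2).symm))
    (by
      intro h1 h2 α hα
      have h1' : p ≠ 1 := fun e => h1 (Subtype.ext e)
      have h2' : p ≠ d := fun e => h2 (Subtype.ext e)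
      rcases h.four hp hd h1' h2' hd1 α (mem_subgroupOf.mp hα) with e | e | e | e
      · exact Or.inl (Subtype.ext e)
      · exact Or.inr (Or.inl (Subtype.ext e))
      · exact Or.inr (Or.inr (Or.inl (Subtype.ext e)))
      · exact Or.inr (Or.inr (Or.inr (Subtype.ext e))))
    (fun E hE => h.sep_at hdA hd1 E hE)
    (fun r hr => Subtype.ext (mem_Cg.mp (Og_le a (mem_subgroupOf.mp hr))))
    (fun c hc r hr => mem_subgroupOf.mpr (Og_conj (mem_Cg.mpr (congrArg Subtype.val hc))
      (mem_subgroupOf.mp hr)))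
    (odd_subgroupOf (Og_odd a) _)
    (fun x hx => norm_subgroupOf (Og_norm (h.le_Cg ha (mem_sup_left (mem_subgroupOf.mp hx)))))
  refine commutator_le.mpr fun g hg α hα => ?_
  have hgK : g ∈ Cg d := (mem_inf.mp hg).2
  have hαK : α ∈ Cg d := hKmem (mem_sup_left hα)
  have h1 := key (commutator_mem_commutator (g₁ := (⟨g, hgK⟩ : Cg d)) (g₂ := (⟨α, hαK⟩ : Cg d))
    (mem_subgroupOf.mpr (mem_inf.mp hg).1) (mem_subgroupOf.mpr hα))
  rw [QuotientGroup.ker_mk'] at h1
  exact ⟨_, h1, rfl⟩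

end Cfsg.Agent.Lib.Transfer.CoreSep
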