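import Mathlib
import Cfsg.Agent.Lib.Transfer.CoreSepB

/-!
# Separated pairs of four-groups: the functor
-/

set_option autoImplicit false
set_option linter.style.haveILetI false
set_option linter.unusedVariables false
set_option linter.unusedSectionVars false

namespace Cfsg.Agent.Lib.Transfer.CoreSep

open Subgroup Cfsg
open scoped commutatorElement
open Cfsg.Agent.Lib.Components.PComponent
open Cfsg.Agent.Lib.Transfer.CoreControl

variable {G : Type*} [Group G] [Finite G] {P P' : Subgroup G}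


theorem cyclic_of_quot_eq_bot {X : Type*} [Group X] (N : Subgroup X) [N.Normal] (hN : N = ⊥)
    (hc : IsCyclic (X ⧸ N)) : IsCyclic X := by
  subst hN
  exact isCyclic_of_surjective _ (QuotientGroup.quotientBot (G := X)).surjective
theorem Sep.P_norm_Og (h : Sep P P') {a : G} (ha : a ∈ P ⊔ P') : P ≤ normalizer (Og a : Set G) :=
  fun x hx => Og_norm (h.le_Cg ha (mem_sup_left hx))

theorem Sep.Th_le (h : Sep P P') {a : G} (ha : a ∈ P ⊔ P') : Th P a ≤ Og a :=
  sup_le (Cfsg.Agent.Lib.Coprime.Coset.commutator_le_left_of_le_normalizer (h.P_norm_Og ha))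
    inf_le_left

theorem Sep.norm_P {x : G} (h : Sep P P') (hx : x ∈ P ⊔ P') : x ∈ normalizer (P : Set G) := by
  refine normalizer_of_centralizer ?_
  rw [mem_centralizer_iff]
  intro y hy
  exact h.comm_sup (mem_sup_left hy) hx

theorem Sep.cent_P {x : G} (h : Sep P P') (hx : x ∈ P ⊔ P') : x ∈ centralizer (P : Set G) := by
  rw [mem_centralizer_iff]
  intro y hy
  exact h.comm_sup (mem_sup_left hy) hx

theorem Sep.norm_Th (h : Sep P P') {a x : G} (ha : a ∈ P ⊔ P') (hx : x ∈ P ⊔ P') :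
    x ∈ normalizer (Th P a : Set G) := by
  refine Cfsg.Agent.Lib.Coprime.Three.sup_mem_normalizer
    (Cfsg.Agent.Lib.Coprime.Three.commutator_mem_normalizer (Og_norm (h.le_Cg ha hx)) (h.norm_P hx))
    ?_
  have h1 : x ∈ normalizer (Og a : Set G) := Og_norm (h.le_Cg ha hx)
  have h2 : x ∈ normalizer (Oc P : Set G) := Oc_norm (h.cent_P hx)
  rw [mem_normalizer_iff] at h1 h2 ⊢
  intro y
  rw [mem_inf, mem_inf, ← h1 y, ← h2 y]

/-- The fixed points of `P` on the functor lie in the core of `C(P)`. -/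
theorem Sep.star (h : Sep P P') {a : G} (ha : a ∈ P ⊔ P') (ha1 : a ≠ 1) :
    Th P a ⊓ centralizer (P : Set G) ≤ Oc P := by
  classical
  let Y : Subgroup G := ⁅Og a, P⁆
  let X : Subgroup G := Og a ⊓ Oc P
  have hPn := h.P_norm_Og ha
  have hYO : Y ≤ Og a := Cfsg.Agent.Lib.Coprime.Coset.commutator_le_left_of_le_normalizer hPn
  have hP2 : IsPGroup 2 P := isP_of_sq (fun x hx => h.sq_P hx)
  have hPsolv : Group.IsSolvable P := by
    apply Group.isSolvable_of_comm
    exact h.ea.1.is_comm.comm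
  have hcopO : (Nat.card P).Coprime (Nat.card (Og a)) := by
    rw [h.c4]
    have : Nat.Coprime 2 (Nat.card (Og a)) := Nat.coprime_two_left.mpr (Og_odd a)
    exact Nat.Coprime.pow_left 2 this
  have hYodd : Odd (Nat.card Y) := odd_card_of_le (Og_odd a) hYO
  have hYA : ⁅Y, P⁆ = Y :=
    Cfsg.Agent.Lib.Coprime.Coset.commutator_commutator_eq hPn hcopO (Or.inl hPsolv)
  have hAY : P ≤ normalizer (Y : Set G) :=
    Cfsg.Agent.Lib.Coprime.Coset.commutator_le_normalizer_right hPn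
  have key := Cfsg.Agent.S1329.result P P Y hP2 h.ea.1 le_rfl hYodd hAY hYA
  -- `O(C(d)) ∩ C(P) ≤ O(C(P))` for `d ∈ P`
  have hcore : ∀ d ∈ P, Og d ⊓ centralizer (P : Set G) ≤ Oc P := by
    intro d hd x hx
    have hxC : x ∈ centralizer (P : Set G) := (mem_inf.mp hx).2
    have hle : (Og d ⊓ centralizer (P : Set G)).subgroupOf (centralizer (P : Set G)) ≤
        oddCore ↥(centralizer (P : Set G)) := by
      refine le_pPrimeCore' ?_ ?_
      · refine ⟨fun y hy c => ?_⟩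
        rw [mem_subgroupOf] at hy ⊢
        have hcd : (c : G) ∈ Cg d := mem_Cg.mpr
          (((mem_centralizer_iff.mp c.2) d hd).symm)
        refine mem_inf.mpr ⟨?_, ?_⟩
        · exact Og_conj hcd (mem_inf.mp hy).1
        · exact mul_mem (mul_mem c.2 (mem_inf.mp hy).2) (inv_mem c.2)
      · exact Nat.coprime_two_right.mpr
          (odd_subgroupOf (odd_card_of_le (Og_odd d) inf_le_left) _)
    exact ⟨⟨x, hxC⟩, hle (mem_subgroupOf.mpr hx), rfl⟩
  have hY : Y ⊓ centralizer (P : Set G) ≤ Oc P := by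
    rw [key]
    refine iSup_le ?_
    rintro ⟨B₀, hB₀, hcyc⟩
    -- `B₀` is not trivial
    have hne : ∃ d ∈ B₀, d ≠ 1 := by
      by_contra hall
      push Not at hall
      have hbot : B₀ = ⊥ := by
        rw [eq_bot_iff]
        intro x hx
        rw [mem_bot]
        exact hall x hx
      subst hbot
      haveI hn : ((⊥ : Subgroup G).subgroupOf P).Normal := by
        rw [Subgroup.bot_subgroupOf]
        infer_instance
      have hc : IsCyclic (↥P ⧸ (⊥ : Subgroup G).subgroupOf P) := hcyc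
      have hc2 : IsCyclic ↥P :=
        cyclic_of_quot_eq_bot _ (Subgroup.bot_subgroupOf P) hc
      obtain ⟨g, hg⟩ := hc2.exists_generator
      have hord : orderOf g ∣ 2 := orderOf_dvd_of_pow_eq_one
        (Subtype.ext (by simpa using h.sq_P g.2))
      have hcardg : orderOf g = Nat.card P := orderOf_eq_card_of_forall_mem_zpowers hg
      rw [h.c4] at hcardg
      rw [hcardg] at hord
      omega
    obtain ⟨d, hd, hd1⟩ := hne
    have hdP : d ∈ P := hB₀ hd
    intro x hx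
    obtain ⟨hx1, hx2⟩ := mem_inf.mp hx
    obtain ⟨_, hxC⟩ := mem_inf.mp hx1
    have hx3 : ⁅Y ⊓ centralizer ((B₀ : Subgroup G) : Set G), P⁆ ≤ Og d := by
      refine le_trans (commutator_mono ?_ le_rfl) (h.LA ha ha1 hdP hd1)
      intro y hy
      obtain ⟨hy1, hy2⟩ := mem_inf.mp hy
      refine mem_inf.mpr ⟨hYO hy1, ?_⟩
      exact mem_Cg.mpr (((mem_centralizer_iff.mp hy2) d hd).symm)
    exact hcore d hdP (mem_inf.mpr ⟨hx3 hx2, hxC⟩)
  intro y hy
  obtain ⟨hy1, hy2⟩ := mem_inf.mp hy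
  have hXN : X ≤ normalizer (Y : Set G) := by
    intro x hx
    exact Cfsg.Agent.Lib.Coprime.Coset.commutator_le_normalizer_left hPn (mem_inf.mp hx).1
  obtain ⟨u, hu, z, hz, rfl⟩ :=
    (Cfsg.Agent.Lib.Coprime.Coset.mem_sup_iff_of_le_normalizer hXN y).mp hy1
  have hzO : z ∈ Oc P := (mem_inf.mp hz).2
  have huC : u ∈ centralizer (P : Set G) := by
    have e : u = (u * z) * z⁻¹ := by group
    rw [e]
    exact mul_mem hy2 (inv_mem (Oc_le P hzO))
  exact mul_mem (hY (mem_inf.mpr ⟨hu, huC⟩)) hzO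

/-- The main step. -/
theorem Sep.T_cent (h : Sep P P') {a b : G} (ha : a ∈ P ⊔ P') (ha1 : a ≠ 1) (hb : b ∈ P ⊔ P')
    (hb1 : b ≠ 1) {E : Subgroup (↥(Cg b) ⧸ oddCore ↥(Cg b))} (hE : IsComponent E)
    (hEP : ∀ α ∈ P.subgroupOf (Cg b), piOf b α ∈ centralizer (E : Set _))
    (h1 : piOf b ⟨a, h.le_Cg hb ha⟩ ∈ normalizer (E : Set _))
    (h2 : piOf b ⟨a, h.le_Cg hb ha⟩ ∉ centralizer (E : Set _)) :
    ∀ x ∈ (Th P a).subgroupOf (Cg b), piOf b x ∈ centralizer (E : Set _) := by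
  classical
  haveI : Fact (Nat.Prime 2) := ⟨Nat.prime_two⟩
  obtain ⟨p, hp, p', hp', happ⟩ := h.decomp ha
  have hKmem : ∀ {x : G}, x ∈ P ⊔ P' → x ∈ Cg b := fun hx => h.le_Cg hb hx
  let aK : Cg b := ⟨a, hKmem ha⟩
  let pK : Cg b := ⟨p, hKmem (mem_sup_left hp)⟩
  let p'K : Cg b := ⟨p', hKmem (mem_sup_right hp')⟩
  have hPK : IsPGroup 2 (P.subgroupOf (Cg b)) := isP_subgroupOf (fun x hx => h.sq_P hx) _
  have hpK : pK ∈ P.subgroupOf (Cg b) := mem_subgroupOf.mpr hp
  have hTodd : Odd (Nat.card ((Th P a).subgroupOf (Cg b))) :=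
    odd_subgroupOf (odd_card_of_le (Og_odd a) (h.Th_le ha)) _
  have hTP : P.subgroupOf (Cg b) ≤ normalizer (((Th P a).subgroupOf (Cg b) : Subgroup _) : Set _) :=
    fun x hx => norm_subgroupOf (h.norm_Th ha (mem_sup_left (mem_subgroupOf.mp hx)))
  have hfixP : ∀ x ∈ (Th P a).subgroupOf (Cg b), (∀ α ∈ P.subgroupOf (Cg b), α * x = x * α) →
      piOf b x ∈ centralizer (E : Set _) := by
    intro x hx hc
    have hxC : (x : G) ∈ centralizer (P : Set G) := by
      rw [mem_centralizer_iff]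
      intro α hα
      have := congrArg Subtype.val (hc ⟨α, hKmem (mem_sup_left hα)⟩ (mem_subgroupOf.mpr hα))
      exact this
    have hxO : (x : G) ∈ Oc P := h.star ha ha1 (mem_inf.mpr ⟨mem_subgroupOf.mp hx, hxC⟩)
    refine (sec b).cent_of_normal (S := P.subgroupOf (Cg b)) (D := (Oc P).subgroupOf (Cg b))
      hPK hE hEP (odd_subgroupOf (Oc_odd P) _) ?_ x (mem_subgroupOf.mpr hxO)
    intro c hc' y hy
    rw [mem_subgroupOf] at hy ⊢
    have hcC : (c : G) ∈ centralizer (P : Set G) := by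
      rw [mem_centralizer_iff]
      intro α hα
      exact congrArg Subtype.val (hc' ⟨α, hKmem (mem_sup_left hα)⟩ (mem_subgroupOf.mpr hα))
    exact Oc_conj hcC hy
  refine (sec b).centralizes (P := P.subgroupOf (Cg b)) (P' := P'.subgroupOf (Cg b))
    (T := (Th P a).subgroupOf (Cg b)) (a := aK) (p := pK) (p' := p'K) hPK hpK
    (mem_subgroupOf.mpr hp') (Subtype.ext happ)
    (Subtype.ext (by rw [← pow_two]; exact h.sq_P hp)) (fun E hE => h.sep_at hb hb1 E hE)
    (fun r hr => Subtype.ext (mem_Cg.mp (Og_le a (h.Th_le ha (mem_subgroupOf.mp hr)))))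
    hTodd hTP hE hEP h1 h2 hfixP ?_
  intro hp1 x hx hpx
  have hp1' : p ≠ 1 := fun e => hp1 (Subtype.ext e)
  -- the subgroup of `T` centralising `p`
  let W : Subgroup (Cg b) := (Th P a).subgroupOf (Cg b) ⊓ centralizer ({pK} : Set (Cg b))
  have hxW : x ∈ W := mem_inf.mpr ⟨hx, by
    rw [mem_centralizer_iff]
    intro z hz
    rw [Set.mem_singleton_iff] at hz
    rw [hz]
    exact hpx⟩
  have hWT : W ≤ (Th P a).subgroupOf (Cg b) := inf_le_left
  have hWP : P.subgroupOf (Cg b) ≤ normalizer (W : Set (Cg b)) := by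
    intro α hα
    have h3 := hTP hα
    have hαp : α * pK = pK * α := Subtype.ext (h.commP (mem_subgroupOf.mp hα) hp)
    rw [mem_normalizer_iff] at h3 ⊢
    intro y
    have hcen : y ∈ centralizer ({pK} : Set (Cg b)) ↔
        α * y * α⁻¹ ∈ centralizer ({pK} : Set (Cg b)) := by
      rw [mem_Cg, mem_Cg]
      constructor
      · intro hy
        calc α * y * α⁻¹ * pK = α * y * (α⁻¹ * pK) := by group
          _ = α * y * (pK * α⁻¹) := by
            congr 1
            rw [inv_mul_eq_iff_eq_mul, ← mul_assoc, hαp]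
            group
          _ = α * (y * pK) * α⁻¹ := by group
          _ = α * (pK * y) * α⁻¹ := by rw [hy]
          _ = (α * pK) * y * α⁻¹ := by group
          _ = pK * α * y * α⁻¹ := by rw [hαp]
          _ = pK * (α * y * α⁻¹) := by group
      · intro hy
        have hαp' : α⁻¹ * pK = pK * α⁻¹ := by
          rw [inv_mul_eq_iff_eq_mul, ← mul_assoc, hαp]
          group
        have e : y = α⁻¹ * (α * y * α⁻¹) * α := by group
        rw [e]
        calc α⁻¹ * (α * y * α⁻¹) * α * pK = α⁻¹ * (α * y * α⁻¹) * (α * pK) := by group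
          _ = α⁻¹ * ((α * y * α⁻¹) * pK) * α := by rw [hαp]; group
          _ = α⁻¹ * (pK * (α * y * α⁻¹)) * α := by rw [hy]
          _ = (α⁻¹ * pK) * (α * y * α⁻¹) * α := by group
          _ = pK * (α⁻¹ * (α * y * α⁻¹) * α) := by rw [hαp']; group
    rw [mem_inf, mem_inf, ← h3 y, ← hcen]
  have hWodd : ¬ 2 ∣ Nat.card (⁅W, P.subgroupOf (Cg b)⁆ : Subgroup (Cg b)) := by
    intro h2'
    have h3 := h2'.trans (Subgroup.card_dvd_of_le
      ((Cfsg.Agent.Lib.Coprime.Coset.commutator_le_left_of_le_normalizer hWP).trans hWT))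
    exact (Nat.not_even_iff_odd.mpr hTodd) (even_iff_two_dvd.mpr h3)
  obtain ⟨n, hn, hf⟩ := exists_fixed_mul_of_pgroup (q := 2) (A := P.subgroupOf (Cg b))
    (N := ⁅W, P.subgroupOf (Cg b)⁆) hPK
    (fun α hα n hn => (mem_normalizer_iff.mp
      (Cfsg.Agent.Lib.Coprime.Coset.commutator_le_normalizer_right hWP hα) n).mp hn) hWodd (t := x)
    (by
      intro α hα
      have e : x⁻¹ * (α * x * α⁻¹) = ⁅x⁻¹, α⁆ := by
        rw [commutatorElement_def]
        group
      rw [e]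
      exact commutator_mem_commutator (inv_mem hxW) hα)
  have hnW : n ∈ W := Cfsg.Agent.Lib.Coprime.Coset.commutator_le_left_of_le_normalizer hWP hn
  have h3 : piOf b (x * n) ∈ centralizer (E : Set _) := by
    refine hfixP (x * n) (mul_mem hx (hWT hnW)) fun α hα => ?_
    have := hf α hα
    calc α * (x * n) = (α * (x * n) * α⁻¹) * α := by group
      _ = x * n * α := by rw [this]
  -- `n` lies in the core of `C(p)`
  have hnO : (n : G) ∈ Og p := by
    have hle : (⁅W, P.subgroupOf (Cg b)⁆ : Subgroup (Cg b)).map (Cg b).subtype ≤ Og p := by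
      rw [map_commutator]
      refine le_trans (commutator_mono ?_ ?_) (h.LA ha ha1 hp hp1')
      · rintro _ ⟨y, hy, rfl⟩
        refine mem_inf.mpr ⟨h.Th_le ha (mem_subgroupOf.mp (mem_inf.mp hy).1), ?_⟩
        have h4 := (mem_centralizer_iff.mp (mem_inf.mp hy).2) pK rfl
        exact mem_Cg.mpr (congrArg Subtype.val h4).symm
      · rintro _ ⟨y, hy, rfl⟩
        exact mem_subgroupOf.mp hy
    exact hle ⟨n, hn, rfl⟩
  have hzp : IsPGroup 2 (zpowers pK) := by
    rintro ⟨_, k, rfl⟩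
    refine ⟨1, ?_⟩
    apply Subtype.ext
    change (pK ^ k) ^ 2 ^ 1 = 1
    have hsq : pK * pK = 1 := Subtype.ext (by rw [← pow_two]; exact h.sq_P hp)
    rw [pow_one, ← zpow_natCast, ← zpow_mul, mul_comm, zpow_mul, zpow_natCast, pow_two, hsq,
      one_zpow]
  have h4 : piOf b n ∈ centralizer (E : Set _) := by
    refine (sec b).cent_of_normal (S := zpowers pK) (D := (Og p).subgroupOf (Cg b)) hzp hE ?_
      (odd_subgroupOf (Og_odd p) _) ?_ n (mem_subgroupOf.mpr hnO)
    · intro s hs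
      exact hEP s (zpowers_le.mpr hpK hs)
    · intro c hc y hy
      rw [mem_subgroupOf] at hy ⊢
      have hcC : (c : G) ∈ Cg p := mem_Cg.mpr
        (congrArg Subtype.val (hc pK (mem_zpowers pK))).symm
      exact Og_conj hcC hy
  have e : x = (x * n) * n⁻¹ := by group
  rw [e, map_mul, map_inv]
  exact mul_mem h3 (inv_mem h4)

/-- Balance: the intersection of the two functors meets `C(b)` inside the core of `C(b)`. -/
theorem Sep.le_Og (h₁₂ : Sep P P') (h₂₁ : Sep P' P) {a b : G} (ha : a ∈ P ⊔ P') (ha1 : a ≠ 1)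
    (hb : b ∈ P ⊔ P') (hb1 : b ≠ 1) (hab : a ≠ b) :
    (Th P a ⊓ Th P' a) ⊓ Cg b ≤ Og b := by
  classical
  let aK : Cg b := ⟨a, h₁₂.le_Cg hb ha⟩
  let Q : Subgroup (Cg b) := (Th P a ⊓ Th P' a).subgroupOf (Cg b)
  let R : Subgroup (Cg b) := (Og a).subgroupOf (Cg b)
  have hQR : Q ≤ R := by
    intro x hx
    rw [mem_subgroupOf] at hx ⊢
    exact h₁₂.Th_le ha (mem_inf.mp hx).1
  have hQ : Q ≤ (piOf b).ker := by
    rw [← Subgroup.map_eq_bot_iff]
    by_contra hne
    obtain ⟨E, hE, h1, h2, h3, h4⟩ := (sec b).exists_comp (a := aK)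
      (Subtype.ext (h₁₂.sq ha)) (fun e => ha1 (congrArg Subtype.val e)) R Q
      (fun r hr => Subtype.ext (mem_Cg.mp (Og_le a (mem_subgroupOf.mp hr))))
      (fun c hc r hr => mem_subgroupOf.mpr (Og_conj (mem_Cg.mpr (congrArg Subtype.val hc))
        (mem_subgroupOf.mp hr)))
      (odd_subgroupOf (Og_odd a) _) hQR hne
    apply h4
    rintro _ ⟨x, hx, rfl⟩
    have hx' := mem_subgroupOf.mp hx
    rcases h₁₂.sep_at hb hb1 E hE with hP | hP
    · exact h₁₂.T_cent ha ha1 hb hb1 hE hP h1 h3 x (mem_subgroupOf.mpr (mem_inf.mp hx').1)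
    · exact h₂₁.T_cent (Sep.symm_mem ha) ha1 (Sep.symm_mem hb) hb1 hE hP h1 h3 x
        (mem_subgroupOf.mpr (mem_inf.mp hx').2)
  intro x hx
  obtain ⟨hx1, hx2⟩ := mem_inf.mp hx
  have h1 := hQ (show (⟨x, hx2⟩ : Cg b) ∈ Q from mem_subgroupOf.mpr hx1)
  rw [QuotientGroup.ker_mk'] at h1
  exact ⟨_, h1, rfl⟩

/-- Membership in the functor at `b`. -/
theorem Sep.to_Th (h : Sep P P') {a b x : G} (ha : a ∈ P ⊔ P') (ha1 : a ≠ 1) (hb : b ∈ P ⊔ P')
    (hx : x ∈ Th P a) (hxb : x ∈ Og b) : x ∈ Th P b := by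
  classical
  haveI : Fact (Nat.Prime 2) := ⟨Nat.prime_two⟩
  let L : Subgroup G := Th P a ⊓ Og b
  have hxL : x ∈ L := mem_inf.mpr ⟨hx, hxb⟩
  have hLP : P ≤ normalizer (L : Set G) := by
    intro α hα
    have h1 : α ∈ normalizer (Th P a : Set G) := h.norm_Th ha (mem_sup_left hα)
    have h2 : α ∈ normalizer (Og b : Set G) := h.P_norm_Og hb hα
    rw [mem_normalizer_iff] at h1 h2 ⊢
    intro y
    rw [mem_inf, mem_inf, ← h1 y, ← h2 y]
  have hP2 : IsPGroup 2 P := isP_of_sq (fun x hx => h.sq_P hx)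
  have hLO : L ≤ Og b := inf_le_right
  have hLodd : ¬ 2 ∣ Nat.card (⁅L, P⁆ : Subgroup G) := by
    intro h2'
    have h3 := h2'.trans (Subgroup.card_dvd_of_le
      ((Cfsg.Agent.Lib.Coprime.Coset.commutator_le_left_of_le_normalizer hLP).trans hLO))
    exact (Nat.not_even_iff_odd.mpr (Og_odd b)) (even_iff_two_dvd.mpr h3)
  obtain ⟨n, hn, hf⟩ := exists_fixed_mul_of_pgroup (q := 2) (A := P) (N := ⁅L, P⁆) hP2
    (fun α hα n hn => (mem_normalizer_iff.mp
      (Cfsg.Agent.Lib.Coprime.Coset.commutator_le_normalizer_right hLP hα) n).mp hn) hLodd (t := x)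
    (by
      intro α hα
      have e : x⁻¹ * (α * x * α⁻¹) = ⁅x⁻¹, α⁆ := by
        rw [commutatorElement_def]
        group
      rw [e]
      exact commutator_mem_commutator (inv_mem hxL) hα)
  have hnL : n ∈ L := Cfsg.Agent.Lib.Coprime.Coset.commutator_le_left_of_le_normalizer hLP hn
  have hxn : x * n ∈ Th P a ⊓ centralizer (P : Set G) := by
    refine mem_inf.mpr ⟨mul_mem hx (mem_inf.mp hnL).1, ?_⟩
    rw [mem_centralizer_iff]
    intro α hα
    have := hf α hα
    calc α * (x * n) = (α * (x * n) * α⁻¹) * α := by group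
      _ = x * n * α := by rw [this]
  have h1 : x * n ∈ Oc P := h.star ha ha1 hxn
  have h2 : x * n ∈ Og b := mul_mem hxb (hLO hnL)
  have h3 : n ∈ (⁅Og b, P⁆ : Subgroup G) := commutator_mono hLO le_rfl hn
  have e : x = (x * n) * n⁻¹ := by group
  rw [e]
  exact mul_mem (mem_sup_right (mem_inf.mpr ⟨h2, h1⟩)) (mem_sup_left (inv_mem h3))

/-- The functor is a signalizer functor. -/
theorem main_functor (h₁₂ : Sep P P') (h₂₁ : Sep P' P) :
    IsSignalizerFunctor 2 (P ⊔ P') (fun a => Th P a ⊓ Th P' a) := by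
  classical
  refine ⟨?_, ?_, ?_, ?_⟩
  · intro a ha ha1
    exact (inf_le_left.trans (h₁₂.Th_le ha)).trans (Og_le a)
  · intro a ha ha1 h2
    have h3 := h2.trans (Subgroup.card_dvd_of_le (inf_le_left.trans (h₁₂.Th_le ha)))
    exact (Nat.not_even_iff_odd.mpr (Og_odd a)) (even_iff_two_dvd.mpr h3)
  · intro a ha ha1 b hb x hx
    obtain ⟨hx1, hx2⟩ := mem_inf.mp hx
    refine mem_inf.mpr ⟨?_, ?_⟩
    · exact (mem_normalizer_iff.mp (h₁₂.norm_Th ha hb) x).mp hx1
    · exact (mem_normalizer_iff.mp (h₂₁.norm_Th (Sep.symm_mem ha) (Sep.symm_mem hb)) x).mp hx2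
  · intro a ha ha1 b hb hb1 x hx
    obtain ⟨hx1, hx2⟩ := mem_inf.mp hx
    have hxC : x ∈ Cg b := by
      rw [mem_Cg]
      exact ((mem_centralizer_iff.mp hx2) b rfl).symm
    by_cases hab : a = b
    · subst hab
      exact hx1
    have hO := h₁₂.le_Og h₂₁ ha ha1 hb hb1 hab (mem_inf.mpr ⟨hx1, hxC⟩)
    exact mem_inf.mpr ⟨h₁₂.to_Th ha ha1 hb (mem_inf.mp hx1).1 hO,
      h₂₁.to_Th (Sep.symm_mem ha) ha1 (Sep.symm_mem hb) (mem_inf.mp hx1).2 hO⟩

end Cfsg.Agent.Lib.Transfer.CoreSep
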