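import Mathlib
import Cfsg.Prelude.Def_Transfer
import Cfsg.Agent.Lib.Transfer.Frobenius
import Cfsg.Agent.Lib.Transfer.WellPlaced
import Cfsg.Agent.Lib.Coprime.OmegaOne
import Cfsg.Agent.Lib.PGroup.Critical

set_option autoImplicit false

/-!
# Sylow `2`-subgroups whose elements of order dividing four form `C₄ × C₂`

A Frattini argument for a normal subgroup of a subgroup containing a Sylow subgroup, and the theorem
that a finite group has a normal `2`-complement as soon as the elements `x` with `x⁴ = 1` of a Sylow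
`2`-subgroup form an abelian group `⟨c⟩ × ⟨b⟩` with `c` of order four and `b` an involution.
-/

namespace Cfsg.Agent.Lib.Transfer.OmegaTwo

open Cfsg.Agent.Lib.Transfer.Frobenius Cfsg.Agent.Lib.Transfer.WellPlaced
  Cfsg.Agent.Lib.Coprime.OmegaOne

variable {G : Type*} [Group G]

theorem commute_of_coprime_pow {g x : G} {k : ℕ} (hc : Nat.Coprime k (orderOf g))
    (h : Commute (g ^ k) x) : Commute g x := by
  have hb := Nat.gcd_eq_gcd_ab k (orderOf g)
  rw [Nat.Coprime.gcd_eq_one hc, Nat.cast_one] at hb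
  have e : g = (g ^ k) ^ (Nat.gcdA k (orderOf g)) := by
    conv_lhs => rw [← zpow_one g, hb]
    rw [zpow_add, zpow_mul, zpow_mul, zpow_natCast, zpow_natCast, pow_orderOf_eq_one, one_zpow,
      mul_one]
  have := h.zpow_left (Nat.gcdA k (orderOf g))
  rwa [← e] at this

/-- **Frattini argument**: `S` Sylow, `S ≤ H`, `C ≤ H` normalized by `H`: each `g ∈ H` is in
`C · N_H(S ∩ C)`. -/
theorem frat [Finite G] {p : ℕ} [Fact p.Prime] (S : Sylow p G) {H C : Subgroup G}
    (hSH : (S : Subgroup G) ≤ H) (hCH : C ≤ H) (hCn : ∀ h ∈ H, ∀ x ∈ C, h * x * h⁻¹ ∈ C) {g : G}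
    (hg : g ∈ H) : ∃ d ∈ C, d * g ∈ Subgroup.normalizer (((S : Subgroup G) ⊓ C : Subgroup G) : Set G) := by
  set A : Subgroup G := (S : Subgroup G) ⊓ C with hA
  have hAC : A ≤ C := inf_le_right
  have hAp : IsPGroup p A := S.isPGroup'.to_le inf_le_left
  have hmax : ∀ R : Subgroup G, R ≤ C → IsPGroup p R → Nat.card R ≤ Nat.card A := by
    intro R hRC hRp
    obtain ⟨h, hh, hle⟩ := exists_conj_le_of_sylow hSH S.isPGroup' (not_dvd_relIndex_of_le S hSH)
      (hRC.trans hCH) hRp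
    have hle2 : cj h R ≤ A := by
      refine le_inf hle ?_
      rintro _ ⟨r, hr, rfl⟩
      exact hCn h hh r (hRC hr)
    rw [← card_cj h R]
    exact Subgroup.card_le_of_le hle2
  have mk : ∀ T : Subgroup G, T ≤ C → IsPGroup p T → Nat.card T = Nat.card A →
      ∃ P : Sylow p C, (P : Subgroup C) = T.subgroupOf C := by
    intro T hTC hTp hTc
    refine ⟨⟨T.subgroupOf C, hTp.comap_of_injective _ C.subtype_injective, ?_⟩, rfl⟩
    intro Q' hQ' hle
    have hcardT : Nat.card (T.subgroupOf C) = Nat.card T :=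
      Nat.card_congr (Subgroup.subgroupOfEquivOfLe hTC).toEquiv
    have hR := hmax (Q'.map C.subtype) (Subgroup.map_subtype_le _) (hQ'.map C.subtype)
    rw [Subgroup.card_map_of_injective C.subtype_injective] at hR
    symm
    apply Subgroup.eq_of_le_of_card_ge hle
    rw [hcardT, hTc]
    exact hR
  obtain ⟨P₁, hP₁⟩ := mk A hAC hAp rfl
  have hXC : cj g A ≤ C := by
    rintro _ ⟨r, hr, rfl⟩
    exact hCn g hg r (hAC hr)
  obtain ⟨P₂, hP₂⟩ := mk (cj g A) hXC (IsPGroup_cj hAp g) (card_cj g A)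
  obtain ⟨d, hd⟩ := MulAction.exists_smul_eq C P₂ P₁
  refine ⟨d, d.2, ?_⟩
  apply mem_normalizer_of_conj_mem
  intro q hq
  have h1 : (⟨g * q * g⁻¹, hXC (conj_mem_cj hq)⟩ : C) ∈ (P₂ : Subgroup C) := by
    rw [hP₂, Subgroup.mem_subgroupOf]
    exact conj_mem_cj hq
  have h2 : d * (⟨g * q * g⁻¹, hXC (conj_mem_cj hq)⟩ : C) * d⁻¹ ∈ ((d • P₂ : Sylow p C) : Subgroup C) := by
    rw [Sylow.coe_subgroup_smul]
    exact ⟨_, h1, rfl⟩
  rw [hd, hP₁, Subgroup.mem_subgroupOf] at h2
  have e : ((d * (⟨g * q * g⁻¹, hXC (conj_mem_cj hq)⟩ : C) * d⁻¹ : C) : G)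
      = (d : G) * g * q * ((d : G) * g)⁻¹ := by
    simp only [Subgroup.coe_mul, Subgroup.coe_inv]
    group
  rw [e] at h2
  exact h2

/-- The data: the elements `x` of `S` with `x⁴ = 1` are the products `c^j b^e`. -/
structure Data (S : Subgroup G) (c b : G) : Prop where
  hc : c ∈ S
  hb : b ∈ S
  hc4 : c ^ 4 = 1
  hc2 : c ^ 2 ≠ 1
  hb2 : b ^ 2 = 1
  hb1 : b ≠ 1
  hbz : b ≠ c ^ 2
  comm : c * b = b * c
  cover : ∀ t ∈ S, t ^ 4 = 1 → ∃ j e : ℕ, t = c ^ j * b ^ e

namespace Data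

variable {S : Subgroup G} {c b : G}

theorem commute (D : Data S c b) : Commute c b := D.comm

theorem bpow_sq (D : Data S c b) (e : ℕ) : (b ^ e) ^ 2 = 1 := by
  rw [← pow_mul, mul_comm, pow_mul, D.hb2, one_pow]

theorem z_sq (D : Data S c b) : (c ^ 2) ^ 2 = 1 := by
  rw [← pow_mul]
  exact D.hc4

theorem sq_cases (D : Data S c b) {t : G} (ht : t ∈ S) (h4 : t ^ 4 = 1) :
    t ^ 2 = 1 ∨ t ^ 2 = c ^ 2 := by
  obtain ⟨j, e, rfl⟩ := D.cover t ht h4
  have hcomm : Commute (c ^ j) (b ^ e) := D.commute.pow_pow j e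
  rw [hcomm.mul_pow, D.bpow_sq, mul_one]
  rcases Nat.even_or_odd' j with ⟨k, rfl | rfl⟩
  · left
    rw [← pow_mul, show 2 * k * 2 = 4 * k by ring, pow_mul, D.hc4, one_pow]
  · right
    rw [← pow_mul, show (2 * k + 1) * 2 = 4 * k + 2 by ring, pow_add, pow_mul, D.hc4, one_pow,
      one_mul]

theorem inv_cases (D : Data S c b) {t : G} (ht : t ∈ S) (h2 : t ^ 2 = 1) :
    t = 1 ∨ t = c ^ 2 ∨ t = b ∨ t = c ^ 2 * b := by
  have h4 : t ^ 4 = 1 := by rw [show 4 = 2 * 2 by norm_num, pow_mul, h2, one_pow]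
  obtain ⟨j, e, rfl⟩ := D.cover t ht h4
  have hcomm : Commute (c ^ j) (b ^ e) := D.commute.pow_pow j e
  rw [hcomm.mul_pow, D.bpow_sq, mul_one] at h2
  have hb1 : ∀ f : ℕ, b ^ (2 * f) = 1 := fun f => by rw [pow_mul, D.hb2, one_pow]
  have hb2 : ∀ f : ℕ, b ^ (2 * f + 1) = b := fun f => by
    rw [pow_succ, pow_mul, D.hb2, one_pow, one_mul]
  have hc1 : ∀ l : ℕ, c ^ (2 * (2 * l)) = 1 := fun l => by
    rw [← mul_assoc, show 2 * 2 = 4 by norm_num, pow_mul, D.hc4, one_pow]
  have hc2 : ∀ l : ℕ, c ^ (2 * (2 * l + 1)) = c ^ 2 := fun l => by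
    rw [show 2 * (2 * l + 1) = 4 * l + 2 by ring, pow_add, pow_mul, D.hc4, one_pow, one_mul]
  rcases Nat.even_or_odd' j with ⟨k, rfl | rfl⟩
  · rcases Nat.even_or_odd' k with ⟨l, rfl | rfl⟩ <;>
      rcases Nat.even_or_odd' e with ⟨f, rfl | rfl⟩
    · left; rw [hb1, hc1, mul_one]
    · right; right; left; rw [hb2, hc1, one_mul]
    · right; left; rw [hb1, hc2, mul_one]
    · right; right; right; rw [hb2, hc2]
  · exfalso
    apply D.hc2
    rw [← pow_mul, show (2 * k + 1) * 2 = 4 * k + 2 by ring, pow_add, pow_mul, D.hc4, one_pow,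
      one_mul] at h2
    exact h2

theorem comm_cases (D : Data S c b) {t u : G} (ht : t ∈ S) (h4 : t ^ 4 = 1) (hu : u ∈ S)
    (hu4 : u ^ 4 = 1) : Commute t u := by
  obtain ⟨j, e, rfl⟩ := D.cover t ht h4
  obtain ⟨j', e', rfl⟩ := D.cover u hu hu4
  have h1 : Commute (c ^ j) (c ^ j') := Commute.pow_pow_self c j j'
  have h2 : Commute (c ^ j) (b ^ e') := D.commute.pow_pow j e'
  have h3 : Commute (b ^ e) (c ^ j') := (D.commute.pow_pow j' e).symm
  have h4 : Commute (b ^ e) (b ^ e') := Commute.pow_pow_self b e e'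
  exact Commute.mul_left (Commute.mul_right h1 h2) (Commute.mul_right h3 h4)

theorem omega (D : Data S c b) {Y : Subgroup G} (hY : Y ≤ S) {g : G}
    (hg : ∀ t ∈ Y, g * t * g⁻¹ ∈ Y) (hodd : Odd (orderOf g)) {y : G} (hy : y ∈ Y) (hy4 : y ^ 4 = 1)
    (hy2 : y ^ 2 ≠ 1) {x : G} (hx : x ∈ Y) (hx4 : x ^ 4 = 1) : g * x * g⁻¹ = x := by
  have hcop : Nat.Coprime 2 (orderOf g) := Nat.coprime_two_left.mpr hodd
  have hpow : ∀ (t : G) (n : ℕ), (g * t * g⁻¹) ^ n = g * t ^ n * g⁻¹ := fun t n => conj_pow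
  have hmul : ∀ s t : G, g * (s * t) * g⁻¹ = (g * s * g⁻¹) * (g * t * g⁻¹) := by
    intro s t; group
  have hinj : ∀ s t : G, g * s * g⁻¹ = g * t * g⁻¹ → s = t := by
    intro s t h
    exact mul_left_cancel (mul_right_cancel h)
  have hone : ∀ t : G, t ^ 4 = 1 → (g * t * g⁻¹) ^ 4 = 1 := by
    intro t h
    rw [hpow, h]
    group
  have hsq2 : g ^ 2 = g * g := pow_two g
  have hfin : ∀ t : G, g * (g * t * g⁻¹) * g⁻¹ = t → g * t * g⁻¹ = t := by
    intro t h
    have h1 : Commute (g ^ 2) t := by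
      show g ^ 2 * t = t * g ^ 2
      rw [hsq2]
      calc g * g * t = (g * (g * t * g⁻¹) * g⁻¹) * (g * g) := by group
        _ = t * (g * g) := by rw [h]
    have h2 := commute_of_coprime_pow hcop h1
    have h3 : g * t = t * g := h2
    rw [h3]
    group
  have hyz : y ^ 2 = c ^ 2 := (D.sq_cases (hY hy) hy4).resolve_left hy2
  have hσy : (g * y * g⁻¹) ^ 2 = c ^ 2 := by
    refine (D.sq_cases (hY (hg y hy)) (hone y hy4)).resolve_left ?_
    intro h
    rw [hpow] at h
    apply hy2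
    have : g * y ^ 2 * g⁻¹ = g * 1 * g⁻¹ := by rw [h]; group
    exact hinj _ _ this
  have hσz : g * c ^ 2 * g⁻¹ = c ^ 2 := by
    have h := hσy
    rw [hpow, hyz] at h
    exact h
  have hfixinv : ∀ u ∈ Y, u ^ 2 = 1 → g * u * g⁻¹ = u := by
    intro u hu hu2
    have hz2 : c ^ 2 * c ^ 2 = 1 := by
      rw [← pow_two]
      exact D.z_sq
    by_cases hu1 : u = 1
    · rw [hu1]; group
    by_cases huz : u = c ^ 2
    · rw [huz]; exact hσz
    have hσu2 : (g * u * g⁻¹) ^ 2 = 1 := by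
      rw [hpow, hu2]; group
    have hor : g * u * g⁻¹ = u ∨ g * u * g⁻¹ = c ^ 2 * u := by
      have hu' := (D.inv_cases (hY hu) hu2).resolve_left hu1 |>.resolve_left huz
      rcases D.inv_cases (hY (hg u hu)) hσu2 with h | h | h | h
      · exfalso
        apply hu1
        have : g * u * g⁻¹ = g * 1 * g⁻¹ := by rw [h]; group
        exact hinj _ _ this
      · exfalso
        apply huz
        rw [← hσz] at h
        exact hinj _ _ h
      · rcases hu' with hb | hb
        · left; rw [h, hb]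
        · right; rw [h, hb, ← mul_assoc, hz2, one_mul]
      · rcases hu' with hb | hb
        · right; rw [h, hb]
        · left; rw [h, hb]
    rcases hor with h | h
    · exact h
    · apply hfin
      rw [h, hmul, hσz, h, ← mul_assoc, hz2, one_mul]
  rcases D.sq_cases (hY hx) hx4 with h | h
  · exact hfixinv x hx h
  · apply hfin
    set w := g * x * g⁻¹ with hw
    have hwY : w ∈ Y := hg x hx
    have hw2 : w ^ 2 = c ^ 2 := by
      rw [hw, hpow, h, hσz]
    have hw4 : w ^ 4 = 1 := hone x hx4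
    have hcom : Commute x w := D.comm_cases (hY hx) hx4 (hY hwY) hw4
    have hr2 : (x⁻¹ * w) ^ 2 = 1 := by
      rw [(hcom.inv_left).mul_pow, inv_pow, h, hw2]
      group
    have hrY : x⁻¹ * w ∈ Y := Y.mul_mem (Y.inv_mem hx) hwY
    have hσr := hfixinv _ hrY hr2
    have hwr : w = x * (x⁻¹ * w) := by group
    calc g * w * g⁻¹ = g * (x * (x⁻¹ * w)) * g⁻¹ := by rw [← hwr]
      _ = w * (g * (x⁻¹ * w) * g⁻¹) := by rw [hmul]
      _ = w * (x⁻¹ * w) := by rw [hσr]
      _ = x := by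
        have h5 : w * (x⁻¹ * w) = x * (x⁻¹ * w) * (x⁻¹ * w) := by rw [← hwr]
        rw [h5, mul_assoc, ← pow_two, hr2, mul_one]

theorem fix_of_all_inv [Finite G] (T : Sylow 2 G) (D : Data (T : Subgroup G) c b) {Q : Subgroup G}
    (hQS : Q ≤ (T : Subgroup G)) (hQ2 : ∀ t ∈ Q, t ^ 2 = 1) (hz : c ^ 2 ∈ Q) (hb : b ∈ Q) {g : G}
    (hg : g ∈ Subgroup.normalizer (Q : Set G)) (hodd : Odd (orderOf g)) {x : G} (hx : x ∈ Q) :
    g * x * g⁻¹ = x := by
  have hQall : ∀ t ∈ Q, t = 1 ∨ t = c ^ 2 ∨ t = b ∨ t = c ^ 2 * b := fun t ht =>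
    D.inv_cases (hQS ht) (hQ2 t ht)
  have hcC : c ∈ Subgroup.centralizer (Q : Set G) := by
    rw [Subgroup.mem_centralizer_iff]
    intro t ht
    have hcb : Commute c b := D.commute
    rcases hQall t ht with rfl | rfl | rfl | rfl
    · group
    · exact (Commute.pow_self c 2).eq
    · exact hcb.symm.eq
    · exact ((Commute.pow_self c 2).mul_left hcb.symm).eq
  have hbC : b ∈ Subgroup.centralizer (Q : Set G) := by
    rw [Subgroup.mem_centralizer_iff]
    intro t ht
    have hcb : Commute b (c ^ 2) := (D.commute.pow_left 2).symm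
    rcases hQall t ht with rfl | rfl | rfl | rfl
    · group
    · exact hcb.symm.eq
    · rfl
    · exact (hcb.symm.mul_left (Commute.refl b)).eq
  have hzb : c ^ 2 * b ∈ Q := Q.mul_mem hz hb
  have hSH : (T : Subgroup G) ≤ Subgroup.normalizer (Q : Set G) := by
    intro s hs
    apply mem_normalizer_of_conj_mem
    intro t ht
    have h1 : (s * t * s⁻¹) ^ 2 = 1 := by
      rw [conj_pow, hQ2 t ht]; group
    have h2 : s * t * s⁻¹ ∈ (T : Subgroup G) :=
      Subgroup.mul_mem _ (Subgroup.mul_mem _ hs (hQS ht)) (Subgroup.inv_mem _ hs)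
    rcases D.inv_cases h2 h1 with h | h | h | h <;> rw [h]
    · exact Q.one_mem
    · exact hz
    · exact hb
    · exact hzb
  have hCH : Subgroup.centralizer (Q : Set G) ≤ Subgroup.normalizer (Q : Set G) := by
    intro s hs
    apply mem_normalizer_of_conj_mem
    intro t ht
    rw [Subgroup.mem_centralizer_iff] at hs
    rw [← hs t ht]
    simpa using ht
  have hCn : ∀ h ∈ Subgroup.normalizer (Q : Set G), ∀ y ∈ Subgroup.centralizer (Q : Set G),
      h * y * h⁻¹ ∈ Subgroup.centralizer (Q : Set G) := by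
    intro h hh y hy
    rw [Subgroup.mem_centralizer_iff] at hy ⊢
    intro t ht
    have h1 : h⁻¹ * t * h ∈ Q := by
      have := (Subgroup.mem_normalizer_iff.mp (Subgroup.inv_mem _ hh) t).mp ht
      simpa using this
    have h2 := hy _ h1
    calc t * (h * y * h⁻¹) = h * ((h⁻¹ * t * h) * y) * h⁻¹ := by group
      _ = h * (y * (h⁻¹ * t * h)) * h⁻¹ := by rw [h2]
      _ = h * y * h⁻¹ * t := by group
  obtain ⟨d, hd, hdg⟩ := frat T hSH hCH hCn hg
  set h := d * g with hh
  have ho : orderOf h ≠ 0 := (orderOf_pos h).ne'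
  obtain ⟨s, m, hm, hsm⟩ := Nat.exists_eq_pow_mul_and_not_dvd ho 2 (by norm_num)
  set h₁ := h ^ 2 ^ s with hh₁
  have hh₁o : Odd (orderOf h₁) := by
    have h1 : h₁ ^ m = 1 := by
      rw [hh₁, ← pow_mul, ← hsm, pow_orderOf_eq_one]
    have hodd2 : Odd m := Nat.not_even_iff_odd.mp (fun he => hm he.two_dvd)
    exact Odd.of_dvd_nat hodd2 (orderOf_dvd_of_pow_eq_one h1)
  have hh₁N : h₁ ∈ Subgroup.normalizer
      (((T : Subgroup G) ⊓ Subgroup.centralizer (Q : Set G) : Subgroup G) : Set G) :=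
    Subgroup.pow_mem _ hdg _
  have hY : (T : Subgroup G) ⊓ Subgroup.centralizer (Q : Set G) ≤ (T : Subgroup G) := inf_le_left
  have hgY : ∀ t ∈ (T : Subgroup G) ⊓ Subgroup.centralizer (Q : Set G),
      h₁ * t * h₁⁻¹ ∈ (T : Subgroup G) ⊓ Subgroup.centralizer (Q : Set G) := fun t ht =>
    (Subgroup.mem_normalizer_iff.mp hh₁N t).mp ht
  have hcY : c ∈ (T : Subgroup G) ⊓ Subgroup.centralizer (Q : Set G) := ⟨D.hc, hcC⟩
  have hbY : b ∈ (T : Subgroup G) ⊓ Subgroup.centralizer (Q : Set G) := ⟨D.hb, hbC⟩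
  have hzY : c ^ 2 ∈ (T : Subgroup G) ⊓ Subgroup.centralizer (Q : Set G) :=
    Subgroup.pow_mem _ hcY 2
  have hb4 : b ^ 4 = 1 := by rw [show 4 = 2 * 2 by norm_num, pow_mul, D.hb2, one_pow]
  have hz4 : (c ^ 2) ^ 4 = 1 := by
    rw [← pow_mul, show 2 * 4 = 4 * 2 by norm_num, pow_mul, D.hc4, one_pow]
  have h1z := D.omega hY hgY hh₁o hcY D.hc4 D.hc2 hzY hz4
  have h1b := D.omega hY hgY hh₁o hcY D.hc4 D.hc2 hbY hb4
  have h1t : ∀ t ∈ Q, h₁ * t * h₁⁻¹ = t := by
    intro t ht
    have hmul : ∀ s t : G, h₁ * (s * t) * h₁⁻¹ = (h₁ * s * h₁⁻¹) * (h₁ * t * h₁⁻¹) := by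
      intro s t; group
    rcases hQall t ht with rfl | rfl | rfl | rfl
    · group
    · exact h1z
    · exact h1b
    · rw [hmul, h1z, h1b]
  -- the action of `h` and of `g` agree on `Q`
  have hact : ∀ k : ℕ, ∀ t ∈ Q, h ^ k * t * (h ^ k)⁻¹ = g ^ k * t * (g ^ k)⁻¹ := by
    intro k
    induction k with
    | zero => intro t _; simp
    | succ k ih =>
      intro t ht
      have h2 : g * t * g⁻¹ ∈ Q := (Subgroup.mem_normalizer_iff.mp hg t).mp ht
      have h3 : h * t * h⁻¹ = g * t * g⁻¹ := by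
        have h4 := (Subgroup.mem_centralizer_iff.mp hd) _ h2
        rw [hh]
        calc d * g * t * (d * g)⁻¹ = d * (g * t * g⁻¹) * (d : G)⁻¹ := by group
          _ = (g * t * g⁻¹) * d * (d : G)⁻¹ := by rw [h4]
          _ = g * t * g⁻¹ := by group
      have h5 : h ^ (k + 1) * t * (h ^ (k + 1))⁻¹ = h ^ k * (h * t * h⁻¹) * (h ^ k)⁻¹ := by
        rw [pow_succ]; group
      have h6 : g ^ (k + 1) * t * (g ^ (k + 1))⁻¹ = g ^ k * (g * t * g⁻¹) * (g ^ k)⁻¹ := by
        rw [pow_succ]; group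
      rw [h5, h6, h3, ih _ h2]
  have hgs := hact (2 ^ s) x hx
  rw [← hh₁, h1t x hx] at hgs
  have hcom : Commute (g ^ 2 ^ s) x := by
    show g ^ 2 ^ s * x = x * g ^ 2 ^ s
    conv_rhs => rw [hgs]
    group
  have hcop : Nat.Coprime (2 ^ s) (orderOf g) :=
    Nat.Coprime.pow_left s (Nat.coprime_two_left.mpr hodd)
  have hf := commute_of_coprime_pow hcop hcom
  have h7 : g * x = x * g := hf
  rw [h7]
  group

end Data

/-- **Theorem.** If the elements `x` with `x⁴ = 1` of a Sylow `2`-subgroup of `G` form `⟨c⟩ × ⟨b⟩`,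
with `c` of order four and `b` an involution outside `⟨c⟩`, then `G` has a normal `2`-complement. -/
theorem hasNormalComplement_of_data [Finite G] {c b : G} (T : Sylow 2 G)
    (D : Data (T : Subgroup G) c b) : Cfsg.HasNormalPComplement 2 G := by
  classical
  haveI : Fact (Nat.Prime 2) := ⟨Nat.prime_two⟩
  refine hasNormalPComplement_of_hyp (frobeniusHyp_of_sylow T ?_)
  intro Q hQS g hg hc
  have hodd : Odd (orderOf g) := Nat.coprime_two_right.mp hc
  have hQ : IsPGroup 2 Q := T.isPGroup'.to_le hQS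
  have hc' : (orderOf (conjAut Q g hg)).Coprime 2 :=
    Nat.Coprime.coprime_dvd_left (orderOf_conjAut_dvd Q g hg) hc
  have hgY : ∀ t ∈ Q, g * t * g⁻¹ ∈ Q := fun t ht => (Subgroup.mem_normalizer_iff.mp hg t).mp ht
  have key : ∀ x ∈ Q, x ^ 4 = 1 → g * x * g⁻¹ = x := by
    intro x hx hx4
    by_cases hy : ∃ y ∈ Q, y ^ 4 = 1 ∧ y ^ 2 ≠ 1
    · obtain ⟨y, hy1, hy2, hy3⟩ := hy
      exact D.omega hQS hgY hodd hy1 hy2 hy3 hx hx4
    · push Not at hy
      have hQ2 : ∀ t ∈ Q, t ^ 2 = 1 := by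
        intro t ht
        obtain ⟨k, hk⟩ := IsPGroup.iff_orderOf.mp hQ ⟨t, ht⟩
        rw [Subgroup.orderOf_mk] at hk
        by_contra ht2
        have hk2 : 2 ≤ k := by
          by_contra hk3
          apply ht2
          have : orderOf t ∣ 2 := by
            rw [hk]
            exact pow_dvd_pow 2 (by omega : k ≤ 1) |>.trans (by norm_num)
          exact orderOf_dvd_iff_pow_eq_one.mp this
        obtain ⟨l, rfl⟩ : ∃ l, k = l + 2 := ⟨k - 2, by omega⟩
        have h1 : t ^ 2 ^ l ∈ Q := Subgroup.pow_mem _ ht _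
        have h2 : (t ^ 2 ^ l) ^ 4 = 1 := by
          rw [← pow_mul, show 2 ^ l * 4 = 2 ^ (l + 2) by ring, ← hk, pow_orderOf_eq_one]
        have h3 := hy _ h1 h2
        rw [← pow_mul, show 2 ^ l * 2 = 2 ^ (l + 1) by ring] at h3
        have h4 : orderOf t ∣ 2 ^ (l + 1) := orderOf_dvd_of_pow_eq_one h3
        rw [hk] at h4
        have := (Nat.pow_dvd_pow_iff_le_right (by norm_num : 1 < 2)).mp h4
        omega
      by_contra hne
      have hx2 := hQ2 x hx
      set u := g * x * g⁻¹ with hu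
      have huQ : u ∈ Q := hgY x hx
      have hu2 := hQ2 u huQ
      have hu1 : u ≠ 1 := by
        intro h
        apply hne
        have hx1 : x = 1 := by
          have : g * x * g⁻¹ = g * 1 * g⁻¹ := by rw [← hu, h]; group
          exact mul_left_cancel (mul_right_cancel this)
        rw [h, hx1]
      have hx1 : x ≠ 1 := by
        intro h
        apply hu1
        rw [hu, h]
        group
      have hzz : c ^ 2 * c ^ 2 = 1 := by
        rw [← pow_two]
        exact D.z_sq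
      have hbb : b * b = 1 := by
        rw [← pow_two]
        exact D.hb2
      have hzQbQ : c ^ 2 ∈ Q ∧ b ∈ Q := by
        have hx' := (D.inv_cases (hQS hx) hx2).resolve_left hx1
        have hu' := (D.inv_cases (hQS huQ) hu2).resolve_left hu1
        have hmul := Q.mul_mem hx huQ
        have e1 : c ^ 2 * (c ^ 2 * b) = b := by rw [← mul_assoc, hzz, one_mul]
        have e2 : b * (c ^ 2 * b) = c ^ 2 := by
          have hcb : Commute b (c ^ 2) := (D.commute.pow_left 2).symm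
          rw [← mul_assoc, hcb.eq, mul_assoc, hbb, mul_one]
        have e3 : c ^ 2 * b * (c ^ 2) = b := by
          have hcb : Commute b (c ^ 2) := (D.commute.pow_left 2).symm
          rw [mul_assoc, hcb.eq, ← mul_assoc, hzz, one_mul]
        have e4 : c ^ 2 * b * b = c ^ 2 := by rw [mul_assoc, hbb, mul_one]
        rcases hx' with h1 | h1 | h1 <;> rcases hu' with h2 | h2 | h2
        · exact absurd (by rw [h1, h2]) hne
        · rw [h1] at hx
          rw [h2] at huQ
          exact ⟨hx, huQ⟩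
        · rw [h1] at hx
          rw [h2] at huQ
          refine ⟨hx, ?_⟩
          have := Q.mul_mem hx huQ
          rwa [e1] at this
        · rw [h1] at hx
          rw [h2] at huQ
          exact ⟨huQ, hx⟩
        · exact absurd (by rw [h1, h2]) hne
        · rw [h1] at hx
          rw [h2] at huQ
          refine ⟨?_, hx⟩
          have := Q.mul_mem hx huQ
          rwa [e2] at this
        · rw [h1] at hx
          rw [h2] at huQ
          refine ⟨huQ, ?_⟩
          have := Q.mul_mem hx huQ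
          rwa [e3] at this
        · rw [h1] at hx
          rw [h2] at huQ
          refine ⟨?_, huQ⟩
          have := Q.mul_mem hx huQ
          rwa [e4] at this
        · exact absurd (by rw [h1, h2]) hne
      exact hne (D.fix_of_all_inv T hQS hQ2 hzQbQ.1 hzQbQ.2 hg hodd hx)
  have h1 : conjAut Q g hg = 1 := by
    refine Cfsg.Agent.Lib.PGroup.Critical.coprime_aut_eq_one_of_fixes hQ _ hc'
      (n := 4) (by norm_num) (by decide) ?_
    intro x hx
    apply Subtype.ext
    rw [conjAut_apply_coe]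
    refine key x x.2 ?_
    have := congrArg (fun y : Q => (y : G)) hx
    simpa using this
  rw [Subgroup.mem_centralizer_iff]
  intro q hq
  have h2 := congrArg (fun φ : MulAut Q => ((φ ⟨q, hq⟩ : Q) : G)) h1
  simp only [conjAut_apply_coe, MulAut.one_apply] at h2
  calc q * g = (g * q * g⁻¹) * g := by rw [h2]
    _ = g * q := by group

end Cfsg.Agent.Lib.Transfer.OmegaTwo
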