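import Mathlib
import Cfsg.Agent.Lib.PGroup.GTOdd
import Cfsg.Agent.Lib.Transfer.Basic
import Cfsg.Agent.Lib.Transfer.Frobenius
import Cfsg.Agent.Lib.Coprime.InvSylow
import Cfsg.Agent.Lib.Nilpotent.Elements
import Cfsg.Agent.Lib.PGroup.Basic
import Cfsg.Agent.Lib.Nilpotent.CN

/-!
# Groups with a nilpotent maximal subgroup (skeleton of Thompson's theorem)
-/

set_option autoImplicit false

universe u

namespace Cfsg.Agent.Lib.Transfer.NilpMax

open Subgroup Cfsg

section

variable {G : Type u} [Group G] [Finite G]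

theorem hnpc_of_isNilpotent {X : Type*} [Group X] [Finite X] [Group.IsNilpotent X] (p : ℕ)
    [Fact p.Prime] : HasNormalPComplement p X := by
  apply Cfsg.Agent.Lib.Transfer.Frobenius.hasNormalPComplement_of_hyp
  intro Q hQ g _ hc
  rw [mem_centralizer_iff]
  intro q hq
  obtain ⟨k, hk⟩ := IsPGroup.iff_orderOf.mp hQ ⟨q, hq⟩
  have hk' : orderOf q = p ^ k := by
    rw [← hk]
    exact (Subgroup.orderOf_mk q hq).symm
  have h1 : (orderOf q).Coprime (orderOf g) := by
    rw [hk']
    exact (Nat.Coprime.pow_right k hc).symm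
  exact (Cfsg.Agent.Lib.Nilpotent.Elements.commute_of_coprime_orderOf h1).eq

theorem normalizer_eq {M D : Subgroup G} (hmax : IsCoatom M) (hcore : M.normalCore = ⊥)
    (hD : D ≠ ⊥) (hDM : D ≤ M) (hN : M ≤ normalizer (D : Set G)) :
    normalizer (D : Set G) = M := by
  by_contra hne
  have h1 := hmax.2 _ (lt_of_le_of_ne hN (Ne.symm hne))
  haveI : D.Normal := normalizer_eq_top_iff.mp h1
  have h2 : D ≤ M.normalCore := normal_le_normalCore.mpr hDM
  rw [hcore] at h2
  exact hD (le_bot_iff.mp h2)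

theorem exists_sylow_of_nilp {M : Subgroup G} (hmax : IsCoatom M) (hcore : M.normalCore = ⊥)
    (hnil : Group.IsNilpotent M) (p : ℕ) [Fact p.Prime] (hp : p ∣ Nat.card M) :
    ∃ S : Sylow p G, (S : Subgroup G) ≤ M ∧ M ≤ normalizer ((S : Subgroup G) : Set G) ∧
      (S : Subgroup G) ≠ ⊥ := by
  classical
  let P : Sylow p M := default
  set D : Subgroup G := (P : Subgroup M).map M.subtype with hDdef
  have hDp : IsPGroup p D := P.isPGroup'.map _
  have hDM : D ≤ M := map_subtype_le _
  haveI hPn : (P : Subgroup M).Normal := inferInstance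
  have hDne : D ≠ ⊥ := by
    intro h
    have h1 : (P : Subgroup M) = ⊥ := (Subgroup.map_eq_bot_iff_of_injective _ M.subtype_injective).mp h
    exact P.ne_bot_of_dvd_card hp h1
  have hMN : M ≤ normalizer (D : Set G) := by
    intro m hm
    rw [mem_normalizer_iff]
    intro x
    have key : ∀ (m : G) (hm : m ∈ M) (x : G), x ∈ D → m * x * m⁻¹ ∈ D := by
      rintro m hm _ ⟨y, hy, rfl⟩
      exact ⟨⟨m, hm⟩ * y * ⟨m, hm⟩⁻¹, hPn.conj_mem y hy ⟨m, hm⟩, rfl⟩
    refine ⟨key m hm x, fun h => ?_⟩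
    have := key m⁻¹ (M.inv_mem hm) _ h
    simpa [mul_assoc] using this
  obtain ⟨S, hDS⟩ := hDp.exists_le_sylow
  have hDeq : D = S := by
    by_contra hne
    obtain ⟨x, hxS, hxD, hxN⟩ :=
      Cfsg.Agent.Lib.PGroup.Basic.exists_mem_normalizer_of_lt S.isPGroup' (lt_of_le_of_ne hDS hne)
    have hN := normalizer_eq hmax hcore hDne hDM hMN
    have hxM : x ∈ M := by rw [← hN]; exact hxN
    have h1 : (P : Subgroup M) ≤ (S : Subgroup G).subgroupOf M := by
      intro y hy
      exact hDS ⟨y, hy, rfl⟩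
    have h2 : IsPGroup p ((S : Subgroup G).subgroupOf M) := by
      refine IsPGroup.to_le ?_ (le_refl _)
      intro y
      obtain ⟨k, hk⟩ := (S.isPGroup') ⟨y.1.1, Subgroup.mem_subgroupOf.mp y.2⟩
      refine ⟨k, ?_⟩
      ext
      simpa using congrArg Subtype.val hk
    have h3 := P.is_maximal' h2 h1
    apply hxD
    have h4 : (⟨x, hxM⟩ : M) ∈ (S : Subgroup G).subgroupOf M := hxS
    rw [h3] at h4
    exact ⟨⟨x, hxM⟩, h4, rfl⟩
  refine ⟨S, ?_, ?_, ?_⟩
  · rw [← hDeq]; exact hDM
  · rw [← hDeq]; exact hMN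
  · rw [← hDeq]; exact hDne

theorem hnpc_of_odd {M : Subgroup G} (hmax : IsCoatom M) (hcore : M.normalCore = ⊥)
    (hnil : Group.IsNilpotent M) (p : ℕ) [Fact p.Prime] (hp2 : p ≠ 2) (hp : p ∣ Nat.card M) :
    HasNormalPComplement p G := by
  classical
  obtain ⟨S, hSM, hMN, hSne⟩ := exists_sylow_of_nilp hmax hcore hnil p hp
  have hZ : Cfsg.Agent.Lib.PGroup.ZJ.ZZ 0 (S : Subgroup G) ≠ ⊥ :=
    Cfsg.Agent.Lib.PGroup.ZJControl.ZZ_ne_bot (Or.inl rfl) S.isPGroup' hSne
  have hZM : Cfsg.Agent.Lib.PGroup.ZJ.ZZ 0 (S : Subgroup G) ≤ M :=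
    (Cfsg.Agent.Lib.PGroup.ZJ.ZZ_le_self _ _).trans hSM
  have hMN' : M ≤ normalizer (Cfsg.Agent.Lib.PGroup.ZJ.ZZ 0 (S : Subgroup G) : Set G) := by
    apply Cfsg.Agent.Lib.Coprime.InvSylow.le_normalizer_of_forall_conj_mem
    intro m hm x hx
    apply Cfsg.Agent.Lib.PGroup.ZJ.conj_mem_ZZ _ hx
    intro y hy
    exact (mem_normalizer_iff.mp (hMN hm) y).mp hy
  have hN := normalizer_eq hmax hcore hZ hZM hMN'
  apply Cfsg.Agent.Lib.PGroup.GTOdd.hnpc_of_normalizer_ZZ (k := 0) hp2 (Or.inl rfl) S (S : Subgroup G)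
    ⟨le_rfl, fun x hx g hg => hg⟩
  rw [hN]
  exact hnpc_of_isNilpotent p

/-- If `G` has a normal `p`-complement for every prime `p` dividing the order of the maximal
nilpotent subgroup `M` (with trivial core) then `G` is solvable. -/
theorem solvable_of_hnpc {M : Subgroup G} (hmax : IsCoatom M) (hcore : M.normalCore = ⊥)
    (hnil : Group.IsNilpotent M)
    (h : ∀ p : ℕ, ∀ _ : Fact p.Prime, p ∣ Nat.card M → HasNormalPComplement p G) :
    Group.IsSolvable G := by
  classical
  let N : Subgroup G := ⨅ p ∈ (Nat.card M).primeFactors, Cfsg.pResidual p G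
  have hmemN : ∀ x : G, x ∈ N ↔ ∀ p : ℕ, p.Prime → p ∣ Nat.card M → (orderOf x).Coprime p := by
    intro x
    simp only [N, Subgroup.mem_iInf]
    constructor
    · intro hx p hp hd
      haveI : Fact p.Prime := ⟨hp⟩
      have h1 := hx p (Nat.mem_primeFactors.mpr ⟨hp, hd, Nat.card_pos.ne'⟩)
      haveI := Cfsg.Agent.Lib.Transfer.Basic.pResidual_normal p G
      exact (Cfsg.Agent.Lib.Transfer.Basic.mem_iff_coprime_of_normal (Cfsg.pResidual p G)
        (Cfsg.Agent.Lib.Transfer.Basic.hasNormalPComplement_iff_pResidual.mp (h p ⟨hp⟩ hd))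
        Cfsg.Agent.Lib.Transfer.Basic.isPGroup_quotient_pResidual x).mp h1
    · intro hx p hp
      have hp' := Nat.mem_primeFactors.mp hp
      haveI : Fact p.Prime := ⟨hp'.1⟩
      haveI := Cfsg.Agent.Lib.Transfer.Basic.pResidual_normal p G
      exact (Cfsg.Agent.Lib.Transfer.Basic.mem_iff_coprime_of_normal (Cfsg.pResidual p G)
        (Cfsg.Agent.Lib.Transfer.Basic.hasNormalPComplement_iff_pResidual.mp (h p ⟨hp'.1⟩ hp'.2.1))
        Cfsg.Agent.Lib.Transfer.Basic.isPGroup_quotient_pResidual x).mpr (hx p hp'.1 hp'.2.1)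
  haveI hNn : N.Normal := by
    constructor
    intro x hx g
    simp only [N, Subgroup.mem_iInf] at hx ⊢
    intro p hp
    haveI := Cfsg.Agent.Lib.Transfer.Basic.pResidual_normal p G
    exact Subgroup.Normal.conj_mem inferInstance x (hx p hp) g
  have hcop : (Nat.card M).Coprime (Nat.card N) := by
    apply Nat.coprime_of_dvd
    intro q hq hq1 hq2
    haveI : Fact q.Prime := ⟨hq⟩
    obtain ⟨x, hx⟩ := exists_prime_orderOf_dvd_card' q hq2
    have h1 := (hmemN x).mp x.2 q hq hq1
    rw [Subgroup.orderOf_coe, hx] at h1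
    exact hq.one_lt.ne' (Nat.coprime_self q |>.mp h1)
  have hinf : ∀ x ∈ N, x ∈ M → x = 1 := by
    intro x hxN hxM
    have h1 : orderOf x ∣ Nat.card M := by
      have := orderOf_dvd_natCard (⟨x, hxM⟩ : M)
      simpa using this
    have h2 : (orderOf x).Coprime (Nat.card M) := by
      apply Nat.Coprime.symm
      apply Nat.coprime_of_dvd
      intro q hq hq1 hq2
      have h3 := (hmemN x).mp hxN q hq hq1
      exact hq.one_lt.ne' (Nat.eq_one_of_dvd_coprimes h3 hq2 dvd_rfl)
    have h3 := Nat.eq_one_of_dvd_coprimes h2 dvd_rfl h1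
    exact orderOf_eq_one_iff.mp h3
  -- a prime dividing the index
  have hidx : M.index ≠ 1 := by
    intro h1
    exact hmax.1 (Subgroup.index_eq_one.mp h1)
  obtain ⟨r, hr, hrd⟩ := Nat.exists_prime_and_dvd hidx
  haveI hrf : Fact r.Prime := ⟨hr⟩
  have hrM : ¬ r ∣ Nat.card M := by
    intro hrM
    obtain ⟨S, hSM, _, _⟩ := exists_sylow_of_nilp hmax hcore hnil r hrM
    exact S.not_dvd_index (hrd.trans (Subgroup.index_dvd_of_le hSM))
  have hrG : r ∣ Nat.card G := hrd.trans (Subgroup.index_dvd_card M)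
  have hrN : r ∣ Nat.card N := by
    obtain ⟨x, hx⟩ := exists_prime_orderOf_dvd_card' r hrG
    have hxN : x ∈ N := by
      rw [hmemN]
      intro p hp hd
      rw [hx]
      refine (Nat.coprime_primes hr hp).mpr ?_
      rintro rfl
      exact hrM hd
    have := orderOf_dvd_natCard (⟨x, hxN⟩ : N)
    rwa [Subgroup.orderOf_mk, hx] at this
  obtain ⟨Q, hQ⟩ := Cfsg.Agent.Lib.Coprime.InvSylow.exists_invariant_sylow (A := M) (K := N)
    (by rw [Subgroup.normalizer_eq_top_iff.mpr hNn]; exact le_top) hcop (Or.inl inferInstance) r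
  set Q' : Subgroup G := (Q : Subgroup N).map N.subtype with hQ'
  have hQne : Q' ≠ ⊥ := by
    intro h1
    have h2 : (Q : Subgroup N) = ⊥ := (Subgroup.map_eq_bot_iff_of_injective _ N.subtype_injective).mp h1
    exact Q.ne_bot_of_dvd_card hrN h2
  have hQN : Q' ≤ N := map_subtype_le _
  have hQnM : ¬ Q' ≤ M := by
    intro h1
    apply hQne
    rw [eq_bot_iff]
    intro x hx
    exact hinf x (hQN hx) (h1 hx)
  have hsup : Q' ⊔ M = ⊤ := by
    apply hmax.2
    refine lt_of_le_of_ne le_sup_right ?_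
    intro h1
    exact hQnM (h1 ▸ le_sup_left)
  haveI hQn : Q'.Normal := by
    rw [← Subgroup.normalizer_eq_top_iff, eq_top_iff, ← hsup]
    exact sup_le Subgroup.le_normalizer hQ
  have hQp : IsPGroup r Q' := Q.isPGroup'.map _
  haveI : Group.IsNilpotent Q' := hQp.isNilpotent
  haveI : Group.IsSolvable Q' := inferInstance
  haveI : Group.IsSolvable (G ⧸ Q') := by
    apply Group.isSolvable_of_surjective (f := (QuotientGroup.mk' Q').comp M.subtype)
    intro w
    induction w using QuotientGroup.induction_on with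
    | H g =>
      have hg : g ∈ Q' ⊔ M := by rw [hsup]; trivial
      obtain ⟨q, hq, m, hm, rfl⟩ := Subgroup.mem_sup_of_normal_left.mp hg
      refine ⟨⟨m, hm⟩, ?_⟩
      show ((m : G) : G ⧸ Q') = ((q * m : G) : G ⧸ Q')
      rw [QuotientGroup.mk_mul, (QuotientGroup.eq_one_iff q).mpr hq, one_mul]
  exact Group.isSolvable_of_ker_le_range Q'.subtype (QuotientGroup.mk' Q') (by
    rw [QuotientGroup.ker_mk', Subgroup.range_subtype])

/-- Reduction to trivial core. -/
theorem solvable_of_core (P : ∀ (G : Type u) [Group G] [Finite G] (M : Subgroup G), Prop)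
    (hPq : ∀ (G : Type u) [Group G] [Finite G] (M : Subgroup G) (N : Subgroup G) [N.Normal], N ≤ M →
      P G M → P (G ⧸ N) (M.map (QuotientGroup.mk' N)))
    (hP1 : ∀ (G : Type u) [Group G] [Finite G] (M : Subgroup G), P G M → Group.IsNilpotent M)
    (hmain : ∀ (G : Type u) [Group G] [Finite G] (M : Subgroup G), IsCoatom M → M.normalCore = ⊥ →
      P G M → Group.IsSolvable G) :
    ∀ (n : ℕ) (G : Type u) [Group G] [Finite G] (M : Subgroup G), Nat.card G = n → IsCoatom M →
      P G M → Group.IsSolvable G := by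
  intro n
  induction n using Nat.strong_induction_on with
  | _ n ih =>
    intro G _ _ M hn hmax hP
    classical
    by_cases hC : M.normalCore = ⊥
    · exact hmain G M hmax hC hP
    · set C : Subgroup G := M.normalCore with hCdef
      haveI : C.Normal := Subgroup.normalCore_normal M
      have hCM : C ≤ M := Subgroup.normalCore_le M
      have hcard : Nat.card (G ⧸ C) < n := by
        rw [← hn, ← Subgroup.index_eq_card]
        have h1 := C.card_mul_index
        have h2 : 1 < Nat.card C := by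
          rw [Subgroup.one_lt_card_iff_ne_bot]
          exact hC
        have h3 : 0 < C.index := Nat.pos_of_ne_zero Subgroup.index_ne_zero_of_finite
        rw [← h1]
        nlinarith
      have hM' : IsCoatom (M.map (QuotientGroup.mk' C)) := by
        constructor
        · intro h1
          apply hmax.1
          rw [eq_top_iff]
          intro g _
          have h2 : (QuotientGroup.mk' C g) ∈ M.map (QuotientGroup.mk' C) := by rw [h1]; trivial
          obtain ⟨m, hm, hme⟩ := h2
          have h3 : m⁻¹ * g ∈ C := QuotientGroup.eq.mp hme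
          have h4 : g = m * (m⁻¹ * g) := by group
          rw [h4]
          exact M.mul_mem hm (hCM h3)
        · intro X hX
          have h1 : M < X.comap (QuotientGroup.mk' C) := by
            obtain ⟨w, hwX, hwM⟩ := SetLike.exists_of_lt hX
            obtain ⟨g, rfl⟩ := QuotientGroup.mk'_surjective C w
            refine lt_of_le_of_ne ?_ ?_
            · intro m hm
              exact hX.le ⟨m, hm, rfl⟩
            · intro h2
              have h3 : g ∈ X.comap (QuotientGroup.mk' C) := hwX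
              rw [← h2] at h3
              exact hwM ⟨g, h3, rfl⟩
          have h2 := hmax.2 _ h1
          rw [eq_top_iff]
          intro w _
          obtain ⟨g, rfl⟩ := QuotientGroup.mk'_surjective C w
          have h3 : g ∈ X.comap (QuotientGroup.mk' C) := by rw [h2]; trivial
          exact h3
      haveI hsol := ih _ hcard (G ⧸ C) (M.map (QuotientGroup.mk' C)) rfl hM' (hPq G M C hCM hP)
      haveI hnil := hP1 G M hP
      haveI hCs : Group.IsSolvable C := by
        have hinj : Function.Injective (Subgroup.inclusion hCM) := Subgroup.inclusion_injective hCM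
        exact Group.isSolvable_of_isSolvable_injective hinj
      exact Group.isSolvable_of_ker_le_range C.subtype (QuotientGroup.mk' C) (by
        rw [QuotientGroup.ker_mk', Subgroup.range_subtype])

end

end Cfsg.Agent.Lib.Transfer.NilpMax

namespace Cfsg.Agent.Lib.Transfer.NilpMax

open Subgroup Cfsg

section WeakClosure

variable {X : Type*} [Group X] [Finite X] {p : ℕ} [hp : Fact p.Prime]

/-- **Weak closure and nilpotent centralizer**: a weakly closed element of the centre of a
Sylow subgroup, with nilpotent centralizer, forces the Frobenius condition. -/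
theorem frob_of_weaklyClosed (T : Sylow p X) (z : X)
    (hzT : z ∈ (T : Subgroup X)) (hz : ∀ t ∈ (T : Subgroup X), t * z = z * t)
    (hw : ∀ g : X, g * z * g⁻¹ ∈ (T : Subgroup X) → g * z * g⁻¹ = z)
    (hC : Group.IsNilpotent (centralizer ({z} : Set X))) :
    Cfsg.Agent.Lib.Transfer.Frobenius.FrobeniusHyp p X := by
  classical
  intro Q hQ g hgN hg
  set D : Subgroup X := centralizer (Q : Set X) with hD
  let W : Sylow p D := default
  set W₀ : Subgroup X := (W : Subgroup D).map D.subtype with hW₀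
  have hW₀D : W₀ ≤ D := map_subtype_le _
  have hW₀p : IsPGroup p W₀ := W.isPGroup'.map _
  let V : Subgroup X := W₀.map (MulAut.conj g).toMonoidHom
  have hVD : V ≤ D := by
    rintro _ ⟨x, hx, rfl⟩
    rw [hD, mem_centralizer_iff]
    intro q hq
    have h1 : g⁻¹ * q * g ∈ Q := by
      have := (mem_normalizer_iff.mp ((normalizer (Q : Set X)).inv_mem hgN) q).mp hq
      simpa using this
    have h2 := mem_centralizer_iff.mp (hW₀D hx) _ h1
    show q * (g * x * g⁻¹) = (g * x * g⁻¹) * q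
    calc q * (g * x * g⁻¹) = g * ((g⁻¹ * q * g) * x) * g⁻¹ := by group
      _ = g * (x * (g⁻¹ * q * g)) * g⁻¹ := by rw [h2]
      _ = (g * x * g⁻¹) * q := by group
  have hcardV : Nat.card (V.subgroupOf D) = p ^ (Nat.card D).factorization p := by
    rw [Nat.card_congr (Subgroup.subgroupOfEquivOfLe hVD).toEquiv,
      Subgroup.card_map_of_injective (MulEquiv.injective _),
      Subgroup.card_map_of_injective D.subtype_injective]
    exact W.card_eq_multiplicity
  obtain ⟨d, hd⟩ := MulAction.exists_smul_eq D (Sylow.ofCard _ hcardV) W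
  have hdV : ∀ x ∈ W₀, (d : X) * (g * x * g⁻¹) * (d : X)⁻¹ ∈ W₀ := by
    intro x hx
    have h0 : g * x * g⁻¹ ∈ V := ⟨x, hx, rfl⟩
    have h1 : (d * ⟨g * x * g⁻¹, hVD h0⟩ * d⁻¹ : D) ∈ (W : Subgroup D) := by
      rw [← hd, Sylow.coe_subgroup_smul, Sylow.coe_ofCard]
      exact ⟨⟨g * x * g⁻¹, hVD h0⟩, h0, rfl⟩
    exact ⟨_, h1, rfl⟩
  set h : X := (d : X) * g with hh
  have hhV : ∀ x ∈ W₀, h * x * h⁻¹ ∈ W₀ := by
    intro x hx
    have := hdV x hx
    have e : h * x * h⁻¹ = (d : X) * (g * x * g⁻¹) * (d : X)⁻¹ := by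
      rw [hh]; group
    rw [e]; exact this
  -- a Sylow subgroup containing `Q` and `W₀`
  have hB : IsPGroup p ↥(Q ⊔ W₀) := by
    refine IsPGroup.to_sup_of_normal_right' hQ hW₀p ?_
    intro q hq
    rw [mem_normalizer_iff]
    intro x
    have hcomm : ∀ x ∈ W₀, q * x * q⁻¹ = x := by
      intro x hx
      have h2 := mem_centralizer_iff.mp (hW₀D hx) q hq
      rw [h2]; group
    constructor
    · intro hx
      rw [hcomm x hx]; exact hx
    · intro hx
      have h3 := hcomm _ hx
      have e : x = q * x * q⁻¹ := by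
        have h4 : (q * x * q⁻¹) = q * x * q⁻¹ := rfl
        have h5 := hcomm _ hx
        have h6 : q * (q * x * q⁻¹) * q⁻¹ = q * x * q⁻¹ := h5
        have h7 : q⁻¹ * (q * (q * x * q⁻¹) * q⁻¹) * q = q⁻¹ * (q * x * q⁻¹) * q := by rw [h6]
        have h8 : q⁻¹ * (q * (q * x * q⁻¹) * q⁻¹) * q = q * x * q⁻¹ := by group
        have h9 : q⁻¹ * (q * x * q⁻¹) * q = x := by group
        rw [h8, h9] at h7
        exact h7.symm
      rw [e]; exact hx
  obtain ⟨T', hT'⟩ := hB.exists_le_sylow
  have hQT' : Q ≤ T' := le_sup_left.trans hT'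
  have hW₀T' : W₀ ≤ T' := le_sup_right.trans hT'
  obtain ⟨y, hy⟩ := MulAction.exists_smul_eq X T T'
  set z' : X := y * z * y⁻¹ with hz'
  have hmemT' : ∀ x, x ∈ (T' : Subgroup X) ↔ y⁻¹ * x * y ∈ (T : Subgroup X) := by
    intro x
    rw [← hy, Sylow.coe_subgroup_smul]
    constructor
    · rintro ⟨w, hw', rfl⟩
      show y⁻¹ * (y * w * y⁻¹) * y ∈ (T : Subgroup X)
      have e : y⁻¹ * (y * w * y⁻¹) * y = w := by group
      rw [e]; exact hw'
    · intro hx
      exact ⟨_, hx, by simp [mul_assoc]⟩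
  have hz'T' : z' ∈ (T' : Subgroup X) := by
    rw [hmemT', hz']
    simpa [mul_assoc] using hzT
  have hz'c : ∀ t ∈ (T' : Subgroup X), t * z' = z' * t := by
    intro t ht
    have h1 := hz _ ((hmemT' t).mp ht)
    calc t * z' = y * ((y⁻¹ * t * y) * z) * y⁻¹ := by rw [hz']; group
      _ = y * (z * (y⁻¹ * t * y)) * y⁻¹ := by rw [h1]
      _ = z' * t := by rw [hz']; group
  have hz'w : ∀ u : X, u * z' * u⁻¹ ∈ (T' : Subgroup X) → u * z' * u⁻¹ = z' := by
    intro u hu
    have h1 := (hmemT' _).mp hu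
    have e : y⁻¹ * (u * z' * u⁻¹) * y = (y⁻¹ * u * y) * z * (y⁻¹ * u * y)⁻¹ := by
      rw [hz']; group
    rw [e] at h1
    have h2 := hw _ h1
    have e2 : u * z' * u⁻¹ = y * ((y⁻¹ * u * y) * z * (y⁻¹ * u * y)⁻¹) * y⁻¹ := by
      rw [hz']; group
    rw [e2, h2]
  have hCz' : centralizer ({z'} : Set X) =
      (centralizer ({z} : Set X)).map (MulAut.conj y).toMonoidHom := by
    ext c
    rw [Subgroup.mem_centralizer_singleton_iff]
    constructor
    · intro hc
      refine ⟨y⁻¹ * c * y, ?_, by simp [mul_assoc]⟩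
      rw [SetLike.mem_coe, Subgroup.mem_centralizer_singleton_iff]
      have e : y⁻¹ * c * y * z = y⁻¹ * (c * z') * y := by rw [hz']; group
      rw [e, hc, hz']; group
    · rintro ⟨c', hc', rfl⟩
      rw [SetLike.mem_coe, Subgroup.mem_centralizer_singleton_iff] at hc'
      show y * c' * y⁻¹ * z' = z' * (y * c' * y⁻¹)
      rw [hz']
      calc y * c' * y⁻¹ * (y * z * y⁻¹) = y * (c' * z) * y⁻¹ := by group
        _ = y * (z * c') * y⁻¹ := by rw [hc']
        _ = y * z * y⁻¹ * (y * c' * y⁻¹) := by group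
  have hCn : Group.IsNilpotent (centralizer ({z'} : Set X)) := by
    rw [hCz']
    exact Cfsg.Agent.Lib.Nilpotent.CN.isNilpotent_map_conj hC y
  -- `z'` lies in `W₀`
  have hz'D : z' ∈ D := by
    rw [hD, mem_centralizer_iff]
    intro q hq
    exact hz'c q (hQT' hq)
  have hz'W : z' ∈ W₀ := by
    have h1 : IsPGroup p ((T' : Subgroup X).subgroupOf D) := T'.2.comap_subtype
    have h2 : (W : Subgroup D) ≤ (T' : Subgroup X).subgroupOf D := by
      intro x hx
      exact hW₀T' ⟨x, hx, rfl⟩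
    have h3 := W.is_maximal' h1 h2
    have h4 : (⟨z', hz'D⟩ : D) ∈ (T' : Subgroup X).subgroupOf D := hz'T'
    rw [h3] at h4
    exact ⟨_, h4, rfl⟩
  have hhz : h * z' * h⁻¹ = z' := hz'w h (hW₀T' (hhV z' hz'W))
  -- `h` lies in the nilpotent centralizer
  have hhC : h ∈ centralizer ({z'} : Set X) := by
    rw [Subgroup.mem_centralizer_singleton_iff]
    calc h * z' = (h * z' * h⁻¹) * h := by group
      _ = z' * h := by rw [hhz]
  have hQC : ∀ q ∈ Q, q ∈ centralizer ({z'} : Set X) := by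
    intro q hq
    rw [Subgroup.mem_centralizer_singleton_iff]
    exact hz'c q (hQT' hq)
  obtain ⟨a, b, hab, hc, hazp, hbzp, ⟨k, hk⟩, hb⟩ := Cfsg.Agent.Lib.Transfer.Basic.exists_pPart_decomp (p := p) h
  have haC : a ∈ centralizer ({z'} : Set X) := by
    have := (Subgroup.zpowers_le.mpr hhC) hazp
    exact this
  have hbC : b ∈ centralizer ({z'} : Set X) := (Subgroup.zpowers_le.mpr hhC) hbzp
  have hbQ : ∀ q ∈ Q, b * q = q * b := by
    intro q hq
    obtain ⟨j, hj⟩ := IsPGroup.iff_orderOf.mp hQ ⟨q, hq⟩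
    have hj' : orderOf q = p ^ j := by
      rw [← hj]
      exact (Subgroup.orderOf_mk q hq).symm
    have h1 : (orderOf (⟨b, hbC⟩ : centralizer ({z'} : Set X))).Coprime
        (orderOf (⟨q, hQC q hq⟩ : centralizer ({z'} : Set X))) := by
      rw [Subgroup.orderOf_mk, Subgroup.orderOf_mk, hj']
      exact Nat.Coprime.pow_right j hb
    have h2 := Cfsg.Agent.Lib.Nilpotent.Elements.commute_of_coprime_orderOf h1
    exact congrArg Subtype.val h2.eq
  have hdQ : ∀ q ∈ Q, (d : X) * q = q * (d : X) := by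
    intro q hq
    exact (mem_centralizer_iff.mp d.2 q hq).symm
  have hconjg : ∀ q ∈ Q, g * q * g⁻¹ ∈ Q := fun q hq => (mem_normalizer_iff.mp hgN q).mp hq
  -- `g` acts on `Q` as `a`
  have hga : ∀ q ∈ Q, g * q * g⁻¹ = a * q * a⁻¹ := by
    intro q hq
    have h1 : h * q * h⁻¹ = g * q * g⁻¹ := by
      have h2 := hdQ _ (hconjg q hq)
      calc h * q * h⁻¹ = ((d : X) * (g * q * g⁻¹)) * (d : X)⁻¹ := by rw [hh]; group
        _ = ((g * q * g⁻¹) * (d : X)) * (d : X)⁻¹ := by rw [h2]
        _ = g * q * g⁻¹ := by group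
    rw [← h1, ← hab]
    have h3 := hbQ q hq
    calc a * b * q * (a * b)⁻¹ = a * (b * q) * b⁻¹ * a⁻¹ := by group
      _ = a * (q * b) * b⁻¹ * a⁻¹ := by rw [h3]
      _ = a * q * a⁻¹ := by group
  have hgan : ∀ n : ℕ, ∀ q ∈ Q, g ^ n * q * (g ^ n)⁻¹ = a ^ n * q * (a ^ n)⁻¹ := by
    intro n
    induction n with
    | zero => intro q _; simp
    | succ n ih =>
      intro q hq
      have h1 := hga q hq
      have h2 := ih _ (hconjg q hq)
      rw [pow_succ g, pow_succ a]
      calc g ^ n * g * q * (g ^ n * g)⁻¹ = g ^ n * (g * q * g⁻¹) * (g ^ n)⁻¹ := by group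
        _ = a ^ n * (g * q * g⁻¹) * (a ^ n)⁻¹ := h2
        _ = a ^ n * (a * q * a⁻¹) * (a ^ n)⁻¹ := by rw [h1]
        _ = a ^ n * a * q * (a ^ n * a)⁻¹ := by group
  -- conclude
  rw [mem_centralizer_iff]
  intro q hq
  have h0 := hgan (orderOf g) q hq
  rw [pow_orderOf_eq_one] at h0
  simp only [one_mul, inv_one, mul_one] at h0
  have hac : a ^ orderOf g * q = q * a ^ orderOf g := by
    calc a ^ orderOf g * q = (a ^ orderOf g * q * (a ^ orderOf g)⁻¹) * a ^ orderOf g := by group
      _ = q * a ^ orderOf g := by rw [← h0]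
  -- `a` is a power of `a ^ m`
  have hcop : (orderOf g).Coprime (orderOf a) := by
    rw [hk]
    exact Nat.Coprime.pow_right k hg
  have hgcd := Nat.gcd_eq_gcd_ab (orderOf g) (orderOf a)
  have e : a = (a ^ orderOf g) ^ (Nat.gcdA (orderOf g) (orderOf a)) := by
    have h1 : a ^ ((Nat.gcd (orderOf g) (orderOf a) : ℕ) : ℤ) = a := by
      rw [hcop.gcd_eq_one]; simp
    rw [hgcd, zpow_add, zpow_mul, zpow_mul, zpow_natCast, zpow_natCast, pow_orderOf_eq_one, one_zpow,
      mul_one] at h1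
    exact h1.symm
  have hcomm : Commute a q := by
    rw [e]
    exact Commute.zpow_left hac _
  have h1 := hga q hq
  have h2 : a * q * a⁻¹ = q := by
    rw [hcomm.eq]; group
  rw [h2] at h1
  calc q * g = (g * q * g⁻¹) * g := by rw [h1]
    _ = g * q := by group

end WeakClosure

section ClassTwo

variable {G : Type u} [Group G] [Finite G]

/-- The class two condition on `M`, elementwise. -/
def ClassTwoOn {X : Type*} [Group X] (M : Subgroup X) : Prop :=
  ∀ x ∈ M, ∀ y ∈ M, ∀ w ∈ M, (x * y * x⁻¹ * y⁻¹) * w = w * (x * y * x⁻¹ * y⁻¹)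

theorem ClassTwoOn.map {X Y : Type*} [Group X] [Group Y] {M : Subgroup X} (h : ClassTwoOn M)
    (φ : X →* Y) : ClassTwoOn (M.map φ) := by
  rintro _ ⟨x, hx, rfl⟩ _ ⟨y, hy, rfl⟩ _ ⟨w, hw, rfl⟩
  have := congrArg φ (h x hx y hy w hw)
  simpa only [map_mul, map_inv] using this

theorem norm_step {M S S₀ : Subgroup G} (hSM : S ≤ M) (hn : ∀ m ∈ M, ∀ s ∈ S, m * s * m⁻¹ ∈ S)
    (hcl : ClassTwoOn M) (h0 : S₀ ≤ S) (hZ : ∀ w ∈ S, (∀ s ∈ S, w * s = s * w) → w ∈ S₀) :
    ∀ m ∈ M, ∀ s ∈ S₀, m * s * m⁻¹ ∈ S₀ := by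
  intro m hm s hs
  have hsS := h0 hs
  have hsM := hSM hsS
  have hcS : m * s * m⁻¹ * s⁻¹ ∈ S := S.mul_mem (hn m hm s hsS) (S.inv_mem hsS)
  have hc0 : m * s * m⁻¹ * s⁻¹ ∈ S₀ := hZ _ hcS fun t ht => hcl m hm s hsM t (hSM ht)
  have e : m * s * m⁻¹ = (m * s * m⁻¹ * s⁻¹) * s := by group
  rw [e]
  exact S₀.mul_mem hc0 hs

/-- **Deskins–Janko–Thompson, key step**: for `M` maximal nilpotent of class at most two with
trivial core, `G` has a normal `p`-complement for every prime dividing `|M|`. -/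
theorem hnpc_of_classTwo {M : Subgroup G} (hmax : IsCoatom M) (hcore : M.normalCore = ⊥)
    (hnil : Group.IsNilpotent M) (hcl : ClassTwoOn M) (p : ℕ) [Fact p.Prime] (hp : p ∣ Nat.card M) :
    HasNormalPComplement p G := by
  classical
  obtain ⟨S, hSM, hMN, hSne⟩ := exists_sylow_of_nilp hmax hcore hnil p hp
  have hSnt : Nontrivial (S : Subgroup G) := (Subgroup.nontrivial_iff_ne_bot _).mpr hSne
  have hZnt := S.isPGroup'.center_nontrivial
  obtain ⟨z₀, hz₀⟩ := exists_ne (1 : center (S : Subgroup G))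
  set z : G := ((z₀ : (S : Subgroup G)) : G) with hzdef
  have hzS : z ∈ (S : Subgroup G) := (z₀ : (S : Subgroup G)).2
  have hz1 : z ≠ 1 := by
    intro h
    apply hz₀
    apply Subtype.ext
    apply Subtype.ext
    exact h
  have hzc : ∀ t ∈ (S : Subgroup G), t * z = z * t := by
    intro t ht
    have := (Subgroup.mem_center_iff.mp z₀.2 ⟨t, ht⟩)
    exact congrArg Subtype.val this
  have hpel : ∀ x ∈ (S : Subgroup G), ∃ k : ℕ, x ^ p ^ k = 1 := by
    intro x hx
    obtain ⟨k, hk⟩ := S.isPGroup' ⟨x, hx⟩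
    exact ⟨k, by simpa using congrArg Subtype.val hk⟩
  have hSel : ∀ a ∈ M, (∃ k : ℕ, a ^ p ^ k = 1) → a ∈ (S : Subgroup G) := by
    rintro a ha ⟨k, hk⟩
    have h1 : (⟨a, ha⟩ : M) ^ p ^ k = 1 := Subtype.ext (by simpa using hk)
    have h2 := Cfsg.Agent.Lib.Nilpotent.Elements.mem_sylow_of_pow_eq_one (S.subtype hSM) h1
    have h3 : (⟨a, ha⟩ : M) ∈ ((S.subtype hSM : Sylow p M) : Subgroup M) := h2
    rw [Sylow.coe_subtype] at h3
    exact h3
  -- `z` is central in `M`
  have hzM : ∀ m ∈ M, m * z = z * m := by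
    intro m hm
    obtain ⟨a, b, hab, hc, hazp, hbzp, ⟨k, hk⟩, hb⟩ :=
      Cfsg.Agent.Lib.Transfer.Basic.exists_pPart_decomp (p := p) m
    have haM : a ∈ M := (Subgroup.zpowers_le.mpr hm) hazp
    have hbM : b ∈ M := (Subgroup.zpowers_le.mpr hm) hbzp
    have haS : a ∈ (S : Subgroup G) := hSel a haM ⟨k, by rw [← hk]; exact pow_orderOf_eq_one a⟩
    have hzMem : z ∈ M := hSM hzS
    obtain ⟨j, hj⟩ := hpel z hzS
    have hzord : ∃ i, orderOf z = p ^ i := by
      obtain ⟨i, -, hi⟩ := (Nat.dvd_prime_pow (Fact.out : p.Prime)).mp (orderOf_dvd_of_pow_eq_one hj)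
      exact ⟨i, hi⟩
    obtain ⟨i, hi⟩ := hzord
    have h1 : (orderOf (⟨b, hbM⟩ : M)).Coprime (orderOf (⟨z, hzMem⟩ : M)) := by
      rw [Subgroup.orderOf_mk, Subgroup.orderOf_mk, hi]
      exact Nat.Coprime.pow_right i hb
    have h2 := Cfsg.Agent.Lib.Nilpotent.Elements.commute_of_coprime_orderOf h1
    have h3 : b * z = z * b := congrArg Subtype.val h2.eq
    rw [← hab]
    calc a * b * z = a * (b * z) := by group
      _ = a * (z * b) := by rw [h3]
      _ = (a * z) * b := by group
      _ = z * a * b := by rw [hzc a haS]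
      _ = z * (a * b) := by group
  have hCz : centralizer ({z} : Set G) = M := by
    by_contra hne
    have hle : M ≤ centralizer ({z} : Set G) := by
      intro m hm
      rw [Subgroup.mem_centralizer_singleton_iff]
      exact hzM m hm
    have h1 := hmax.2 _ (lt_of_le_of_ne hle (Ne.symm hne))
    have hzn : (zpowers z).Normal := by
      constructor
      rintro _ ⟨k, rfl⟩ g
      have h2 : g ∈ centralizer ({z} : Set G) := by rw [h1]; trivial
      rw [Subgroup.mem_centralizer_singleton_iff] at h2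
      refine ⟨k, ?_⟩
      have h3 : Commute g (z ^ k) := Commute.zpow_right h2 k
      show z ^ k = g * z ^ k * g⁻¹
      rw [h3.eq]; group
    have h2 : zpowers z ≤ M.normalCore :=
      normal_le_normalCore.mpr ((Subgroup.zpowers_le).mpr (hSM hzS))
    rw [hcore] at h2
    exact hz1 (by simpa using h2 (Subgroup.mem_zpowers z))
  -- weak closure
  have hw : ∀ g : G, g * z * g⁻¹ ∈ (S : Subgroup G) → g * z * g⁻¹ = z := by
    intro g ht
    set t : G := g * z * g⁻¹ with htdef
    set M₂ : Subgroup G := M.map (MulAut.conj g).toMonoidHom with hM₂def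
    set S₂ : Subgroup G := (S : Subgroup G).map (MulAut.conj g).toMonoidHom with hS₂def
    have hmem : ∀ (K : Subgroup G) (x : G), x ∈ K.map (MulAut.conj g).toMonoidHom ↔ g⁻¹ * x * g ∈ K := by
      intro K x
      constructor
      · rintro ⟨w, hw, rfl⟩
        show g⁻¹ * (g * w * g⁻¹) * g ∈ K
        have e : g⁻¹ * (g * w * g⁻¹) * g = w := by group
        rw [e]; exact hw
      · intro hx
        exact ⟨_, hx, by simp [mul_assoc]⟩
    have hCt : ∀ x : G, x * t = t * x → x ∈ M₂ := by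
      intro x hx
      rw [hM₂def, hmem, ← hCz, Subgroup.mem_centralizer_singleton_iff]
      calc g⁻¹ * x * g * z = g⁻¹ * (x * t) * g := by rw [htdef]; group
        _ = g⁻¹ * (t * x) * g := by rw [hx]
        _ = z * (g⁻¹ * x * g) := by rw [htdef]; group
    have key1 : ∀ x ∈ (S : Subgroup G), x ∈ M₂ → x ∈ S₂ := by
      intro x hx hx2
      rw [hS₂def, hmem]
      rw [hM₂def, hmem] at hx2
      refine hSel _ hx2 ?_
      obtain ⟨k, hk⟩ := hpel x hx
      refine ⟨k, ?_⟩
      have h1 : (g⁻¹ * x * g) ^ p ^ k = g⁻¹ * x ^ p ^ k * g := by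
        have := conj_pow (a := g⁻¹) (b := x) (i := p ^ k)
        simpa using this
      rw [h1, hk]; group
    have key2 : ∀ x ∈ S₂, x ∈ M → x ∈ (S : Subgroup G) := by
      intro x hx hxM
      refine hSel x hxM ?_
      rw [hS₂def, hmem] at hx
      obtain ⟨k, hk⟩ := hpel _ hx
      refine ⟨k, ?_⟩
      have h1 : (g⁻¹ * x * g) ^ p ^ k = g⁻¹ * x ^ p ^ k * g := by
        have := conj_pow (a := g⁻¹) (b := x) (i := p ^ k)
        simpa using this
      rw [h1] at hk
      have h2 : x ^ p ^ k = g * (g⁻¹ * x ^ p ^ k * g) * g⁻¹ := by group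
      rw [h2, hk]; group
    have hzS₂ : z ∈ S₂ := key1 z hzS (hCt z (hzc t ht).symm)
    set S₀ : Subgroup G := (S : Subgroup G) ⊓ S₂ with hS₀def
    have hS₀ne : S₀ ≠ ⊥ := by
      intro h
      have h1 : z ∈ S₀ := ⟨hzS, hzS₂⟩
      rw [h] at h1
      exact hz1 (by simpa using h1)
    have hS₀M : S₀ ≤ M := inf_le_left.trans hSM
    have hnS : ∀ m ∈ M, ∀ s ∈ (S : Subgroup G), m * s * m⁻¹ ∈ (S : Subgroup G) := by
      intro m hm s hs
      exact (mem_normalizer_iff.mp (hMN hm) s).mp hs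
    have hN1 : ∀ m ∈ M, ∀ s ∈ S₀, m * s * m⁻¹ ∈ S₀ := by
      refine norm_step hSM hnS hcl inf_le_left ?_
      intro w hw hwc
      exact ⟨hw, key1 w hw (hCt w (hwc t ht))⟩
    have hN2 : ∀ m ∈ M₂, ∀ s ∈ S₀, m * s * m⁻¹ ∈ S₀ := by
      refine norm_step (Subgroup.map_mono hSM) ?_ (hcl.map _) inf_le_right ?_
      · rintro _ ⟨m, hm, rfl⟩ _ ⟨s, hs, rfl⟩
        refine ⟨m * s * m⁻¹, hnS m hm s hs, ?_⟩
        simp only [map_mul, map_inv]
      · intro w hw hwc
        have h1 : w * z = z * w := hwc z hzS₂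
        have h2 : w ∈ M := by
          rw [← hCz, Subgroup.mem_centralizer_singleton_iff]
          exact h1
        exact ⟨key2 w hw h2, hw⟩
    have hle1 : M ≤ normalizer (S₀ : Set G) :=
      Cfsg.Agent.Lib.Coprime.InvSylow.le_normalizer_of_forall_conj_mem hN1
    have hle2 : M₂ ≤ normalizer (S₀ : Set G) :=
      Cfsg.Agent.Lib.Coprime.InvSylow.le_normalizer_of_forall_conj_mem hN2
    have hN := normalizer_eq hmax hcore hS₀ne hS₀M hle1
    rw [hN] at hle2
    have hM₂M : M₂ = M := by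
      refine Subgroup.eq_of_le_of_card_ge hle2 ?_
      rw [hM₂def, Subgroup.card_map_of_injective (MulEquiv.injective _)]
    have hgM : g ∈ M := by
      by_contra hgM
      have hgN : g ∈ normalizer (M : Set G) := by
        rw [mem_normalizer_iff]
        intro x
        constructor
        · intro hx
          rw [← hM₂M]
          exact ⟨x, hx, rfl⟩
        · intro hx
          rw [← hM₂M, hM₂def, hmem] at hx
          have e : g⁻¹ * (g * x * g⁻¹) * g = x := by group
          rwa [e] at hx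
      have hlt : M < normalizer (M : Set G) :=
        lt_of_le_of_ne Subgroup.le_normalizer (fun h => hgM (h ▸ hgN))
      have htop := hmax.2 _ hlt
      haveI hMn : M.Normal := normalizer_eq_top_iff.mp htop
      have h2 : M ≤ M.normalCore := normal_le_normalCore.mpr le_rfl
      rw [hcore] at h2
      exact hz1 (by simpa using h2 (hSM hzS))
    rw [htdef, (hzM g hgM)]
    group
  refine Cfsg.Agent.Lib.Transfer.Frobenius.hasNormalPComplement_of_hyp
    (frob_of_weaklyClosed S z hzS hzc hw ?_)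
  rw [hCz]
  exact hnil

end ClassTwo

end Cfsg.Agent.Lib.Transfer.NilpMax
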