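import Mathlib
import Cfsg.Agent.Lib.Transfer.Frobenius

/-!
# Transfer at a central element of order `p` of a Sylow subgroup

If `u` has order `p`, is central in the Sylow subgroup `S` and is centralized by `N_G(S)`, then for
every homomorphism `θ : S → ℤ/p` the transfer satisfies `V(u) = θ(u)^m` with `m` prime to `p`.  In
particular if `u ∉ Φ(S)` (some `θ(u) ≠ 1`), then `G` has a normal subgroup of index `p` avoiding `u`.
-/

set_option autoImplicit false

namespace Cfsg.Agent.Lib.Transfer.CentralOrderP

open Subgroup MonoidHom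

section FixedSum

variable {p : ℕ} [hp : Fact p.Prime] {S X : Type*} [Group S] [Finite S] [MulAction S X] [Finite X]

/-- For a `p`-group acting on a finite set, the sum of an invariant `ZMod p`-valued function is the
sum over the fixed points. -/
theorem sum_eq_sum_fixed [Fintype X] [Fintype (MulAction.fixedPoints S X)] (hS : IsPGroup p S)
    (F : X → ZMod p) (hF : ∀ (s : S) (y : X), F (s • y) = F y) :
    ∑ y, F y = ∑ y : MulAction.fixedPoints S X, F y := by
  classical
  have key : ∀ c : ZMod p, ((Finset.univ.filter (fun y => F y = c)).card : ZMod p) =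
      ((Finset.univ.filter (fun y : MulAction.fixedPoints S X => F y = c)).card : ZMod p) := by
    intro c
    let A : SubMulAction S X :=
      { carrier := {y | F y = c}
        smul_mem' := by
          intro s y hy
          show F (s • y) = c
          rw [hF]
          exact hy }
    have h1 := hS.card_modEq_card_fixedPoints A
    have h2 : Nat.card A = (Finset.univ.filter (fun y => F y = c)).card := by
      rw [← Fintype.card_subtype, ← Nat.card_eq_fintype_card]
      rfl
    have h3 : Nat.card (MulAction.fixedPoints S A) =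
        (Finset.univ.filter (fun y : MulAction.fixedPoints S X => F y = c)).card := by
      rw [← Fintype.card_subtype, ← Nat.card_eq_fintype_card]
      apply Nat.card_congr
      exact
        { toFun := fun a => ⟨⟨a.1.1, fun s => congrArg Subtype.val (a.2 s)⟩, a.1.2⟩
          invFun := fun b => ⟨⟨b.1.1, b.2⟩, fun s => Subtype.ext (b.1.2 s)⟩
          left_inv := fun a => rfl
          right_inv := fun b => rfl }
    rw [h2, h3] at h1
    exact (ZMod.natCast_eq_natCast_iff _ _ _).mpr h1
  rw [← Finset.sum_fiberwise (Finset.univ : Finset X) F F,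
    ← Finset.sum_fiberwise (Finset.univ : Finset (MulAction.fixedPoints S X))
      (fun y => F y) (fun y => F y)]
  refine Finset.sum_congr rfl fun c _ => ?_
  have e1 : ∑ i ∈ Finset.univ.filter (fun y => F y = c), F i =
      ∑ i ∈ Finset.univ.filter (fun y => F y = c), c :=
    Finset.sum_congr rfl fun i hi => (Finset.mem_filter.mp hi).2
  have e2 : ∑ i ∈ Finset.univ.filter (fun y : MulAction.fixedPoints S X => F y = c), F i =
      ∑ i ∈ Finset.univ.filter (fun y : MulAction.fixedPoints S X => F y = c), c :=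
    Finset.sum_congr rfl fun i hi => (Finset.mem_filter.mp hi).2
  rw [e1, e2, Finset.sum_const, Finset.sum_const, nsmul_eq_mul, nsmul_eq_mul, key c]

end FixedSum

variable {G : Type*} [Group G] [Finite G] {p : ℕ} [hp : Fact p.Prime] (S : Sylow p G)

/-- The transfer at a central element of order `p` of `S` fixed by `N_G(S)`. -/
theorem transfer_central (u : G) (huS : u ∈ (S : Subgroup G)) (hup : u ^ p = 1)
    (hZ : ∀ s ∈ (S : Subgroup G), s * u = u * s)
    (hN : ∀ g ∈ normalizer ((S : Subgroup G) : Set G), g⁻¹ * u * g = u)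
    (θ : (S : Subgroup G) →* Multiplicative (ZMod p)) :
    ∃ m : ℕ, m.Coprime p ∧ MonoidHom.transfer θ u = θ ⟨u, huS⟩ ^ m := by
  classical
  haveI : Fintype (G ⧸ (S : Subgroup G)) := Fintype.ofFinite _
  haveI : Fintype (Quotient (MulAction.orbitRel (zpowers u) (G ⧸ (S : Subgroup G)))) :=
    Fintype.ofFinite _
  let X := G ⧸ (S : Subgroup G)
  let val : X → ZMod p := fun y =>
    if h : (Quotient.out y : G)⁻¹ * u * (Quotient.out y : G) ∈ (S : Subgroup G) then
      Multiplicative.toAdd (θ ⟨_, h⟩) else 0
  -- independence of the representative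
  have hrep : ∀ g : G, (((g : G ⧸ (S : Subgroup G))).out : G)⁻¹ * g ∈ (S : Subgroup G) := by
    intro g
    rw [← QuotientGroup.eq]
    exact QuotientGroup.out_eq' _
  have hmem_iff : ∀ g : G, ((g : X).out : G)⁻¹ * u * ((g : X).out : G) ∈ (S : Subgroup G) ↔
      g⁻¹ * u * g ∈ (S : Subgroup G) := by
    intro g
    have hs := hrep g
    set g' : G := (g : G ⧸ (S : Subgroup G)).out with hg'
    have hs' : g⁻¹ * g' ∈ (S : Subgroup G) := by
      have := (S : Subgroup G).inv_mem hs
      simpa using this
    constructor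
    · intro h
      have := (S : Subgroup G).mul_mem ((S : Subgroup G).mul_mem hs' h) ((S : Subgroup G).inv_mem hs')
      have e : g⁻¹ * g' * (g'⁻¹ * u * g') * (g⁻¹ * g')⁻¹ = g⁻¹ * u * g := by group
      rwa [e] at this
    · intro h
      have := (S : Subgroup G).mul_mem ((S : Subgroup G).mul_mem hs h) ((S : Subgroup G).inv_mem hs)
      have e : g'⁻¹ * g * (g⁻¹ * u * g) * (g'⁻¹ * g)⁻¹ = g'⁻¹ * u * g' := by group
      rwa [e] at this
  have hval_mem : ∀ (g : G) (h : g⁻¹ * u * g ∈ (S : Subgroup G)),
      val (g : X) = Multiplicative.toAdd (θ ⟨_, h⟩) := by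
    intro g h
    have hm := (hmem_iff g).mpr h
    have hs := hrep g
    show (if h : ((g : X).out : G)⁻¹ * u * ((g : X).out : G) ∈ (S : Subgroup G) then
      Multiplicative.toAdd (θ ⟨_, h⟩) else 0) = _
    rw [dif_pos hm]
    congr 1
    -- conjugate inside `S`
    let s : (S : Subgroup G) := ⟨_, hs⟩
    have e : (⟨_, hm⟩ : (S : Subgroup G)) = s * ⟨g⁻¹ * u * g, h⟩ * s⁻¹ := by
      apply Subtype.ext
      show _ = ((g : X).out : G)⁻¹ * g * (g⁻¹ * u * g) * (((g : X).out : G)⁻¹ * g)⁻¹
      group
    rw [e, map_mul, map_mul, map_inv, mul_comm (θ s), mul_inv_cancel_right]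
  have hval_not : ∀ g : G, g⁻¹ * u * g ∉ (S : Subgroup G) → val (g : X) = 0 := by
    intro g h
    show (if h : ((g : X).out : G)⁻¹ * u * ((g : X).out : G) ∈ (S : Subgroup G) then
      Multiplicative.toAdd (θ ⟨_, h⟩) else 0) = _
    rw [dif_neg (fun h2 => h ((hmem_iff g).mp h2))]
  -- fixed points of `u`
  have hfix : ∀ y : X, (y.out : G)⁻¹ * u * (y.out : G) ∈ (S : Subgroup G) → u • y = y := by
    intro y h
    have hy : ((y.out : G) : X) = y := QuotientGroup.out_eq' y
    calc u • y = u • ((y.out : G) : X) := by rw [hy]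
      _ = ((u * (y.out : G) : G) : X) := rfl
      _ = ((y.out : G) : X) := by
        rw [QuotientGroup.eq]
        have e : (u * (y.out : G))⁻¹ * (y.out : G) = ((y.out : G)⁻¹ * u * (y.out : G))⁻¹ := by group
        rw [e]
        exact (S : Subgroup G).inv_mem h
      _ = y := hy
  -- the terms of the transfer
  have hterm : ∀ q : Quotient (MulAction.orbitRel (zpowers u) (G ⧸ (S : Subgroup G))),
      θ ⟨(q.out.out : G)⁻¹ * u ^ Function.minimalPeriod (u • ·) q.out * (q.out.out : G),
        QuotientGroup.out_conj_pow_minimalPeriod_mem (S : Subgroup G) u q.out⟩ =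
      Multiplicative.ofAdd (val q.out) := by
    intro q
    have hmem := QuotientGroup.out_conj_pow_minimalPeriod_mem (S : Subgroup G) u q.out
    have hper : Function.minimalPeriod (u • ·) q.out ∣ p := by
      apply Function.IsPeriodicPt.minimalPeriod_dvd
      show (u • ·)^[p] q.out = q.out
      rw [smul_iterate, hup]
      exact one_smul _ _
    rcases (Nat.dvd_prime hp.out).mp hper with h1 | h1
    · have hm : (q.out.out : G)⁻¹ * u * (q.out.out : G) ∈ (S : Subgroup G) := by
        have := hmem
        rwa [h1, pow_one] at this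
      have e : (⟨(q.out.out : G)⁻¹ * u ^ Function.minimalPeriod (u • ·) q.out * (q.out.out : G), hmem⟩ :
          (S : Subgroup G)) = ⟨_, hm⟩ := Subtype.ext (by
        show (q.out.out : G)⁻¹ * u ^ Function.minimalPeriod (u • ·) q.out * (q.out.out : G) = _
        rw [h1, pow_one])
      rw [e]
      have hv : val q.out = Multiplicative.toAdd (θ ⟨_, hm⟩) := dif_pos hm
      rw [hv]
      rfl
    · have e : (⟨(q.out.out : G)⁻¹ * u ^ Function.minimalPeriod (u • ·) q.out * (q.out.out : G), hmem⟩ :
          (S : Subgroup G)) = 1 := Subtype.ext (by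
        show (q.out.out : G)⁻¹ * u ^ Function.minimalPeriod (u • ·) q.out * (q.out.out : G) = 1
        rw [h1, hup]
        group)
      rw [e, map_one]
      have hv : val q.out = 0 := by
        apply dif_neg
        intro hm
        have hfx := hfix q.out hm
        have h2 : Function.minimalPeriod (u • ·) q.out = 1 :=
          Function.minimalPeriod_eq_one_iff_isFixedPt.mpr hfx
        rw [h1] at h2
        exact hp.out.one_lt.ne' h2
      rw [hv]
      rfl
  have hsum1 : ∑ q : Quotient (MulAction.orbitRel (zpowers u) (G ⧸ (S : Subgroup G))), val q.out =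
      ∑ y : X, val y := by
    have hinj : Function.Injective
        (fun q : Quotient (MulAction.orbitRel (zpowers u) (G ⧸ (S : Subgroup G))) => q.out) :=
      fun a b h => Quotient.out_inj.mp h
    rw [← Finset.sum_image (s := Finset.univ) (g := fun q : Quotient (MulAction.orbitRel (zpowers u)
      (G ⧸ (S : Subgroup G))) => q.out) (f := val) (fun a _ b _ h => hinj h)]
    apply Finset.sum_subset (Finset.subset_univ _)
    intro y _ hy
    by_contra hne
    have hm : (y.out : G)⁻¹ * u * (y.out : G) ∈ (S : Subgroup G) := by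
      by_contra h
      exact hne (dif_neg h)
    have hfx := hfix y hm
    apply hy
    rw [Finset.mem_image]
    refine ⟨Quotient.mk _ y, Finset.mem_univ _, ?_⟩
    have h2 := Quotient.mk_out (s := MulAction.orbitRel (zpowers u) (G ⧸ (S : Subgroup G))) y
    have h3 : (Quotient.mk (MulAction.orbitRel (zpowers u) (G ⧸ (S : Subgroup G))) y).out ∈
        MulAction.orbit (zpowers u) y := h2
    obtain ⟨⟨c, k, rfl⟩, h4⟩ := h3
    have h5 : zpowers u ≤ MulAction.stabilizer G y := by
      rw [zpowers_le]
      exact hfx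
    have h6 : ((fun k : ℤ => u ^ k) k : G) • y = y := h5 ⟨k, rfl⟩
    rw [← h4]
    exact h6
  -- invariance under `S`
  have hF : ∀ (s : (S : Subgroup G)) (y : X), val (s • y) = val y := by
    intro s y
    obtain ⟨g, rfl⟩ := QuotientGroup.mk_surjective y
    have hsg : s • ((g : G) : X) = (((s : G) * g : G) : X) := rfl
    rw [hsg]
    have e : ((s : G) * g)⁻¹ * u * ((s : G) * g) = g⁻¹ * u * g := by
      have h1 := hZ s s.2
      calc ((s : G) * g)⁻¹ * u * ((s : G) * g) = g⁻¹ * (s : G)⁻¹ * (u * (s : G)) * g := by group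
        _ = g⁻¹ * (s : G)⁻¹ * ((s : G) * u) * g := by rw [h1]
        _ = g⁻¹ * u * g := by group
    by_cases h : g⁻¹ * u * g ∈ (S : Subgroup G)
    · have h' : ((s : G) * g)⁻¹ * u * ((s : G) * g) ∈ (S : Subgroup G) := e ▸ h
      rw [hval_mem _ h', hval_mem _ h]
      congr 2
      exact Subtype.ext e
    · have h' : ((s : G) * g)⁻¹ * u * ((s : G) * g) ∉ (S : Subgroup G) := e ▸ h
      rw [hval_not _ h', hval_not _ h]
  haveI : Fintype (MulAction.fixedPoints (S : Subgroup G) X) := Fintype.ofFinite _
  have hsum2 := sum_eq_sum_fixed (p := p) S.isPGroup' val hF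
  -- on fixed points the value is constant
  have hconst : ∀ y : MulAction.fixedPoints (S : Subgroup G) X,
      val (y : X) = Multiplicative.toAdd (θ ⟨u, huS⟩) := by
    rintro ⟨y, hy⟩
    obtain ⟨g, rfl⟩ := QuotientGroup.mk_surjective y
    have h1 : ∀ s ∈ (S : Subgroup G), g⁻¹ * s * g ∈ (S : Subgroup G) := by
      intro s hs
      have h2 : ((s⁻¹ * g : G) : X) = (g : X) := hy ⟨s⁻¹, (S : Subgroup G).inv_mem hs⟩
      rw [QuotientGroup.eq] at h2
      have e : (s⁻¹ * g)⁻¹ * g = g⁻¹ * s * g := by group
      rwa [e] at h2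
    have hg : g⁻¹ ∈ normalizer ((S : Subgroup G) : Set G) := by
      apply Cfsg.Agent.Lib.Transfer.Frobenius.mem_normalizer_of_conj_mem
      intro s hs
      simpa using h1 s hs
    have hg2 : g ∈ normalizer ((S : Subgroup G) : Set G) := by
      simpa using (normalizer ((S : Subgroup G) : Set G)).inv_mem hg
    have hu := hN g hg2
    have hm : g⁻¹ * u * g ∈ (S : Subgroup G) := by rw [hu]; exact huS
    show val (g : X) = _
    rw [hval_mem g hm]
    congr 2
    exact Subtype.ext hu
  refine ⟨Fintype.card (MulAction.fixedPoints (S : Subgroup G) X), ?_, ?_⟩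
  · have h1 := S.isPGroup'.card_modEq_card_fixedPoints X
    rw [Nat.card_eq_fintype_card (α := MulAction.fixedPoints (S : Subgroup G) X)] at h1
    rw [Nat.coprime_comm, Nat.Prime.coprime_iff_not_dvd hp.out]
    intro hd
    apply S.not_dvd_index
    have h2 := (Nat.ModEq.dvd_iff h1 (dvd_refl p)).mpr hd
    exact h2
  · rw [MonoidHom.transfer_eq_prod_quotient_orbitRel_zpowers_quot]
    simp_rw [hterm]
    rw [← ofAdd_sum, hsum1, hsum2]
    simp_rw [hconst]
    rw [Finset.sum_const, Finset.card_univ, ofAdd_nsmul]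
    rfl

/-- A central element of order `p` of a Sylow subgroup, fixed by its normalizer and outside the kernel
of a homomorphism to `ℤ/p`, is outside a normal subgroup of index `p`. -/
theorem exists_normal_index_of_central (u : G) (huS : u ∈ (S : Subgroup G)) (hup : u ^ p = 1)
    (hZ : ∀ s ∈ (S : Subgroup G), s * u = u * s)
    (hN : ∀ g ∈ normalizer ((S : Subgroup G) : Set G), g⁻¹ * u * g = u)
    (θ : (S : Subgroup G) →* Multiplicative (ZMod p)) (hθ : θ ⟨u, huS⟩ ≠ 1) :
    ∃ L : Subgroup G, L.Normal ∧ L.index = p ∧ u ∉ L := by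
  classical
  obtain ⟨m, hm, hV⟩ := transfer_central S u huS hup hZ hN θ
  have hne : MonoidHom.transfer θ u ≠ 1 := by
    rw [hV]
    intro h
    apply hθ
    have h1 : orderOf (θ ⟨u, huS⟩) ∣ m := orderOf_dvd_of_pow_eq_one h
    have h2 : (θ ⟨u, huS⟩) ^ p = 1 := by
      apply Multiplicative.toAdd.injective
      rw [toAdd_pow, toAdd_one, nsmul_eq_mul, ZMod.natCast_self, zero_mul]
    have h3 : orderOf (θ ⟨u, huS⟩) ∣ p := orderOf_dvd_of_pow_eq_one h2
    have h4 := Nat.eq_one_of_dvd_coprimes hm.symm h3 h1
    exact orderOf_eq_one_iff.mp h4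
  refine ⟨(MonoidHom.transfer θ).ker, inferInstance, ?_, fun h => hne h⟩
  rw [Subgroup.index_ker]
  have hcard : Nat.card (Multiplicative (ZMod p)) = p := by
    rw [Nat.card_congr Multiplicative.toAdd, Nat.card_zmod]
  have hdvd : Nat.card (MonoidHom.transfer θ).range ∣ p := by
    have := Subgroup.card_subgroup_dvd_card (MonoidHom.transfer θ).range
    rwa [hcard] at this
  rcases (Nat.dvd_prime hp.out).mp hdvd with h1 | h1
  · exfalso
    have h2 : (MonoidHom.transfer θ).range = ⊥ := Subgroup.card_eq_one.mp h1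
    have h3 : MonoidHom.transfer θ u ∈ (MonoidHom.transfer θ).range := ⟨u, rfl⟩
    rw [h2, Subgroup.mem_bot] at h3
    exact hne h3
  · exact h1

end Cfsg.Agent.Lib.Transfer.CentralOrderP
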