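import Mathlib
import Cfsg.Agent.Lib.Transfer.FamilyControl
import Cfsg.Agent.Lib.LocalY.Kieler

/-!
# Local to global control through the subgroups containing `Z(S)`

A version of the induction of `FamilyControl` restricted to a subclass `𝓣` of the fully normalized subgroups,
used for the functors `W`, `V` with `Z(Q) ≤ W(Q)`, `V(Q) ≤ Z(Q)`.
-/

set_option autoImplicit false
set_option linter.unusedSectionVars false
set_option linter.style.haveILetI false
set_option linter.unusedVariables false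

namespace Cfsg.Agent.Lib.Transfer.CentricControl

open Subgroup Cfsg Cfsg.Agent.Lib.Transfer.WellPlaced Cfsg.Agent.Lib.Transfer.WellPlacedControl
open Cfsg.Agent.Lib.Transfer.FamilyControl
open scoped commutatorElement

variable {G : Type*} [Group G] [Finite G] {p : ℕ} [hp : Fact p.Prime]

/-- The induction over fully normalized subgroups. -/
theorem abstract_main' (S : Sylow p G) (𝓦 : Set (Subgroup G → Subgroup G))
    (h𝓦 : ∀ W ∈ 𝓦, IsConjugacyFunctor p W) {Rel : Subgroup G → G → Prop} (hRel : IsRel Rel)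
    (𝓣 : Subgroup G → Prop) (hS𝓣 : 𝓣 S)
    (h𝓣 : ∀ W ∈ 𝓦, ∀ T : Subgroup G, T ≤ S → 𝓣 T → ∀ g : G, cj g (W ((S : Subgroup G) ⊓ Nz T)) ≤ S →
      𝓣 (cj g (W ((S : Subgroup G) ⊓ Nz T))))
    (base : ∀ W ∈ 𝓦, ∀ C : Subgroup G, C ≤ S → ∀ y ∈ Nz (W S), cj y C ≤ S → Rel C y)
    (hout : ∀ U : Subgroup G, U ≤ S → FN p (S : Subgroup G) U → ¬ 𝓣 U → ∀ l ∈ Nz U,
      (∀ B : Subgroup G, B ≤ S → Nat.card U < Nat.card B → ∀ g : G, cj g B ≤ S → Rel B g) → Rel U l)
    (hstep : ∀ T : Subgroup G, T ≤ S → 𝓣 T → FN p (S : Subgroup G) T →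
      (∀ W ∈ 𝓦, ∀ C : Subgroup G, C ≤ (S : Subgroup G) ⊓ Nz T →
        ∀ y ∈ Nz T ⊓ Nz (W ((S : Subgroup G) ⊓ Nz T)), cj y C ≤ (S : Subgroup G) ⊓ Nz T → Rel C y) →
      ∀ C : Subgroup G, C ≤ (S : Subgroup G) ⊓ Nz T → ∀ y ∈ Nz T, cj y C ≤ (S : Subgroup G) ⊓ Nz T →
        Rel C y) :
    ∀ (B : Subgroup G), B ≤ S → ∀ g : G, cj g B ≤ S → Rel B g := by
  have main : ∀ n : ℕ,
      (∀ T : Subgroup G, T ≤ S → 𝓣 T → FN p (S : Subgroup G) T →
        Nat.card (S : Subgroup G) - Nat.card ↥((S : Subgroup G) ⊓ Nz T) = n →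
        ∀ C : Subgroup G, C ≤ (S : Subgroup G) ⊓ Nz T → ∀ y ∈ Nz T,
          cj y C ≤ (S : Subgroup G) ⊓ Nz T → Rel C y) ∧
      (∀ B : Subgroup G, B ≤ S → Nat.card (S : Subgroup G) - Nat.card B = n →
        ∀ g : G, cj g B ≤ S → Rel B g) := by
    intro n
    induction n using Nat.strong_induction_on with
    | _ n ih =>
      have hcardB : ∀ {X : Subgroup G}, X ≤ S → Nat.card X ≤ Nat.card (S : Subgroup G) :=
        fun hX => Subgroup.card_le_of_le hX
      have hQ : ∀ T : Subgroup G, T ≤ S → 𝓣 T → FN p (S : Subgroup G) T →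
          Nat.card (S : Subgroup G) - Nat.card ↥((S : Subgroup G) ⊓ Nz T) = n →
          ∀ C : Subgroup G, C ≤ (S : Subgroup G) ⊓ Nz T → ∀ y ∈ Nz T,
            cj y C ≤ (S : Subgroup G) ⊓ Nz T → Rel C y := by
        intro T hTS hT hfn hn
        refine hstep T hTS hT hfn ?_
        intro W hW C hC y hy hyC
        set R : Subgroup G := (S : Subgroup G) ⊓ Nz T with hR
        have hRS : R ≤ S := inf_le_left
        have hRp : IsPGroup p R := S.isPGroup'.to_le hRS
        have hWf := h𝓦 W hW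
        by_cases hRtop : R = S
        · have hy2 : y ∈ Nz (W R) := hy.2
          rw [hRtop] at hy2 hyC hC
          exact base W hW C hC y hy2 hyC
        · have hRlt : R < S := lt_of_le_of_ne hRS hRtop
          have hTR : T ≤ R := le_inf hTS (le_Nz_self T)
          have hlt := lt_inf_Nz_W S hWf hRlt
          set R₁ : Subgroup G := (S : Subgroup G) ⊓ Nz (W R) with hR₁
          have hcard1 : Nat.card R < Nat.card R₁ := card_lt_of_lt hlt
          have hT₁S : W R ≤ S := (W_le hWf hRp).trans hRS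
          obtain ⟨g, hg1, hg2, hg3⟩ := exists_fn_conj S hT₁S
          set T₂ : Subgroup G := cj g (W R) with hT₂
          have hT₂𝓣 : 𝓣 T₂ := h𝓣 W hW T hTS hT g hg1
          have hcard2 : Nat.card R₁ ≤ Nat.card ↥((S : Subgroup G) ⊓ Nz T₂) := by
            have := Subgroup.card_le_of_le hg3
            rwa [card_cj] at this
          have hR₁S : R₁ ≤ S := inf_le_left
          have hlt1 : Nat.card (S : Subgroup G) - Nat.card R₁ < n := by
            have := hcardB hR₁S
            omega
          have hlt2 : Nat.card (S : Subgroup G) - Nat.card ↥((S : Subgroup G) ⊓ Nz T₂) < n := by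
            have : Nat.card ↥((S : Subgroup G) ⊓ Nz T₂) ≤ Nat.card (S : Subgroup G) :=
              hcardB inf_le_left
            omega
          have hRelR₁ : Rel R₁ g := (ih _ hlt1).2 R₁ hR₁S rfl g (hg3.trans inf_le_left)
          have hCR₁ : C ≤ R₁ := hC.trans hlt.le
          have hyCR₁ : cj y C ≤ R₁ := hyC.trans hlt.le
          have h1 : Rel C g := hRel.restrict hRelR₁ hCR₁
          set y' : G := g * y * g⁻¹ with hy'
          have hy'N : y' ∈ Nz T₂ := by
            rw [hT₂, Nz_cj]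
            exact conj_mem_cj hy.2
          have ecj : cj y' (cj g C) = cj g (cj y C) := by
            rw [← cj_mul, ← cj_mul, hy']
            congr 1
            group
          have hleT₂ : R₁.map (MulAut.conj g).toMonoidHom ≤ (S : Subgroup G) ⊓ Nz T₂ := hg3
          have hC' : cj g C ≤ (S : Subgroup G) ⊓ Nz T₂ := (cj_mono hCR₁).trans hg3
          have hyC' : cj y' (cj g C) ≤ (S : Subgroup G) ⊓ Nz T₂ := by
            rw [ecj]
            exact (cj_mono hyCR₁).trans hg3
          have h2 : Rel (cj g C) y' :=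
            (ih _ hlt2).1 T₂ hg1 hT₂𝓣 hg2 rfl _ hC' y' hy'N hyC'
          have h3 : Rel (cj y C) g := hRel.restrict hRelR₁ hyCR₁
          have h4 : Rel (cj g (cj y C)) g⁻¹ := hRel.inv h3
          have h5 : Rel C (y' * g) := hRel.comp h1 h2
          have h6 : Rel (cj (y' * g) C) g⁻¹ := by
            rw [cj_mul, ecj]
            exact h4
          have h7 := hRel.comp h5 h6
          have e : g⁻¹ * (y' * g) = y := by
            rw [hy']; group
          rwa [e] at h7
      refine ⟨hQ, ?_⟩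
      intro B hB hn g hg
      have key : ∀ (C U : Subgroup G) (k : G), C ≤ S → Nat.card C = Nat.card B → cj k C = U →
          U ≤ S → FN p (S : Subgroup G) U → Rel C k := by
        intro C U k hC hCc hkC hUS hfn
        by_cases hCS : C = S
        · subst hCS
          have hUS' : U = S := Subgroup.eq_of_le_of_card_ge hUS (by rw [← hkC, card_cj])
          have hk : k ∈ Nz (S : Subgroup G) := by
            rw [mem_Nz_iff]
            exact hkC.trans hUS'
          have hn0 : Nat.card (S : Subgroup G) - Nat.card ↥((S : Subgroup G) ⊓ Nz (S : Subgroup G)) = n := by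
            rw [inf_eq_left.2 (le_Nz_self _)]
            rw [← hn, ← hCc]
          refine hQ S le_rfl hS𝓣 ?_ hn0 S (le_inf le_rfl (le_Nz_self _)) k hk ?_
          · exact fn_of_le S (le_Nz_self _)
          · rw [mem_Nz_iff.1 hk]
            exact le_inf le_rfl (le_Nz_self _)
        · have hlt : C < S := lt_of_le_of_ne hC hCS
          have hRlt := lt_inf_Nz S.isPGroup' hlt
          set R : Subgroup G := (S : Subgroup G) ⊓ Nz C with hR
          have hRN : cj k R ≤ Nz U := by
            rw [← hkC, Nz_cj]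
            exact cj_mono inf_le_right
          obtain ⟨l, hl, hl'⟩ := exists_conj_le_of_sylow (inf_le_right : (S : Subgroup G) ⊓ Nz U ≤ _)
            (isPGroup_inf S _) hfn hRN (IsPGroup_cj (isPGroup_inf S _) k)
          have hlU : cj l U = U := mem_Nz_iff.1 hl
          have hRS : R ≤ S := inf_le_left
          have hlR : cj (l * k) R ≤ S := by
            rw [cj_mul]; exact hl'.trans inf_le_left
          have hcard : Nat.card C < Nat.card R := card_lt_of_lt hRlt
          have hlt' : Nat.card (S : Subgroup G) - Nat.card R < n := by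
            have := hcardB hRS
            omega
          have h1 : Rel R (l * k) := (ih _ hlt').2 R hRS rfl _ hlR
          have h2 : Rel C (l * k) := hRel.restrict h1 hRlt.le
          have h3 : Rel (cj (l * k) C) l⁻¹ := by
            rw [cj_mul, hkC, hlU]
            by_cases hU𝓣 : 𝓣 U
            · have hcardU : Nat.card R ≤ Nat.card ↥((S : Subgroup G) ⊓ Nz U) := by
                have hh : cj l (cj k R) ≤ (S : Subgroup G) ⊓ Nz U := hl'
                have := Subgroup.card_le_of_le hh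
                rwa [card_cj, card_cj] at this
              have hlt'' : Nat.card (S : Subgroup G) - Nat.card ↥((S : Subgroup G) ⊓ Nz U) < n := by
                have : Nat.card ↥((S : Subgroup G) ⊓ Nz U) ≤ Nat.card (S : Subgroup G) :=
                  hcardB inf_le_left
                omega
              have hUle : U ≤ (S : Subgroup G) ⊓ Nz U := le_inf hUS (le_Nz_self U)
              refine (ih _ hlt'').1 U hUS hU𝓣 hfn rfl U hUle l⁻¹ ((Nz U).inv_mem hl) ?_
              rw [mem_Nz_iff.1 ((Nz U).inv_mem hl)]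
              exact hUle
            · refine hout U hUS hfn hU𝓣 l⁻¹ ((Nz U).inv_mem hl) ?_
              intro D hDS hD g hg
              have hUc : Nat.card U = Nat.card B := by rw [← hkC, card_cj, hCc]
              have h9 := hcardB hDS
              have hlt9 : Nat.card (S : Subgroup G) - Nat.card D < n := by
                omega
              exact (ih _ hlt9).2 D hDS rfl g hg
          have := hRel.comp h2 h3
          simpa using this
      obtain ⟨k, hk1, hk2, -⟩ := exists_fn_conj S hB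
      have h1 : Rel B k := key B _ k hB rfl rfl hk1 hk2
      have h2 : Rel (cj g B) (k * g⁻¹) := by
        refine key (cj g B) (cj k B) _ hg (card_cj g B) ?_ hk1 hk2
        rw [cj_mul, cj_inv_cj]
      have h3 := hRel.inv h2
      have e : cj (k * g⁻¹) (cj g B) = cj k B := by rw [cj_mul, cj_inv_cj]
      rw [e] at h3
      have h4 := hRel.comp h1 h3
      have e2 : (k * g⁻¹)⁻¹ * k = g := by group
      rwa [e2] at h4
  intro B hB g hg
  exact (main _).2 B hB rfl g hg


/-- Moving a subgroup not containing `Z` is reduced to a larger subgroup. -/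
theorem hout_of_congr (S : Sylow p G) {Rel : Subgroup G → G → Prop} (hRel : IsRel Rel)
    (hcongr : ∀ {B : Subgroup G} {g k : G}, Rel B g → (∀ b ∈ B, g * b * g⁻¹ = k * b * k⁻¹) → Rel B k)
    {Z U : Subgroup G} (hZS : Z ≤ S) (hZc : Z ≤ centralizer ((S : Subgroup G) : Set G)) (hU : U ≤ S)
    (hfn : FN p (S : Subgroup G) U) (hZU : ¬ Z ≤ U) {l : G} (hl : l ∈ Nz U)
    (IH : ∀ B : Subgroup G, B ≤ S → Nat.card U < Nat.card B → ∀ g : G, cj g B ≤ S → Rel B g) :
    Rel U l := by
  set C : Subgroup G := centralizer (U : Set G) with hC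
  have hCN : C ≤ Nz U := Subgroup.centralizer_le_normalizer _
  have hR : (S : Subgroup G) ⊓ Nz U ⊓ C = (S : Subgroup G) ⊓ C := by
    rw [inf_assoc, inf_eq_right.2 hCN]
  have hnC : (C.subgroupOf (Nz U)).Normal := by
    refine ⟨fun x hx n => ?_⟩
    rw [Subgroup.mem_subgroupOf] at hx ⊢
    refine mem_centralizer_iff.2 fun u hu => ?_
    have hn := n.2
    have h1 : (n : G)⁻¹ * u * n ∈ U := by
      have := (Subgroup.mem_normalizer_iff.1 ((Nz U).inv_mem hn) u).1 hu
      simpa using this
    have h2 := (mem_centralizer_iff.1 hx) _ h1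
    simp only [Subgroup.coe_mul, InvMemClass.coe_inv]
    calc u * (n * x * (n : G)⁻¹) = n * ((n : G)⁻¹ * u * n * x) * (n : G)⁻¹ := by group
      _ = n * (x * ((n : G)⁻¹ * u * n)) * (n : G)⁻¹ := by rw [h2]
      _ = _ := by group
  have hi : ¬ p ∣ ((S : Subgroup G) ⊓ Nz U ⊓ C).relIndex C :=
    Cfsg.Agent.Lib.LocalY.Kieler.not_dvd_relIndex_inf hCN hnC (isPGroup_inf S _) hfn
  rw [hR] at hi
  have hZC : Z ≤ C := by
    intro z hz
    exact mem_centralizer_iff.2 fun u hu => (mem_centralizer_iff.1 (hZc hz)) u (hU hu)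
  have hlZ : cj l Z ≤ C := by
    rintro _ ⟨z, hz, rfl⟩
    refine mem_centralizer_iff.2 fun u hu => ?_
    have h1 : l⁻¹ * u * l ∈ U := by
      have := (Subgroup.mem_normalizer_iff.1 ((Nz U).inv_mem hl) u).1 hu
      simpa using this
    have h2 := (mem_centralizer_iff.1 (hZC hz)) _ h1
    show u * (l * z * l⁻¹) = l * z * l⁻¹ * u
    calc u * (l * z * l⁻¹) = l * ((l⁻¹ * u * l) * z) * l⁻¹ := by group
      _ = l * (z * (l⁻¹ * u * l)) * l⁻¹ := by rw [h2]
      _ = _ := by group
  have hZp : IsPGroup p Z := S.isPGroup'.to_le hZS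
  obtain ⟨c, hc, hcZ⟩ := exists_conj_le_of_sylow (inf_le_right : (S : Subgroup G) ⊓ C ≤ C)
    (isPGroup_inf S C) hi hlZ (IsPGroup_cj hZp l)
  have hcl : ∀ b ∈ U, (c * l) * b * (c * l)⁻¹ = l * b * l⁻¹ := by
    intro b hb
    have h1 : l * b * l⁻¹ ∈ U := (Subgroup.mem_normalizer_iff.1 hl b).1 hb
    have h2 := (mem_centralizer_iff.1 hc) _ h1
    calc (c * l) * b * (c * l)⁻¹ = (c * (l * b * l⁻¹)) * c⁻¹ := by group
      _ = ((l * b * l⁻¹) * c) * c⁻¹ := by rw [h2]
      _ = _ := by group
  have hlt : U < U ⊔ Z := lt_of_le_of_ne le_sup_left (fun h => hZU (h ▸ le_sup_right))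
  have hUZ : U ⊔ Z ≤ S := sup_le hU hZS
  have hcj : cj (c * l) (U ⊔ Z) ≤ S := by
    rw [cj, Subgroup.map_sup]
    refine sup_le ?_ ?_
    · rintro _ ⟨u, hu, rfl⟩
      show (c * l) * u * (c * l)⁻¹ ∈ _
      rw [hcl u hu]
      exact hU ((Subgroup.mem_normalizer_iff.1 hl u).1 hu)
    · have : (Z.map (MulAut.conj (c * l)).toMonoidHom) = cj c (cj l Z) := cj_mul c l Z
      rw [this]
      exact hcZ.trans inf_le_left
  have h1 := IH _ hUZ (card_lt_of_lt hlt) _ hcj
  have h2 := hRel.restrict h1 (le_sup_left : U ≤ U ⊔ Z)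
  exact hcongr h2 hcl

/-- The transport of a Sylow subgroup of `N(H)` onto `S ⊓ N(T)` for a conjugate `T` of `H`. -/
theorem exists_transport (S : Sylow p G) {T H Q : Subgroup G} (hfn : FN p (S : Subgroup G) T) {x : G}
    (hH : cj x T = H) (hQN : Q ≤ Nz H) (hQp : IsPGroup p Q) (hQi : ¬ p ∣ Q.relIndex (Nz H)) :
    ∃ τ : G, cj τ H = T ∧ cj τ Q = (S : Subgroup G) ⊓ Nz T := by
  subst hH
  have hN : cj x⁻¹ (Nz (cj x T)) = Nz T := by rw [Nz_cj, cj_inv_cj]
  have h1 : cj x⁻¹ Q ≤ Nz T := by rw [← hN]; exact cj_mono hQN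
  have h2 : ¬ p ∣ (cj x⁻¹ Q).relIndex (Nz T) := by
    rw [← hN, cj, cj, Subgroup.relIndex_map_map_of_injective _ _ (MulAut.conj x⁻¹).injective]
    exact hQi
  obtain ⟨h, hh, e⟩ := exists_conj_eq_of_sylow (inf_le_right : (S : Subgroup G) ⊓ Nz T ≤ Nz T)
    (isPGroup_inf S _) hfn h1 (IsPGroup_cj hQp x⁻¹) h2
  refine ⟨h * x⁻¹, ?_, ?_⟩
  · rw [cj_mul, cj_inv_cj]
    exact mem_Nz_iff.1 hh
  · rw [cj_mul, e]

/-- Conjugating a relation. -/
theorem IsRel.conj {Rel : Subgroup G → G → Prop} (hRel : IsRel Rel) (τ : G) :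
    IsRel (fun B g => Rel (cj τ B) (τ * g * τ⁻¹)) where
  restrict := fun h hC => hRel.restrict h (cj_mono hC)
  comp := by
    intro B g k h1 h2
    have e : cj (τ * g * τ⁻¹) (cj τ B) = cj τ (cj g B) := by
      rw [← cj_mul, ← cj_mul]
      congr 1
      group
    rw [← e] at h2
    have := hRel.comp h1 h2
    have e2 : τ * k * τ⁻¹ * (τ * g * τ⁻¹) = τ * (k * g) * τ⁻¹ := by group
    rwa [e2] at this
  inv := by
    intro B g h
    have e : cj (τ * g * τ⁻¹) (cj τ B) = cj τ (cj g B) := by
      rw [← cj_mul, ← cj_mul]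
      congr 1
      group
    have := hRel.inv h
    rw [e] at this
    have e2 : (τ * g * τ⁻¹)⁻¹ = τ * g⁻¹ * τ⁻¹ := by group
    rwa [e2] at this
  bot := by
    intro g
    have : cj τ (⊥ : Subgroup G) = ⊥ := Subgroup.map_bot _
    rw [this]
    exact hRel.bot _

/-- From a list of admissible steps to the relation. -/
theorem rel_of_list {Rel : Subgroup G → G → Prop} (hRel : IsRel Rel) {Q : Subgroup G}
    (hone : ∀ C : Subgroup G, C ≤ Q → Rel C 1)
    {A : Set G} (hA : ∀ y ∈ A, ∀ C : Subgroup G, C ≤ Q → cj y⁻¹ C ≤ Q → Rel C y⁻¹) :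
    ∀ (l : List G), (∀ y ∈ l, y ∈ A) → ∀ C : Subgroup G, (∀ j : ℕ, cj ((l.take j).prod)⁻¹ C ≤ Q) →
      Rel C (l.prod)⁻¹ := by
  intro l
  induction l with
  | nil =>
    intro _ C hC
    have := hC 0
    simp only [List.take_nil, List.prod_nil, inv_one, cj_one] at this
    simpa using hone C this
  | cons y l ih =>
    intro hl C hC
    have h0 : C ≤ Q := by
      have := hC 0
      simpa [cj_one] using this
    have h1 : cj y⁻¹ C ≤ Q := by
      have := hC 1
      simpa using this
    have h2 : Rel C y⁻¹ := hA y (hl y (by simp)) C h0 h1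
    have h3 : Rel (cj y⁻¹ C) (l.prod)⁻¹ := by
      refine ih (fun z hz => hl z (by simp [hz])) _ ?_
      intro j
      have := hC (j + 1)
      rw [List.take_succ_cons, List.prod_cons, mul_inv_rev, cj_mul] at this
      exact this
    have h4 := hRel.comp h2 h3
    rw [List.prod_cons, mul_inv_rev]
    exact h4

end Cfsg.Agent.Lib.Transfer.CentricControl
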