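import Mathlib
import Cfsg.Agent.Lib.Transfer.Basic

/-!
# Transfer into a cyclic 2-group quotient of a subgroup of odd index

Let `S ≤ G` have odd index and `T ⊴ S` with `S/T` a cyclic 2-group.  If the involution `x` lies in
`O²(G)`, the number of cosets `gS` with `g⁻¹ x g ∈ T` is odd; hence for every 2-subgroup `R` of
`C_G(x)`, there is `g` with `g⁻¹ x g ∈ T` and `g⁻¹ R g ≤ S`.
-/

set_option autoImplicit false

namespace Cfsg.Agent.Lib.Transfer.CyclicQuotientTwo

open MulAction Subgroup

variable {G : Type*} [Group G]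

/-- Independence of the coset representative. -/
theorem conj_mem_iff (S T : Subgroup G) (hTS : T ≤ S) [hTn : (T.subgroupOf S).Normal]
    (x : G) {g g' : G} (h : (g : G ⧸ S) = g') :
    g⁻¹ * x * g ∈ T ↔ g'⁻¹ * x * g' ∈ T := by
  have hs : g⁻¹ * g' ∈ S := QuotientGroup.eq.1 h
  obtain ⟨s, rfl⟩ : ∃ s : S, g' = g * s := ⟨⟨g⁻¹ * g', hs⟩, by simp⟩
  constructor
  · intro hm
    have hmS : g⁻¹ * x * g ∈ S := hTS hm
    have hm' : (⟨g⁻¹ * x * g, hmS⟩ : S) ∈ T.subgroupOf S := hm
    have := hTn.conj_mem _ hm' s⁻¹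
    rw [Subgroup.mem_subgroupOf] at this
    convert this using 1
    simp [mul_assoc]
  · intro hm
    have hmS : (g * s)⁻¹ * x * (g * s) ∈ S := hTS hm
    have hm' : (⟨(g * s)⁻¹ * x * (g * s), hmS⟩ : S) ∈ T.subgroupOf S := hm
    have := hTn.conj_mem _ hm' s
    rw [Subgroup.mem_subgroupOf] at this
    convert this using 1
    simp [mul_assoc]

/-- The parity count. -/
theorem odd_card_of_transfer
    [Finite G] (S T : Subgroup G) (hodd : Odd S.index) (hTS : T ≤ S)
    [hTn : (T.subgroupOf S).Normal] (hcyc : IsCyclic (S ⧸ T.subgroupOf S))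
    (hA2 : IsPGroup 2 (S ⧸ T.subgroupOf S)) (x : G) (hres : x ∈ Cfsg.pResidual 2 G) (hx : x ^ 2 = 1) :
    Odd (Nat.card {q : G ⧸ S // q.out⁻¹ * x * q.out ∈ T}) := by
  classical
  let _ : CommGroup (S ⧸ T.subgroupOf S) := IsCyclic.commGroup
  let ϕ : S →* (S ⧸ T.subgroupOf S) := QuotientGroup.mk' (T.subgroupOf S)
  have hϕ : ∀ s : S, ϕ s = 1 ↔ (s : G) ∈ T := by
    intro s
    change ((s : S) : S ⧸ T.subgroupOf S) = 1 ↔ _
    rw [QuotientGroup.eq_one_iff, Subgroup.mem_subgroupOf]
  have hV : MonoidHom.transfer ϕ x = 1 :=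
    Cfsg.Agent.Lib.Transfer.Basic.pResidual_le_ker hA2 (MonoidHom.transfer ϕ) hres
  have : Fintype (G ⧸ S) := Fintype.ofFinite _
  have : Fintype (Quotient (orbitRel (zpowers x) (G ⧸ S))) := Fintype.ofFinite _
  rw [MonoidHom.transfer_eq_prod_quotient_orbitRel_zpowers_quot] at hV
  set per : Quotient (orbitRel (zpowers x) (G ⧸ S)) → ℕ :=
    fun Q => Function.minimalPeriod (x • ·) Q.out with hper
  have hdvd : ∀ Q, per Q ∣ 2 := by
    intro Q
    apply Function.IsPeriodicPt.minimalPeriod_dvd
    change (x • ·)^[2] Q.out = Q.out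
    rw [smul_iterate, hx]
    exact one_smul _ _
  have h12 : ∀ Q, per Q = 1 ∨ per Q = 2 := fun Q => (Nat.dvd_prime Nat.prime_two).1 (hdvd Q)
  have hsum : S.index = ∑ Q, per Q := Subgroup.index_eq_sum_minimalPeriod S x
  -- the members of the product
  let f : Quotient (orbitRel (zpowers x) (G ⧸ S)) → (S ⧸ T.subgroupOf S) := fun Q =>
    ϕ ⟨Q.out.out⁻¹ * x ^ Function.minimalPeriod (x • ·) Q.out * Q.out.out,
      QuotientGroup.out_conj_pow_minimalPeriod_mem S x Q.out⟩
  have hf2 : ∀ Q, per Q = 2 → f Q = 1 := by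
    intro Q hQ
    rw [hϕ]
    have : Function.minimalPeriod (x • ·) Q.out = 2 := hQ
    simp [this, hx, T.one_mem]
  have hf1 : ∀ Q, per Q = 1 → (f Q = 1 ↔ Q.out.out⁻¹ * x * Q.out.out ∈ T) := by
    intro Q hQ
    rw [hϕ]
    have : Function.minimalPeriod (x • ·) Q.out = 1 := hQ
    simp [this]
  have hfsq : ∀ Q, f Q ^ 2 = 1 := by
    intro Q
    rcases h12 Q with hQ | hQ
    · rw [← map_pow, hϕ]
      have : Function.minimalPeriod (x • ·) Q.out = 1 := hQ
      have hc : (Q.out.out⁻¹ * x * Q.out.out) ^ 2 = 1 := by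
        have : (Q.out.out⁻¹ * x * Q.out.out) ^ 2 = Q.out.out⁻¹ * x ^ 2 * Q.out.out := by
          simp [pow_two, mul_assoc]
        rw [this, hx]
        group
      simp only [SubgroupClass.coe_pow]
      rw [this, pow_one, hc]
      exact T.one_mem
    · rw [hf2 Q hQ, one_pow]
  -- unique involution in a cyclic group
  have huniq : ∀ a b : S ⧸ T.subgroupOf S, a ^ 2 = 1 → b ^ 2 = 1 → a ≠ 1 → b ≠ 1 → a = b := by
    intro a b ha hb ha1 hb1
    have : Fintype (S ⧸ T.subgroupOf S) := Fintype.ofFinite _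
    have hcard := IsCyclic.card_pow_eq_one_le (α := S ⧸ T.subgroupOf S) (n := 2) (by norm_num)
    by_contra hab
    have hsub : ({1, a, b} : Finset (S ⧸ T.subgroupOf S)) ⊆
        Finset.univ.filter (fun y => y ^ 2 = 1) := by
      intro y hy
      simp only [Finset.mem_insert, Finset.mem_singleton] at hy
      simp only [Finset.mem_filter, Finset.mem_univ, true_and]
      rcases hy with rfl | rfl | rfl
      · simp
      · exact ha
      · exact hb
    have hc3 : ({1, a, b} : Finset (S ⧸ T.subgroupOf S)).card = 3 := by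
      rw [Finset.card_eq_three]
      exact ⟨1, a, b, ha1.symm, hb1.symm, hab, rfl⟩
    have := Finset.card_le_card hsub
    rw [hc3] at this
    have h2 : (Finset.univ.filter (fun y : S ⧸ T.subgroupOf S => y ^ 2 = 1)).card ≤ 2 := by
      convert hcard
    omega
  -- split the orbits
  let C1 : Finset (Quotient (orbitRel (zpowers x) (G ⧸ S))) := Finset.univ.filter (fun Q => per Q = 1)
  let B : Finset (Quotient (orbitRel (zpowers x) (G ⧸ S))) := C1.filter (fun Q => f Q ≠ 1)
  let A : Finset (Quotient (orbitRel (zpowers x) (G ⧸ S))) := C1.filter (fun Q => f Q = 1)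
  have hC1odd : Odd C1.card := by
    have hs : (∑ Q, per Q) = C1.card + ∑ Q ∈ Finset.univ.filter (fun Q => ¬ per Q = 1), per Q := by
      rw [← Finset.sum_filter_add_sum_filter_not Finset.univ (fun Q => per Q = 1)]
      congr 1
      rw [Finset.card_eq_sum_ones]
      apply Finset.sum_congr rfl
      intro q hq
      simpa using hq
    have he : Even (∑ Q ∈ Finset.univ.filter (fun Q => ¬ per Q = 1), per Q) := by
      apply Finset.even_sum
      intro Q hQ
      have hQ1 : per Q ≠ 1 := by simpa using hQ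
      rcases h12 Q with h | h
      · exact absurd h hQ1
      · rw [h]; exact even_two
    rw [hsum, hs] at hodd
    by_contra hc
    rw [Nat.not_odd_iff_even] at hc
    exact (Nat.not_even_iff_odd.2 hodd) (hc.add he)
  have hBeven : Even B.card := by
    by_contra hc
    rw [Nat.not_even_iff_odd] at hc
    obtain ⟨Q₀, hQ₀⟩ : B.Nonempty := by
      rw [← Finset.card_pos]
      exact hc.pos
    have hQ₀' : f Q₀ ≠ 1 := (Finset.mem_filter.1 hQ₀).2
    have hprod : ∏ Q, f Q = f Q₀ ^ B.card := by
      rw [← Finset.prod_const]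
      have hsub : B ⊆ Finset.univ := Finset.subset_univ _
      rw [← Finset.prod_subset hsub]
      · apply Finset.prod_congr rfl
        intro Q hQ
        exact huniq _ _ (hfsq Q) (hfsq Q₀) (Finset.mem_filter.1 hQ).2 hQ₀'
      · intro Q _ hQ
        by_contra hne
        apply hQ
        rcases h12 Q with h | h
        · exact Finset.mem_filter.2 ⟨Finset.mem_filter.2 ⟨Finset.mem_univ _, h⟩, hne⟩
        · exact absurd (hf2 Q h) hne
    have hV' : ∏ Q, f Q = 1 := hV
    rw [hprod] at hV'
    obtain ⟨m, hm⟩ := hc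
    rw [hm, pow_succ, pow_mul, hfsq Q₀, one_pow, one_mul] at hV'
    exact hQ₀' hV'
  have hAodd : Odd A.card := by
    have hAB : A.card + B.card = C1.card := by
      exact Finset.card_filter_add_card_filter_not (s := C1) (fun Q => f Q = 1)
    by_contra hc
    rw [Nat.not_odd_iff_even] at hc
    have := hc.add hBeven
    rw [hAB] at this
    exact (Nat.not_even_iff_odd.2 hC1odd) this
  -- bijection between `A` and the cosets
  have hbij : Nat.card {q : G ⧸ S // q.out⁻¹ * x * q.out ∈ T} = A.card := by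
    rw [Nat.card_eq_fintype_card, Fintype.card_subtype]
    symm
    apply Finset.card_bij (fun Q _ => Q.out)
    · intro Q hQ
      have hQ' := Finset.mem_filter.1 hQ
      have hQ1 := (Finset.mem_filter.1 hQ'.1).2
      simp only [Finset.mem_filter, Finset.mem_univ, true_and]
      exact (hf1 Q hQ1).1 hQ'.2
    · intro Q _ Q' _ h
      exact Quotient.out_inj.1 h
    · intro q hq
      have hq' : q.out⁻¹ * x * q.out ∈ T := (Finset.mem_filter.1 hq).2
      have hqS : q.out⁻¹ * x * q.out ∈ S := hTS hq'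
      have hfix : x • q = q := by
        have h5 : ((x * q.out : G) : G ⧸ S) = (q.out : G ⧸ S) := by
          rw [QuotientGroup.eq]
          have : (x * q.out)⁻¹ * q.out = (q.out⁻¹ * x * q.out)⁻¹ := by group
          rw [this]
          exact S.inv_mem hqS
        have h6 : x • ((q.out : G) : G ⧸ S) = ((x * q.out : G) : G ⧸ S) := rfl
        rw [QuotientGroup.out_eq'] at h5 h6
        rw [h6, h5]
      have hstab : zpowers x ≤ stabilizer G q := by
        rw [Subgroup.zpowers_le]
        exact hfix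
      let Q : Quotient (orbitRel (zpowers x) (G ⧸ S)) := Quotient.mk _ q
      have hQout : Q.out = q := by
        have hrel : Q.out ∈ orbit (zpowers x) q := Quotient.mk_out (s := orbitRel (zpowers x) (G ⧸ S)) q
        obtain ⟨z, hz⟩ := hrel
        rw [← hz]
        exact hstab z.2
      have hQ1 : per Q = 1 := by
        change Function.minimalPeriod (x • ·) Q.out = 1
        rw [hQout, Function.minimalPeriod_eq_one_iff_isFixedPt]
        exact hfix
      refine ⟨Q, ?_, hQout⟩
      apply Finset.mem_filter.2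
      refine ⟨Finset.mem_filter.2 ⟨Finset.mem_univ _, hQ1⟩, ?_⟩
      rw [hf1 Q hQ1, hQout]
      exact hq'
  rw [hbij]
  exact hAodd

/-- **Fixed point form.**  For a 2-subgroup `R` centralizing the involution `x` there is a coset of
`S` fixed by `R` whose representative conjugates `x` into `T`. -/
theorem exists_conj_mem_of_transfer
    [Finite G] (S T : Subgroup G) (hodd : Odd S.index) (hTS : T ≤ S)
    [hTn : (T.subgroupOf S).Normal] (hcyc : IsCyclic (S ⧸ T.subgroupOf S))
    (hA2 : IsPGroup 2 (S ⧸ T.subgroupOf S)) (x : G) (hres : x ∈ Cfsg.pResidual 2 G) (hx : x ^ 2 = 1)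
    (R : Subgroup G) (hR : IsPGroup 2 R) (hRx : ∀ r ∈ R, r * x = x * r) :
    ∃ g : G, g⁻¹ * x * g ∈ T ∧ ∀ r ∈ R, g⁻¹ * r * g ∈ S := by
  classical
  have hcard := odd_card_of_transfer S T hodd hTS hcyc hA2 x hres hx
  let Xs : SubMulAction R (G ⧸ S) :=
    { carrier := {q | q.out⁻¹ * x * q.out ∈ T}
      smul_mem' := by
        intro r q hq
        have h1 : ((r : G) * q.out : G) = (r : G) * q.out := rfl
        have h2 : (((r : G) * q.out : G) : G ⧸ S) = r • q := by
          have := QuotientGroup.out_eq' q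
          conv_rhs => rw [← this]
          rfl
        have h3 : (r • q).out = (r • q).out := rfl
        have h4 := (conj_mem_iff S T hTS x (g := (r : G) * q.out) (g' := (r • q).out)
          (by rw [h2, QuotientGroup.out_eq'])).1
        apply h4
        have : ((r : G) * q.out)⁻¹ * x * ((r : G) * q.out) = q.out⁻¹ * x * q.out := by
          have hc := hRx r r.2
          calc ((r : G) * q.out)⁻¹ * x * ((r : G) * q.out)
              = q.out⁻¹ * ((r : G)⁻¹ * (x * (r : G))) * q.out := by group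
            _ = q.out⁻¹ * ((r : G)⁻¹ * ((r : G) * x)) * q.out := by rw [hc]
            _ = q.out⁻¹ * x * q.out := by group
        rw [this]
        exact hq }
  have hmod := hR.card_modEq_card_fixedPoints Xs
  have hXodd : Odd (Nat.card Xs) := hcard
  have hfix : Odd (Nat.card (fixedPoints R Xs)) := by
    rw [Nat.odd_iff] at hXodd ⊢
    rw [← hXodd]
    exact hmod.symm
  obtain ⟨⟨q, hq⟩⟩ : Nonempty (fixedPoints R Xs) := by
    by_contra hne
    rw [not_nonempty_iff] at hne
    rw [Nat.card_of_isEmpty] at hfix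
    exact (by decide : ¬ Odd 0) hfix
  refine ⟨(q : G ⧸ S).out, q.2, ?_⟩
  intro r hr
  have hq' := hq ⟨r, hr⟩
  have hq'' : (⟨r, hr⟩ : R) • (q : G ⧸ S) = q := congrArg Subtype.val hq'
  have h5 : ((r * (q : G ⧸ S).out : G) : G ⧸ S) = ((q : G ⧸ S).out : G ⧸ S) := by
    rw [QuotientGroup.out_eq']
    conv_rhs => rw [← hq'']
    conv_rhs => rw [← QuotientGroup.out_eq' (q : G ⧸ S)]
    rfl
  have h6 := QuotientGroup.eq.1 h5
  have h7 : (r * (q : G ⧸ S).out)⁻¹ * (q : G ⧸ S).out = ((q : G ⧸ S).out⁻¹ * r * (q : G ⧸ S).out)⁻¹ := by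
    group
  rw [h7] at h6
  have := S.inv_mem h6
  rwa [inv_inv] at this

end Cfsg.Agent.Lib.Transfer.CyclicQuotientTwo
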