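import Mathlib
import Cfsg.Agent.S3707

/-!
Marggraf's theorem on Jordan sets, combinatorial core: the co-Jordan sets of a group form a
geometry, and once the lines of some contraction are thick the co-Jordan sets at least double.
-/

set_option autoImplicit false

namespace Cfsg.Agent.Lib.Transfer.Marggraf

open scoped Pointwise
open Finset

variable {G Ω : Type*} [Group G] [MulAction G Ω] [Fintype Ω] [DecidableEq Ω]

variable (G) in
/-- `S` is co-Jordan: its pointwise stabilizer is transitive on its complement. -/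
def CoJ (S : Finset Ω) : Prop :=
  ∀ x y, x ∉ S → y ∉ S → ∃ g : G, (∀ s ∈ S, g • s = s) ∧ g • x = y

variable (G) in
/-- A flat: a co-Jordan set missing at least two points. -/
def Fl (S : Finset Ω) : Prop := CoJ G S ∧ S.card + 2 ≤ Fintype.card Ω

variable (G) in
/-- `C` covers `S` among the flats. -/
def Cov (S C : Finset Ω) : Prop :=
  S ⊂ C ∧ Fl G C ∧ ∀ T, Fl G T → S ⊂ T → T ⊆ C → T = C

omit [Fintype Ω] in
theorem mem_smul_iff (g : G) (S : Finset Ω) (x : Ω) : x ∈ g • S ↔ g⁻¹ • x ∈ S := by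
  rw [Finset.mem_smul_finset]
  constructor
  · rintro ⟨y, hy, rfl⟩
    simpa using hy
  · intro h
    exact ⟨_, h, by simp⟩

omit [Fintype Ω] in
theorem smul_eq_of_fix {a : G} {S : Finset Ω} (h : ∀ s ∈ S, a • s = s) : a • S = S := by
  apply Finset.eq_of_subset_of_card_le
  · intro x hx
    obtain ⟨y, hy, rfl⟩ := Finset.mem_smul_finset.mp hx
    rw [h y hy]
    exact hy
  · rw [Finset.card_smul_finset]

omit [Fintype Ω] [DecidableEq Ω] in
theorem CoJ.smul {S : Finset Ω} [DecidableEq Ω] (h : CoJ G S) (g : G) : CoJ G (g • S) := by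
  intro x y hx hy
  rw [mem_smul_iff] at hx hy
  obtain ⟨a, ha, hay⟩ := h _ _ hx hy
  refine ⟨g * a * g⁻¹, ?_, ?_⟩
  · intro s hs
    rw [mem_smul_iff] at hs
    have := ha _ hs
    simp only [mul_smul]
    rw [this, smul_inv_smul]
  · simp only [mul_smul]
    rw [hay, smul_inv_smul]

omit [Fintype Ω] in
theorem CoJ.inter {S₁ S₂ : Finset Ω} (h₁ : CoJ G S₁) (h₂ : CoJ G S₂) {c : Ω} (hc₁ : c ∉ S₁)
    (hc₂ : c ∉ S₂) : CoJ G (S₁ ∩ S₂) := by
  have key : ∀ x, x ∉ S₁ ∩ S₂ → ∃ g : G, (∀ s ∈ S₁ ∩ S₂, g • s = s) ∧ g • x = c := by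
    intro x hx
    by_cases hx₁ : x ∈ S₁
    · have hx₂ : x ∉ S₂ := fun h => hx (Finset.mem_inter.mpr ⟨hx₁, h⟩)
      obtain ⟨g, hg, hgx⟩ := h₂ x c hx₂ hc₂
      exact ⟨g, fun s hs => hg s (Finset.mem_inter.mp hs).2, hgx⟩
    · obtain ⟨g, hg, hgx⟩ := h₁ x c hx₁ hc₁
      exact ⟨g, fun s hs => hg s (Finset.mem_inter.mp hs).1, hgx⟩
  intro x y hx hy
  obtain ⟨g, hg, hgx⟩ := key x hx
  obtain ⟨g', hg', hgy⟩ := key y hy
  refine ⟨g'⁻¹ * g, ?_, ?_⟩
  · intro s hs
    rw [mul_smul, hg s hs, inv_smul_eq_iff, hg' s hs]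
  · rw [mul_smul, hgx, inv_smul_eq_iff, hgy]

theorem Fl.smul {S : Finset Ω} (h : Fl G S) (g : G) : Fl G (g • S) :=
  ⟨h.1.smul g, by rw [Finset.card_smul_finset]; exact h.2⟩

theorem Fl.inter {S₁ S₂ : Finset Ω} (h₁ : Fl G S₁) (h₂ : Fl G S₂) {c : Ω} (hc₁ : c ∉ S₁)
    (hc₂ : c ∉ S₂) : Fl G (S₁ ∩ S₂) :=
  ⟨h₁.1.inter h₂.1 hc₁ hc₂, by
    have := Finset.card_le_card (Finset.inter_subset_left (s₁ := S₁) (s₂ := S₂))
    have := h₁.2
    omega⟩

theorem Fl.exists_not_mem {S : Finset Ω} (h : Fl G S) : ∃ x, x ∉ S := by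
  by_contra hcon
  push Not at hcon
  have : S = Finset.univ := Finset.eq_univ_iff_forall.mpr hcon
  have h2 := h.2
  rw [this, Finset.card_univ] at h2
  omega

omit [Fintype Ω] in
theorem smul_ssubset {S C : Finset Ω} (h : S ⊂ C) (g : G) : g • S ⊂ g • C := by
  refine ⟨Finset.smul_finset_subset_smul_finset h.1, fun h' => h.2 ?_⟩
  intro x hx
  have : g • x ∈ g • S := h' (Finset.smul_mem_smul_finset hx)
  exact (Finset.smul_mem_smul_finset_iff g).mp this

theorem Cov.smul {S C : Finset Ω} (h : Cov G S C) (g : G) : Cov G (g • S) (g • C) := by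
  refine ⟨smul_ssubset h.1 g, h.2.1.smul g, ?_⟩
  intro T hT hST hTC
  have h1 := h.2.2 (g⁻¹ • T) (hT.smul g⁻¹) ?_ ?_
  · rw [← h1, smul_inv_smul]
  · have := smul_ssubset hST g⁻¹
    rwa [inv_smul_smul] at this
  · have := Finset.smul_finset_subset_smul_finset (a := g⁻¹) hTC
    rwa [inv_smul_smul] at this

/-- The block geometry at level `r`: a Steiner system of co-Jordan sets. -/
structure Steiner (G : Type*) [Group G] [MulAction G Ω] (B : Finset Ω → Prop) (r e : ℕ) : Prop where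
  hr : 1 ≤ r
  he : 2 ≤ e
  fl : ∀ C, B C → Fl G C
  card : ∀ C, B C → C.card = r + e
  ex : ∀ Y : Finset Ω, Y.card = r + 1 → ∃ C, B C ∧ Y ⊆ C
  un : ∀ C₁ C₂ Y, B C₁ → B C₂ → Y.card = r + 1 → Y ⊆ C₁ → Y ⊆ C₂ → C₁ = C₂
  closed : ∀ S C Y, Fl G S → B C → Y.card = r + 1 → Y ⊆ S → Y ⊆ C → C ⊆ S

variable (G) in
/-- Flats together with the whole set. -/
def FlT (S : Finset Ω) : Prop := Fl G S ∨ S = Finset.univ

section core

variable {B : Finset Ω → Prop} {r e : ℕ}

theorem Steiner.closedT (hS : Steiner G B r e) {S C Y : Finset Ω} (h : FlT G S) (hC : B C)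
    (hY : Y.card = r + 1) (hYS : Y ⊆ S) (hYC : Y ⊆ C) : C ⊆ S := by
  rcases h with h | rfl
  · exact hS.closed S C Y h hC hY hYS hYC
  · exact Finset.subset_univ _

theorem Steiner.extra (hS : Steiner G B r e) {C Y : Finset Ω} (hC : B C) (hY : Y.card = r + 1) :
    ∃ w ∈ C, w ∉ Y := by
  by_contra hcon
  push Not at hcon
  have h1 := Finset.card_le_card (show C ⊆ Y from hcon)
  have h2 := hS.card C hC
  have h3 := hS.he
  omega

/-- Two flats having `r - 1` points in common cannot cover the whole set. -/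
theorem Steiner.overlap (hS : Steiner G B r e) {S₁ S₂ Z : Finset Ω} (h₁ : Fl G S₁) (h₂ : Fl G S₂)
    (hZ₁ : Z ⊆ S₁) (hZ₂ : Z ⊆ S₂) (hZ : Z.card + 1 = r) : ∃ c, c ∉ S₁ ∧ c ∉ S₂ := by
  by_contra hcon
  push Not at hcon
  obtain ⟨x, hx⟩ := h₁.exists_not_mem
  obtain ⟨y, hy⟩ := h₂.exists_not_mem
  have hx₂ := hcon x hx
  have hy₁ : y ∈ S₁ := by
    by_contra h
    exact hy (hcon y h)
  have hxy : x ≠ y := fun h => hx (h ▸ hy₁)
  have hxZ : x ∉ Z := fun h => hx (hZ₁ h)
  have hyZ : y ∉ Z := fun h => hy (hZ₂ h)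
  have hYc : (insert x (insert y Z)).card = r + 1 := by
    rw [Finset.card_insert_of_notMem, Finset.card_insert_of_notMem hyZ]
    · omega
    · simp [hxy, hxZ]
  obtain ⟨W, hW, hYW⟩ := hS.ex _ hYc
  obtain ⟨w, hwW, hwY⟩ := hS.extra hW hYc
  simp only [Finset.mem_insert, not_or] at hwY
  obtain ⟨hwx, hwy, hwZ⟩ := hwY
  have hxW : x ∈ W := hYW (by simp)
  have hyW : y ∈ W := hYW (by simp)
  have hZW : Z ⊆ W := fun z hz => hYW (by simp [hz])
  by_cases hw₁ : w ∈ S₁
  · have hc : (insert y (insert w Z)).card = r + 1 := by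
      rw [Finset.card_insert_of_notMem, Finset.card_insert_of_notMem hwZ]
      · omega
      · simp [Ne.symm hwy, hyZ]
    have hsub := hS.closed S₁ W _ h₁ hW hc
      (by
        intro v hv
        simp only [Finset.mem_insert] at hv
        rcases hv with rfl | rfl | hv
        · exact hy₁
        · exact hw₁
        · exact hZ₁ hv)
      (by
        intro v hv
        simp only [Finset.mem_insert] at hv
        rcases hv with rfl | rfl | hv
        · exact hyW
        · exact hwW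
        · exact hZW hv)
    exact hx (hsub hxW)
  · have hw₂ := hcon w hw₁
    have hc : (insert x (insert w Z)).card = r + 1 := by
      rw [Finset.card_insert_of_notMem, Finset.card_insert_of_notMem hwZ]
      · omega
      · simp [Ne.symm hwx, hxZ]
    have hsub := hS.closed S₂ W _ h₂ hW hc
      (by
        intro v hv
        simp only [Finset.mem_insert] at hv
        rcases hv with rfl | rfl | hv
        · exact hx₂
        · exact hw₂
        · exact hZ₂ hv)
      (by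
        intro v hv
        simp only [Finset.mem_insert] at hv
        rcases hv with rfl | rfl | hv
        · exact hxW
        · exact hwW
        · exact hZW hv)
    exact hy (hsub hyW)

theorem Steiner.inter_fl (hS : Steiner G B r e) {S₁ S₂ S₀ : Finset Ω} (h₁ : Fl G S₁) (h₂ : Fl G S₂)
    (h01 : S₀ ⊆ S₁) (h02 : S₀ ⊆ S₂) (h0 : r ≤ S₀.card + 1) : Fl G (S₁ ∩ S₂) := by
  obtain ⟨Z, hZ, hZc⟩ := Finset.exists_subset_card_eq (s := S₀) (n := r - 1) (by omega)
  have hr := hS.hr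
  obtain ⟨c, hc₁, hc₂⟩ := hS.overlap h₁ h₂ (hZ.trans h01) (hZ.trans h02) (by omega)
  exact h₁.inter h₂ hc₁ hc₂

theorem Steiner.cov_inter (hS : Steiner G B r e) {S₀ S₁ S₂ : Finset Ω} (h₁ : Cov G S₀ S₁)
    (h₂ : Cov G S₀ S₂) (hne : S₁ ≠ S₂) (h0 : r ≤ S₀.card + 1) : S₁ ∩ S₂ = S₀ := by
  by_contra hcon
  have hfl := hS.inter_fl h₁.2.1 h₂.2.1 h₁.1.1 h₂.1.1 h0
  have hsub : S₀ ⊆ S₁ ∩ S₂ := Finset.subset_inter h₁.1.1 h₂.1.1
  have hss : S₀ ⊂ S₁ ∩ S₂ := by
    refine Finset.ssubset_iff_subset_ne.mpr ⟨hsub, fun h => hcon h.symm⟩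
  have e1 := h₁.2.2 _ hfl hss Finset.inter_subset_left
  have e2 := h₂.2.2 _ hfl hss Finset.inter_subset_right
  exact hne (e1.symm.trans e2)

theorem Steiner.cov_sub (hS : Steiner G B r e) {S₀ S₁ T : Finset Ω} (h₁ : Cov G S₀ S₁)
    (hT : FlT G T) (h0T : S₀ ⊆ T) {v : Ω} (hv₁ : v ∈ S₁) (hvT : v ∈ T) (hv0 : v ∉ S₀)
    (h0 : r ≤ S₀.card + 1) : S₁ ⊆ T := by
  rcases hT with hT | rfl
  · have hfl := hS.inter_fl h₁.2.1 hT h₁.1.1 h0T h0
    have hss : S₀ ⊂ S₁ ∩ T := by
      refine Finset.ssubset_iff_of_subset (Finset.subset_inter h₁.1.1 h0T) |>.mpr ?_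
      exact ⟨v, Finset.mem_inter.mpr ⟨hv₁, hvT⟩, hv0⟩
    have e1 := h₁.2.2 _ hfl hss Finset.inter_subset_left
    rw [← e1]
    exact Finset.inter_subset_right
  · exact Finset.subset_univ _

/-- Doubling of the increments. -/
theorem Steiner.double (hS : Steiner G B r e) {S₀ S T : Finset Ω} (h0fl : Fl G S₀)
    (hc : Cov G S₀ S) (hT : FlT G T) (hST : S ⊂ T) (h0 : r ≤ S₀.card + 1) :
    2 * (S.card - S₀.card) + S.card ≤ T.card := by
  have hSfl := hc.2.1
  have hS0S : S₀ ⊂ S := hc.1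
  obtain ⟨y, hyS, hy0⟩ := (Finset.ssubset_iff_of_subset hS0S.1).mp hS0S
  obtain ⟨x, hxT, hxS⟩ := (Finset.ssubset_iff_of_subset hST.1).mp hST
  have hx0 : x ∉ S₀ := fun h => hxS (hS0S.1 h)
  have h0T : S₀ ⊆ T := hS0S.1.trans hST.1
  -- translates of `S` by the stabilizer of `S₀`
  have htr : ∀ v, v ∉ S₀ → ∃ S' : Finset Ω, Cov G S₀ S' ∧ v ∈ S' ∧ S'.card = S.card := by
    intro v hv
    obtain ⟨a, ha, hav⟩ := h0fl.1 y v hy0 hv
    refine ⟨a • S, ?_, ?_, Finset.card_smul_finset _ _⟩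
    · have := hc.smul a
      rwa [smul_eq_of_fix ha] at this
    · rw [← hav]
      exact Finset.smul_mem_smul_finset hyS
  obtain ⟨Sx, hSx, hxSx, hSxc⟩ := htr x hx0
  have hSxT : Sx ⊆ T := hS.cov_sub hSx hT h0T hxSx hxT hx0 h0
  have hSxne : Sx ≠ S := fun h => hxS (h ▸ hxSx)
  have hSxS : Sx ∩ S = S₀ := hS.cov_inter hSx hc hSxne h0
  obtain ⟨Z, hZ, hZc⟩ := Finset.exists_subset_card_eq (s := S₀) (n := r - 1) (by omega)
  have hr := hS.hr
  have hxy : x ≠ y := fun h => hxS (h ▸ hyS)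
  have hxZ : x ∉ Z := fun h => hx0 (hZ h)
  have hyZ : y ∉ Z := fun h => hy0 (hZ h)
  have hYc : (insert x (insert y Z)).card = r + 1 := by
    rw [Finset.card_insert_of_notMem, Finset.card_insert_of_notMem hyZ]
    · omega
    · simp [hxy, hxZ]
  obtain ⟨W, hW, hYW⟩ := hS.ex _ hYc
  obtain ⟨w, hwW, hwY⟩ := hS.extra hW hYc
  simp only [Finset.mem_insert, not_or] at hwY
  obtain ⟨hwx, hwy, hwZ⟩ := hwY
  have hxW : x ∈ W := hYW (by simp)
  have hyW : y ∈ W := hYW (by simp)
  have hZW : Z ⊆ W := fun z hz => hYW (by simp [hz])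
  have hWT : W ⊆ T := hS.closedT hT hW hYc
    (by
      intro v hv
      simp only [Finset.mem_insert] at hv
      rcases hv with rfl | rfl | hv
      · exact hxT
      · exact hST.1 hyS
      · exact h0T (hZ hv))
    hYW
  have hwT : w ∈ T := hWT hwW
  have hwS : w ∉ S := by
    intro hw
    have hc' : (insert y (insert w Z)).card = r + 1 := by
      rw [Finset.card_insert_of_notMem, Finset.card_insert_of_notMem hwZ]
      · omega
      · simp [Ne.symm hwy, hyZ]
    have hsub := hS.closed S W _ hSfl hW hc'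
      (by
        intro v hv
        simp only [Finset.mem_insert] at hv
        rcases hv with rfl | rfl | hv
        · exact hyS
        · exact hw
        · exact hS0S.1 (hZ hv))
      (by
        intro v hv
        simp only [Finset.mem_insert] at hv
        rcases hv with rfl | rfl | hv
        · exact hyW
        · exact hwW
        · exact hZW hv)
    exact hxS (hsub hxW)
  have hwSx : w ∉ Sx := by
    intro hw
    have hc' : (insert x (insert w Z)).card = r + 1 := by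
      rw [Finset.card_insert_of_notMem, Finset.card_insert_of_notMem hwZ]
      · omega
      · simp [Ne.symm hwx, hxZ]
    have hsub := hS.closed Sx W _ hSx.2.1 hW hc'
      (by
        intro v hv
        simp only [Finset.mem_insert] at hv
        rcases hv with rfl | rfl | hv
        · exact hxSx
        · exact hw
        · exact hSx.1.1 (hZ hv))
      (by
        intro v hv
        simp only [Finset.mem_insert] at hv
        rcases hv with rfl | rfl | hv
        · exact hxW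
        · exact hwW
        · exact hZW hv)
    have : y ∈ Sx ∩ S := Finset.mem_inter.mpr ⟨hsub hyW, hyS⟩
    rw [hSxS] at this
    exact hy0 this
  have hw0 : w ∉ S₀ := fun h => hwS (hS0S.1 h)
  obtain ⟨Sw, hSw, hwSw, hSwc⟩ := htr w hw0
  have hSwT : Sw ⊆ T := hS.cov_sub hSw hT h0T hwSw hwT hw0 h0
  have hSwS : Sw ∩ S = S₀ := hS.cov_inter hSw hc (fun h => hwS (h ▸ hwSw)) h0
  have hSwx : Sw ∩ Sx = S₀ := hS.cov_inter hSw hSx (fun h => hwSx (h ▸ hwSw)) h0
  have hsub : (Sx \ S₀) ∪ (Sw \ S₀) ⊆ T \ S := by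
    intro v hv
    rw [Finset.mem_union] at hv
    rcases hv with hv | hv
    · obtain ⟨hv1, hv2⟩ := Finset.mem_sdiff.mp hv
      refine Finset.mem_sdiff.mpr ⟨hSxT hv1, fun h => hv2 ?_⟩
      rw [← hSxS]
      exact Finset.mem_inter.mpr ⟨hv1, h⟩
    · obtain ⟨hv1, hv2⟩ := Finset.mem_sdiff.mp hv
      refine Finset.mem_sdiff.mpr ⟨hSwT hv1, fun h => hv2 ?_⟩
      rw [← hSwS]
      exact Finset.mem_inter.mpr ⟨hv1, h⟩
  have hdisj : Disjoint (Sx \ S₀) (Sw \ S₀) := by
    rw [Finset.disjoint_left]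
    intro v hv hv'
    obtain ⟨hv1, hv2⟩ := Finset.mem_sdiff.mp hv
    obtain ⟨hv3, -⟩ := Finset.mem_sdiff.mp hv'
    apply hv2
    rw [← hSwx]
    exact Finset.mem_inter.mpr ⟨hv3, hv1⟩
  have hcard := Finset.card_le_card hsub
  rw [Finset.card_union_of_disjoint hdisj, Finset.card_sdiff_of_subset hSx.1.1,
    Finset.card_sdiff_of_subset hSw.1.1, Finset.card_sdiff_of_subset hST.1, hSxc, hSwc] at hcard
  have := Finset.card_le_card hST.1
  omega

/-- The Tits inequality for a block. -/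
theorem Steiner.tits (hS : Steiner G B r e) {C T : Finset Ω} (hC : B C) (hT : FlT G T)
    (hCT : C ⊂ T) : 2 * C.card ≤ T.card := by
  obtain ⟨x, hxT, hxC⟩ := (Finset.ssubset_iff_of_subset hCT.1).mp hCT
  have hcC := hS.card C hC
  have he := hS.he
  have hr := hS.hr
  obtain ⟨Y, hYC, hYc⟩ := Finset.exists_subset_card_eq (s := C) (n := r + 1) (by omega)
  have hxY : x ∉ Y := fun h => hxC (hYC h)
  have hYyc : ∀ y ∈ Y, (insert x (Y.erase y)).card = r + 1 := by
    intro y hy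
    rw [Finset.card_insert_of_notMem (fun h => hxY (Finset.mem_of_mem_erase h)),
      Finset.card_erase_of_mem hy, hYc]
    omega
  have hex : ∀ y ∈ Y, ∃ W, B W ∧ insert x (Y.erase y) ⊆ W := fun y hy => hS.ex _ (hYyc y hy)
  choose! W hW hYW using hex
  have hxW : ∀ y ∈ Y, x ∈ W y := fun y hy => hYW y hy (Finset.mem_insert_self _ _)
  have hEW : ∀ y ∈ Y, ∀ v ∈ Y, v ≠ y → v ∈ W y := fun y hy v hv hvy =>
    hYW y hy (Finset.mem_insert_of_mem (Finset.mem_erase.mpr ⟨hvy, hv⟩))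
  have hWT : ∀ y ∈ Y, W y ⊆ T := by
    intro y hy
    refine hS.closedT hT (hW y hy) (hYyc y hy) ?_ (hYW y hy)
    intro v hv
    rw [Finset.mem_insert] at hv
    rcases hv with rfl | hv
    · exact hxT
    · exact hCT.1 (hYC (Finset.mem_of_mem_erase hv))
  have hyW : ∀ y ∈ Y, y ∉ W y := by
    intro y hy h
    have hsub : Y ⊆ W y := by
      intro v hv
      by_cases hvy : v = y
      · rw [hvy]
        exact h
      · exact hEW y hy v hv hvy
    have := hS.un _ _ Y (hW y hy) hC hYc hsub hYC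
    exact hxC (this ▸ hxW y hy)
  let O : Ω → Finset Ω := fun y => W y \ insert x (Y.erase y)
  have hOc : ∀ y ∈ Y, (O y).card = e - 1 := by
    intro y hy
    have h1 := Finset.card_sdiff_of_subset (hYW y hy)
    have h2 := hS.card _ (hW y hy)
    have h3 := hYyc y hy
    show (W y \ insert x (Y.erase y)).card = e - 1
    omega
  have hOsub : ∀ y ∈ Y, ∀ v ∈ O y, v ∈ T ∧ v ∉ C ∧ v ≠ x := by
    intro y hy v hv
    obtain ⟨hv1, hv2⟩ := Finset.mem_sdiff.mp hv
    rw [Finset.mem_insert, not_or] at hv2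
    obtain ⟨hvx, hvE⟩ := hv2
    refine ⟨hWT y hy hv1, ?_, hvx⟩
    intro hvC
    have hvY : v ∉ Y := by
      intro hvY
      by_cases hvy : v = y
      · exact hyW y hy (hvy ▸ hv1)
      · exact hvE (Finset.mem_erase.mpr ⟨hvy, hvY⟩)
    have hc' : (insert v (Y.erase y)).card = r + 1 := by
      rw [Finset.card_insert_of_notMem hvE, Finset.card_erase_of_mem hy, hYc]
      omega
    have := hS.un _ _ _ (hW y hy) hC hc'
      (by
        intro u hu
        rw [Finset.mem_insert] at hu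
        rcases hu with rfl | hu
        · exact hv1
        · exact (hYW y hy) (Finset.mem_insert_of_mem hu))
      (by
        intro u hu
        rw [Finset.mem_insert] at hu
        rcases hu with rfl | hu
        · exact hvC
        · exact hYC (Finset.mem_of_mem_erase hu))
    exact hxC (this ▸ hxW y hy)
  have hOdisj : ∀ y ∈ Y, ∀ y' ∈ Y, y ≠ y' → Disjoint (O y) (O y') := by
    intro y hy y' hy' hne
    rw [Finset.disjoint_left]
    intro v hv hv'
    obtain ⟨hv1, hv2⟩ := Finset.mem_sdiff.mp hv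
    obtain ⟨hv3, -⟩ := Finset.mem_sdiff.mp hv'
    rw [Finset.mem_insert, not_or] at hv2
    obtain ⟨hvx, hvE⟩ := hv2
    have hy'E : y' ∈ Y.erase y := Finset.mem_erase.mpr ⟨Ne.symm hne, hy'⟩
    have hc' : (insert v (insert x ((Y.erase y).erase y'))).card = r + 1 := by
      rw [Finset.card_insert_of_notMem, Finset.card_insert_of_notMem,
        Finset.card_erase_of_mem hy'E, Finset.card_erase_of_mem hy, hYc]
      · omega
      · exact fun h => hxY (Finset.mem_of_mem_erase (Finset.mem_of_mem_erase h))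
      · simp only [Finset.mem_insert, not_or]
        exact ⟨hvx, fun h => hvE (Finset.mem_of_mem_erase h)⟩
    have heq := hS.un _ _ _ (hW y hy) (hW y' hy') hc'
      (by
        intro u hu
        simp only [Finset.mem_insert, Finset.mem_erase] at hu
        rcases hu with rfl | rfl | hu
        · exact hv1
        · exact hxW y hy
        · exact hEW y hy u hu.2.2 hu.2.1)
      (by
        intro u hu
        simp only [Finset.mem_insert, Finset.mem_erase] at hu
        rcases hu with rfl | rfl | hu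
        · exact hv3
        · exact hxW y' hy'
        · exact hEW y' hy' u hu.2.2 hu.1)
    exact hyW y' hy' (heq ▸ hEW y hy y' hy' (Ne.symm hne))
  have hU : Y.biUnion O ⊆ (T \ C).erase x := by
    intro v hv
    obtain ⟨y, hy, hvy⟩ := Finset.mem_biUnion.mp hv
    obtain ⟨h1, h2, h3⟩ := hOsub y hy v hvy
    exact Finset.mem_erase.mpr ⟨h3, Finset.mem_sdiff.mpr ⟨h1, h2⟩⟩
  have hcard := Finset.card_le_card hU
  rw [Finset.card_biUnion hOdisj, Finset.sum_congr rfl hOc, Finset.sum_const, smul_eq_mul, hYc,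
    Finset.card_erase_of_mem (Finset.mem_sdiff.mpr ⟨hxT, hxC⟩),
    Finset.card_sdiff_of_subset hCT.1] at hcard
  have hle := Finset.card_lt_card hCT
  obtain ⟨e', rfl⟩ : ∃ e', e = e' + 2 := ⟨e - 2, by omega⟩
  have hm : (r + 1) * (e' + 2 - 1) = r * e' + r + e' + 1 := by
    have : e' + 2 - 1 = e' + 1 := by omega
    rw [this]
    ring
  rw [hm] at hcard
  have : 0 ≤ r * e' := Nat.zero_le _
  omega

/-- Flats containing a block at least double. -/
theorem Steiner.flat_double (hS : Steiner G B r e) :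
    ∀ (n : ℕ) (S : Finset Ω), S.card = n → Fl G S → (∃ C, B C ∧ C ⊆ S) →
      ∀ T, FlT G T → S ⊂ T → 2 * S.card ≤ T.card := by
  classical
  intro n
  induction n using Nat.strong_induction_on with
  | _ n ih =>
    intro S hSn hSfl hex T hT hST
    obtain ⟨C, hC, hCS⟩ := hex
    by_cases hCeq : C = S
    · exact hS.tits (hCeq ▸ hC) hT hST
    have hCss : C ⊂ S := Finset.ssubset_iff_subset_ne.mpr ⟨hCS, hCeq⟩
    let F : Finset (Finset Ω) := Finset.univ.filter (fun T' => Fl G T' ∧ C ⊆ T' ∧ T' ⊂ S)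
    have hF : F.Nonempty := ⟨C, by
      simp only [F, Finset.mem_filter, Finset.mem_univ, true_and]
      exact ⟨hS.fl C hC, subset_rfl, hCss⟩⟩
    obtain ⟨S₀, hS₀, hmax⟩ := Finset.exists_max_image F Finset.card hF
    simp only [F, Finset.mem_filter, Finset.mem_univ, true_and] at hS₀
    obtain ⟨hS₀fl, hCS₀, hS₀S⟩ := hS₀
    have hcov : Cov G S₀ S := by
      refine ⟨hS₀S, hSfl, ?_⟩
      intro T' hT' hS₀T' hT'S
      by_contra hne
      have hT'ss : T' ⊂ S := Finset.ssubset_iff_subset_ne.mpr ⟨hT'S, hne⟩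
      have hmem : T' ∈ F := by
        simp only [F, Finset.mem_filter, Finset.mem_univ, true_and]
        exact ⟨hT', hCS₀.trans hS₀T'.1, hT'ss⟩
      have h1 := hmax T' hmem
      have h2 := Finset.card_lt_card hS₀T'
      omega
    have hr0 : r ≤ S₀.card + 1 := by
      have h1 := Finset.card_le_card hCS₀
      have h2 := hS.card C hC
      omega
    have hih := ih S₀.card (by rw [← hSn]; exact Finset.card_lt_card hS₀S) S₀ rfl hS₀fl
      ⟨C, hC, hCS₀⟩ S (Or.inl hSfl) hS₀S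
    have hd := hS.double hS₀fl hcov hT hST hr0
    omega

/-- A flat containing a block has at most half of the points. -/
theorem Steiner.half (hS : Steiner G B r e) {Γ C : Finset Ω} (hΓ : Fl G Γ) (hC : B C)
    (hCΓ : C ⊆ Γ) : 2 * Γ.card ≤ Fintype.card Ω := by
  have hss : Γ ⊂ Finset.univ := by
    obtain ⟨x, hx⟩ := hΓ.exists_not_mem
    exact (Finset.ssubset_iff_of_subset (Finset.subset_univ _)).mpr ⟨x, Finset.mem_univ _, hx⟩
  have := hS.flat_double _ Γ rfl hΓ ⟨C, hC, hCΓ⟩ Finset.univ (Or.inr rfl) hss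
  rwa [Finset.card_univ] at this

end core


section level

omit [DecidableEq Ω] in
/-- Bridge to the double count of `S3707`. -/
theorem count_contra [DecidableEq Ω] (U₀ : Finset Ω) (b : Ω) (hb : b ∉ U₀) (D : Finset Ω) (hbD : b ∉ D)
    (hDU : Disjoint D U₀)
    (htwo : ∀ a₁ a₂ c₁ c₂, a₁ ∉ U₀ → a₂ ∉ U₀ → c₁ ∉ U₀ → c₂ ∉ U₀ → a₁ ≠ a₂ → c₁ ≠ c₂ →
      ∃ g : G, (∀ s ∈ U₀, g • s = s) ∧ g • a₁ = c₁ ∧ g • a₂ = c₂)
    (hblock : ∀ h : G, (∀ s ∈ U₀, h • s = s) → h • b = b → h • D = D ∨ Disjoint (h • D) D)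
    (hJ : ∀ x ∈ D, ∀ y ∈ D, ∃ g : G, (∀ z, z ∉ D → g • z = z) ∧ g • x = y)
    (h2 : 2 ≤ D.card) (hcard : 2 * D.card + U₀.card + 1 ≤ Fintype.card Ω) : False := by
  classical
  let P : Subgroup G := fixingSubgroup G (U₀ : Set Ω)
  have hP : ∀ g : P, ∀ s ∈ U₀, (g : G) • s = s := by
    intro g s hs
    exact (mem_fixingSubgroup_iff G).mp g.2 s (by exact_mod_cast hs)
  have hPstay : ∀ (g : P) (x : Ω), x ∉ U₀ → (g : G) • x ∉ U₀ := by
    intro g x hx h
    have h1 := hP g _ h
    exact hx ((smul_left_cancel _ h1) ▸ h)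
  let act : MulAction P {x : Ω // x ∉ U₀} :=
    { smul := fun g x => ⟨(g : G) • x.1, hPstay g x.1 x.2⟩
      one_smul := fun x => Subtype.ext (one_smul G x.1)
      mul_smul := fun g g' x => Subtype.ext (mul_smul (g : G) (g' : G) x.1) }
  have hsmul : ∀ (g : P) (x : {x : Ω // x ∉ U₀}), ((g • x : {x : Ω // x ∉ U₀}) : Ω) = (g : G) • x.1 :=
    fun _ _ => rfl
  have hsub : ∀ x ∈ D, x ∉ U₀ := fun x hx => Finset.disjoint_left.mp hDU hx
  let B₀ : Finset {x : Ω // x ∉ U₀} := D.subtype (fun x => x ∉ U₀)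
  have hmemB₀ : ∀ x : {x : Ω // x ∉ U₀}, x ∈ B₀ ↔ x.1 ∈ D := fun x => Finset.mem_subtype
  have hB₀card : B₀.card = D.card := by
    simp only [B₀, Finset.card_subtype]
    congr 1
    exact Finset.filter_true_of_mem hsub
  have hcardΩ : Fintype.card {x : Ω // x ∉ U₀} = Fintype.card Ω - U₀.card := by
    rw [Fintype.card_subtype_compl, Fintype.card_coe]
  have hle : U₀.card ≤ Fintype.card Ω := Finset.card_le_univ _
  obtain ⟨x₀, hx₀⟩ : D.Nonempty := Finset.card_pos.mp (by omega)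
  have hJ' : ∀ x ∈ B₀, ∀ y ∈ B₀, ∃ g : P, (∀ z, z ∉ B₀ → g • z = z) ∧ g • x = y := by
    intro x hx y hy
    obtain ⟨g, hg, hgx⟩ := hJ x.1 ((hmemB₀ x).mp hx) y.1 ((hmemB₀ y).mp hy)
    have hgP : g ∈ P := by
      refine (mem_fixingSubgroup_iff G).mpr ?_
      intro s hs
      refine hg s ?_
      intro hsD
      exact hsub s hsD (by exact_mod_cast hs)
    refine ⟨⟨g, hgP⟩, ?_, Subtype.ext hgx⟩
    intro z hz
    exact Subtype.ext (hg z.1 (fun h => hz ((hmemB₀ z).mpr h)))
  refine Cfsg.Agent.S3707.block_count_contra (G := P) (Ω := {x : Ω // x ∉ U₀}) ?_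
    ⟨b, hb⟩ ⟨x₀, hsub x₀ hx₀⟩ B₀ ?_ ?_ ?_ D.card hB₀card h2 ?_ B₀ ?_ ?_ hJ'
  · intro a b' c d hab hcd
    obtain ⟨g, hg, h1, h2⟩ := htwo a.1 b'.1 c.1 d.1 a.2 b'.2 c.2 d.2
      (fun h => hab (Subtype.ext h)) (fun h => hcd (Subtype.ext h))
    have hgP : g ∈ P := (mem_fixingSubgroup_iff G).mpr (fun s hs => hg s (by exact_mod_cast hs))
    exact ⟨⟨g, hgP⟩, Subtype.ext h1, Subtype.ext h2⟩
  · intro h
    exact hbD ((hmemB₀ _).mp h)
  · exact (hmemB₀ _).mpr hx₀
  · intro h hh
    have hh' : (h : G) • b = b := congrArg Subtype.val hh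
    have key : ∀ x : {x : Ω // x ∉ U₀}, x ∈ h • B₀ ↔ x.1 ∈ (h : G) • D := by
      intro x
      rw [Finset.mem_smul_finset, Finset.mem_smul_finset]
      constructor
      · rintro ⟨y, hy, rfl⟩
        exact ⟨y.1, (hmemB₀ y).mp hy, rfl⟩
      · rintro ⟨y, hy, hyx⟩
        exact ⟨⟨y, hsub y hy⟩, (hmemB₀ _).mpr hy, Subtype.ext hyx⟩
    rcases hblock h (hP h) hh' with h1 | h1
    · left
      ext x
      rw [key, h1, hmemB₀]
    · right
      rw [Finset.disjoint_left]
      intro x hx hx'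
      rw [key] at hx
      rw [hmemB₀] at hx'
      exact Finset.disjoint_left.mp h1 hx hx'
  · rw [hcardΩ]
    omega
  · rw [hB₀card]
    exact h2
  · rw [hB₀card, hcardΩ]
    omega

variable {r : ℕ}

/-- All subsets of size at most `r` are co-Jordan: the group is `(r + 1)`-homogeneous. -/
theorem homog (hA : ∀ R : Finset Ω, R.card ≤ r → CoJ G R) :
    ∀ m, m ≤ r + 1 → ∀ R R' : Finset Ω, R.card = m → R'.card = m → ∃ g : G, g • R = R' := by
  intro m
  induction m with
  | zero =>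
    intro _ R R' h h'
    rw [Finset.card_eq_zero] at h h'
    subst h
    subst h'
    exact ⟨1, by simp⟩
  | succ m ih =>
    intro hm R R' h h'
    obtain ⟨a, R₀, ha, rfl, hR₀⟩ := Finset.card_eq_succ.mp h
    obtain ⟨a', R₀', ha', rfl, hR₀'⟩ := Finset.card_eq_succ.mp h'
    obtain ⟨g₀, hg₀⟩ := ih (by omega) R₀ R₀' hR₀ hR₀'
    have hga : g₀ • a ∉ R₀' := by
      rw [← hg₀]
      exact fun h => ha ((Finset.smul_mem_smul_finset_iff g₀).mp h)
    obtain ⟨h, hh, hha⟩ := hA R₀' (by omega) _ _ hga ha'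
    refine ⟨h * g₀, ?_⟩
    rw [Finset.smul_finset_insert, mul_smul, mul_smul, hg₀, hha, smul_eq_of_fix hh]

/-- Minimal flats inside a given flat. -/
theorem exists_cov_le {U T : Finset Ω} (hT : Fl G T) (hUT : U ⊂ T) :
    ∃ C, Cov G U C ∧ C ⊆ T := by
  classical
  let F : Finset (Finset Ω) := Finset.univ.filter (fun T' => Fl G T' ∧ U ⊂ T' ∧ T' ⊆ T)
  have hF : F.Nonempty := ⟨T, by
    simp only [F, Finset.mem_filter, Finset.mem_univ, true_and]
    exact ⟨hT, hUT, subset_rfl⟩⟩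
  obtain ⟨C, hC, hmin⟩ := Finset.exists_min_image F Finset.card hF
  simp only [F, Finset.mem_filter, Finset.mem_univ, true_and] at hC
  obtain ⟨hC1, hC2, hC3⟩ := hC
  refine ⟨C, ⟨hC2, hC1, ?_⟩, hC3⟩
  intro T' hT' hUT' hT'C
  have hmem : T' ∈ F := by
    simp only [F, Finset.mem_filter, Finset.mem_univ, true_and]
    exact ⟨hT', hUT', hT'C.trans hC3⟩
  exact Finset.eq_of_subset_of_card_le hT'C (hmin T' hmem)

/-- The key inequality: covers of `r`-sets have small complement in the complement of the set. -/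
theorem cov_large (hA : ∀ R : Finset Ω, R.card ≤ r → CoJ G R) (hr : 1 ≤ r) {U C : Finset Ω}
    (hU : U.card = r) (hC : Cov G U C) :
    Fintype.card Ω - r < 2 * (Fintype.card Ω - C.card) := by
  classical
  by_contra hcon
  push Not at hcon
  have hCn := hC.2.1.2
  have hUC : U ⊂ C := hC.1
  obtain ⟨b, hb⟩ : U.Nonempty := Finset.card_pos.mp (by omega)
  have hU₀c : (U.erase b).card + 1 = r := by
    rw [Finset.card_erase_of_mem hb, hU]
    omega
  have hU₀C : U.erase b ⊆ C := (Finset.erase_subset _ _).trans hUC.1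
  have hDc : (Cᶜ).card = Fintype.card Ω - C.card := Finset.card_compl C
  have hUcard : U.card ≤ Fintype.card Ω := Finset.card_le_univ _
  refine count_contra (G := G) (U.erase b) b (Finset.notMem_erase _ _) Cᶜ ?_ ?_ ?_ ?_ ?_ ?_ ?_
  · intro h
    exact (Finset.mem_compl.mp h) (hUC.1 hb)
  · rw [Finset.disjoint_left]
    intro x hx hx'
    exact (Finset.mem_compl.mp hx) (hU₀C hx')
  · intro a₁ a₂ c₁ c₂ ha₁ ha₂ hc₁ hc₂ ha hc
    obtain ⟨g₁, hg₁, hg₁a⟩ := hA (U.erase b) (by omega) a₁ c₁ ha₁ hc₁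
    have hnot : g₁ • a₂ ∉ insert c₁ (U.erase b) := by
      rw [Finset.mem_insert, not_or]
      refine ⟨fun h => ha ?_, fun h => ha₂ ?_⟩
      · rw [← hg₁a] at h
        exact (smul_left_cancel g₁ h).symm
      · have := hg₁ _ h
        rw [smul_left_cancel g₁ this] at h
        exact h
    have hnot2 : c₂ ∉ insert c₁ (U.erase b) := by
      rw [Finset.mem_insert, not_or]
      exact ⟨fun h => hc h.symm, hc₂⟩
    have hcard : (insert c₁ (U.erase b)).card ≤ r := by
      rw [Finset.card_insert_of_notMem hc₁]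
      omega
    obtain ⟨g₂, hg₂, hg₂a⟩ := hA _ hcard _ _ hnot hnot2
    refine ⟨g₂ * g₁, ?_, ?_, ?_⟩
    · intro s hs
      rw [mul_smul, hg₁ s hs]
      exact hg₂ s (Finset.mem_insert_of_mem hs)
    · rw [mul_smul, hg₁a]
      exact hg₂ _ (Finset.mem_insert_self _ _)
    · rw [mul_smul, hg₂a]
  · intro h hh hhb
    have hfix : ∀ s ∈ U, h • s = s := by
      intro s hs
      by_cases hsb : s = b
      · rw [hsb, hhb]
      · exact hh s (Finset.mem_erase.mpr ⟨hsb, hs⟩)
    have hC' : Cov G U (h • C) := by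
      have := hC.smul h
      rwa [smul_eq_of_fix hfix] at this
    have hmem : ∀ x, x ∈ h • Cᶜ ↔ x ∉ h • C := by
      intro x
      rw [mem_smul_iff, mem_smul_iff, Finset.mem_compl]
    by_cases hd : Disjoint (h • Cᶜ) Cᶜ
    · exact Or.inr hd
    left
    rw [Finset.not_disjoint_iff] at hd
    obtain ⟨c, hc1, hc2⟩ := hd
    rw [hmem] at hc1
    rw [Finset.mem_compl] at hc2
    have hfl : Fl G (C ∩ h • C) := hC.2.1.inter hC'.2.1 hc2 hc1
    have hUsub : U ⊆ C ∩ h • C := Finset.subset_inter hUC.1 hC'.1.1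
    by_cases heq : C ∩ h • C = U
    · exfalso
      have hsub : Uᶜ ⊆ Cᶜ ∪ h • Cᶜ := by
        intro x hx
        rw [Finset.mem_compl] at hx
        rw [← heq, Finset.mem_inter, not_and_or] at hx
        rw [Finset.mem_union, hmem, Finset.mem_compl]
        exact hx
      have h1 := Finset.card_le_card hsub
      have h2 := Finset.card_union_add_card_inter (Cᶜ) (h • Cᶜ)
      have h3 : 0 < ((Cᶜ) ∩ h • Cᶜ).card := Finset.card_pos.mpr ⟨c,
        Finset.mem_inter.mpr ⟨Finset.mem_compl.mpr hc2, (hmem c).mpr hc1⟩⟩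
      rw [Finset.card_smul_finset] at h2
      rw [Finset.card_compl] at h1
      omega
    · have hss : U ⊂ C ∩ h • C := Finset.ssubset_iff_subset_ne.mpr ⟨hUsub, fun h' => heq h'.symm⟩
      have e1 := hC.2.2 _ hfl hss Finset.inter_subset_left
      have e2 : C ⊆ h • C := by
        intro v hv
        have hv' : v ∈ C ∩ h • C := by
          rw [e1]
          exact hv
        exact (Finset.mem_inter.mp hv').2
      have e3 : C = h • C := Finset.eq_of_subset_of_card_le e2 (le_of_eq (Finset.card_smul_finset h C))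
      ext x
      rw [hmem, ← e3]
      exact Finset.mem_compl.symm
  · intro x hx y hy
    rw [Finset.mem_compl] at hx hy
    obtain ⟨g, hg, hgx⟩ := hC.2.1.1 x y hx hy
    refine ⟨g, ?_, hgx⟩
    intro z hz
    have hz' : z ∈ C := by simpa using hz
    exact hg z hz'
  · omega
  · omega

end level

section blocks

variable {r : ℕ}

theorem cov_overlap (hA : ∀ R : Finset Ω, R.card ≤ r → CoJ G R) (hr : 1 ≤ r) {U C₁ C₂ : Finset Ω}
    (hU : U.card = r) (h₁ : Cov G U C₁) (h₂ : Cov G U C₂) : ∃ c, c ∉ C₁ ∧ c ∉ C₂ := by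
  by_contra hcon
  push Not at hcon
  have l₁ := cov_large hA hr hU h₁
  have l₂ := cov_large hA hr hU h₂
  have hsub : C₁ᶜ ∪ C₂ᶜ ⊆ Uᶜ := by
    intro x hx
    rw [Finset.mem_union, Finset.mem_compl, Finset.mem_compl] at hx
    rw [Finset.mem_compl]
    intro hxU
    rcases hx with hx | hx
    · exact hx (h₁.1.1 hxU)
    · exact hx (h₂.1.1 hxU)
  have hdisj : Disjoint C₁ᶜ C₂ᶜ := by
    rw [Finset.disjoint_left]
    intro x hx hx'
    exact (Finset.mem_compl.mp hx') (hcon x (Finset.mem_compl.mp hx))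
  have hc := Finset.card_le_card hsub
  rw [Finset.card_union_of_disjoint hdisj, Finset.card_compl, Finset.card_compl, Finset.card_compl,
    hU] at hc
  omega

theorem cov_eq_of_mem (hA : ∀ R : Finset Ω, R.card ≤ r → CoJ G R) (hr : 1 ≤ r) {U C₁ C₂ : Finset Ω}
    (hU : U.card = r) (h₁ : Cov G U C₁) (h₂ : Cov G U C₂) {v : Ω} (hv₁ : v ∈ C₁) (hv₂ : v ∈ C₂)
    (hvU : v ∉ U) : C₁ = C₂ := by
  obtain ⟨c, hc₁, hc₂⟩ := cov_overlap hA hr hU h₁ h₂
  have hfl := h₁.2.1.inter h₂.2.1 hc₁ hc₂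
  have hss : U ⊂ C₁ ∩ C₂ := (Finset.ssubset_iff_of_subset (Finset.subset_inter h₁.1.1 h₂.1.1)).mpr
    ⟨v, Finset.mem_inter.mpr ⟨hv₁, hv₂⟩, hvU⟩
  have e1 := h₁.2.2 _ hfl hss Finset.inter_subset_left
  have e2 := h₂.2.2 _ hfl hss Finset.inter_subset_right
  exact e1.symm.trans e2

theorem cov_move (hA : ∀ R : Finset Ω, R.card ≤ r → CoJ G R) {U C : Finset Ω}
    (hU : U.card = r) (h : Cov G U C) {v : Ω} (hv : v ∉ U) :
    ∃ C', Cov G U C' ∧ v ∈ C' ∧ C'.card = C.card := by
  obtain ⟨y, hyC, hyU⟩ := (Finset.ssubset_iff_of_subset h.1.1).mp h.1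
  obtain ⟨a, ha, hay⟩ := hA U hU.le y v hyU hv
  refine ⟨a • C, ?_, ?_, Finset.card_smul_finset _ _⟩
  · have := h.smul a
    rwa [smul_eq_of_fix ha] at this
  · rw [← hay]
    exact Finset.smul_mem_smul_finset hyC

theorem cov_card_same (hA : ∀ R : Finset Ω, R.card ≤ r → CoJ G R) (hr : 1 ≤ r) {U C₁ C₂ : Finset Ω}
    (hU : U.card = r) (h₁ : Cov G U C₁) (h₂ : Cov G U C₂) : C₁.card = C₂.card := by
  obtain ⟨x, hxC, hxU⟩ := (Finset.ssubset_iff_of_subset h₂.1.1).mp h₂.1
  obtain ⟨C', hC', hx', hc'⟩ := cov_move hA hU h₁ hxU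
  rw [← hc', cov_eq_of_mem hA hr hU hC' h₂ hx' hxC hxU]

/-- Transport a cover to any `r`-set. -/
theorem cov_transport (hA : ∀ R : Finset Ω, R.card ≤ r → CoJ G R) {U₀ C₀ U : Finset Ω}
    (hU₀ : U₀.card = r) (h₀ : Cov G U₀ C₀) (hU : U.card = r) :
    ∃ C, Cov G U C ∧ C.card = C₀.card := by
  obtain ⟨g, hg⟩ := homog hA r (by omega) U₀ U hU₀ hU
  refine ⟨g • C₀, ?_, Finset.card_smul_finset _ _⟩
  have := h₀.smul g
  rwa [hg] at this

variable (G r) in
/-- The blocks of the level `r` geometry. -/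
def Blk (C : Finset Ω) : Prop := ∃ U : Finset Ω, U.card = r ∧ Cov G U C

theorem blk_card (hA : ∀ R : Finset Ω, R.card ≤ r → CoJ G R) (hr : 1 ≤ r) {U₀ C₀ C : Finset Ω}
    (hU₀ : U₀.card = r) (h₀ : Cov G U₀ C₀) (hC : Blk G r C) : C.card = C₀.card := by
  obtain ⟨U, hU, hcov⟩ := hC
  obtain ⟨C', hC', hc'⟩ := cov_transport hA hU₀ h₀ hU
  rw [← hc']
  exact cov_card_same hA hr hU hcov hC'

theorem blk_cov (hA : ∀ R : Finset Ω, R.card ≤ r → CoJ G R) (hr : 1 ≤ r) {U₀ C₀ C U : Finset Ω}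
    (hU₀ : U₀.card = r) (h₀ : Cov G U₀ C₀) (hC : Blk G r C) (hU : U.card = r) (hUC : U ⊆ C) :
    Cov G U C := by
  have hcC := blk_card hA hr hU₀ h₀ hC
  have hr0 : r < C₀.card := by
    have := Finset.card_lt_card h₀.1
    omega
  have hss : U ⊂ C := by
    refine Finset.ssubset_iff_subset_ne.mpr ⟨hUC, fun h => ?_⟩
    rw [h] at hU
    omega
  obtain ⟨V, hV, hVcov⟩ := hC
  refine ⟨hss, hVcov.2.1, ?_⟩
  intro T hT hUT hTC
  obtain ⟨C', hC', hC'T⟩ := exists_cov_le hT hUT
  have hc' := blk_card hA hr hU₀ h₀ (⟨U, hU, hC'⟩ : Blk G r C')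
  have h1 : C' = C := Finset.eq_of_subset_of_card_le (hC'T.trans hTC) (by omega)
  exact Finset.Subset.antisymm hTC (h1 ▸ hC'T)

theorem Blk.smul {C : Finset Ω} (h : Blk G r C) (g : G) : Blk G r (g • C) := by
  obtain ⟨U, hU, hcov⟩ := h
  exact ⟨g • U, by rw [Finset.card_smul_finset]; exact hU, hcov.smul g⟩

theorem blk_ex (hA : ∀ R : Finset Ω, R.card ≤ r → CoJ G R) {U₀ C₀ : Finset Ω}
    (hU₀ : U₀.card = r) (h₀ : Cov G U₀ C₀) (Y : Finset Ω) (hY : Y.card = r + 1) :
    ∃ C, Blk G r C ∧ Y ⊆ C := by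
  obtain ⟨y, hy⟩ : Y.Nonempty := Finset.card_pos.mp (by omega)
  have hUc : (Y.erase y).card = r := by
    rw [Finset.card_erase_of_mem hy, hY]
    omega
  obtain ⟨C₁, hC₁, -⟩ := cov_transport hA hU₀ h₀ hUc
  obtain ⟨C, hC, hyC, -⟩ := cov_move hA hUc hC₁ (Finset.notMem_erase y Y)
  refine ⟨C, ⟨_, hUc, hC⟩, ?_⟩
  intro v hv
  by_cases hvy : v = y
  · rw [hvy]
    exact hyC
  · exact hC.1.1 (Finset.mem_erase.mpr ⟨hvy, hv⟩)

theorem blk_un (hA : ∀ R : Finset Ω, R.card ≤ r → CoJ G R) (hr : 1 ≤ r) {U₀ C₀ : Finset Ω}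
    (hU₀ : U₀.card = r) (h₀ : Cov G U₀ C₀) (C₁ C₂ Y : Finset Ω) (h₁ : Blk G r C₁) (h₂ : Blk G r C₂)
    (hY : Y.card = r + 1) (hY₁ : Y ⊆ C₁) (hY₂ : Y ⊆ C₂) : C₁ = C₂ := by
  obtain ⟨y, hy⟩ : Y.Nonempty := Finset.card_pos.mp (by omega)
  have hUc : (Y.erase y).card = r := by
    rw [Finset.card_erase_of_mem hy, hY]
    omega
  have c₁ := blk_cov hA hr hU₀ h₀ h₁ hUc ((Finset.erase_subset _ _).trans hY₁)
  have c₂ := blk_cov hA hr hU₀ h₀ h₂ hUc ((Finset.erase_subset _ _).trans hY₂)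
  exact cov_eq_of_mem hA hr hUc c₁ c₂ (hY₁ hy) (hY₂ hy) (Finset.notMem_erase y Y)

/-- Closedness of flats under blocks. -/
theorem blk_closed (hA : ∀ R : Finset Ω, R.card ≤ r → CoJ G R) (hr : 1 ≤ r) {U₀ C₀ : Finset Ω}
    (hU₀ : U₀.card = r) (h₀ : Cov G U₀ C₀) (hne : C₀.card ≠ r + 1) (S C Y : Finset Ω) (hS : Fl G S)
    (hC : Blk G r C) (hY : Y.card = r + 1) (hYS : Y ⊆ S) (hYC : Y ⊆ C) : C ⊆ S := by
  have hun := blk_un hA hr hU₀ h₀
  have hex := blk_ex hA hU₀ h₀
  have hcard : ∀ W : Finset Ω, Blk G r W → r + 2 ≤ W.card := by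
    intro W hW
    rw [blk_card hA hr hU₀ h₀ hW]
    have := Finset.card_lt_card h₀.1
    omega
  obtain ⟨y, hy⟩ : Y.Nonempty := Finset.card_pos.mp (by omega)
  have hUc : (Y.erase y).card = r := by
    rw [Finset.card_erase_of_mem hy, hY]
    omega
  have hcov := blk_cov hA hr hU₀ h₀ hC hUc ((Finset.erase_subset _ _).trans hYC)
  by_cases hc : ∃ c, c ∉ S ∧ c ∉ C
  · obtain ⟨c, hc₁, hc₂⟩ := hc
    have hfl := hS.inter hcov.2.1 hc₁ hc₂
    have hss : Y.erase y ⊂ S ∩ C := (Finset.ssubset_iff_of_subset (Finset.subset_inter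
      ((Finset.erase_subset _ _).trans hYS) ((Finset.erase_subset _ _).trans hYC))).mpr
      ⟨y, Finset.mem_inter.mpr ⟨hYS hy, hYC hy⟩, Finset.notMem_erase y Y⟩
    have e := hcov.2.2 _ hfl hss Finset.inter_subset_right
    intro v hv
    have hv' : v ∈ S ∩ C := by
      rw [e]
      exact hv
    exact (Finset.mem_inter.mp hv').1
  · exfalso
    push Not at hc
    have hSc : 1 < (Sᶜ).card := by
      rw [Finset.card_compl]
      have := hS.2
      omega
    obtain ⟨v, hv, v', hv', hvv'⟩ := Finset.one_lt_card.mp hSc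
    rw [Finset.mem_compl] at hv hv'
    obtain ⟨h, hh, hhv⟩ := hS.1 v v' hv hv'
    obtain ⟨Z, hZ, hZc⟩ := Finset.exists_subset_card_eq (s := Y.erase y) (n := r - 1) (by omega)
    obtain ⟨z, hz⟩ := hcov.2.1.exists_not_mem
    have hvC : v ∈ C := hc v hv
    have hv'C : v' ∈ C := hc v' hv'
    have hzS : z ∈ S := by
      by_contra h'
      exact hz (hc z h')
    have hZS : Z ⊆ S := hZ.trans ((Finset.erase_subset _ _).trans hYS)
    have hZC : Z ⊆ C := hZ.trans ((Finset.erase_subset _ _).trans hYC)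
    have hvZ : v ∉ Z := fun h' => hv (hZS h')
    have hv'Z : v' ∉ Z := fun h' => hv' (hZS h')
    have hzZ : z ∉ Z := fun h' => hz (hZC h')
    have hzv : z ≠ v := fun h' => hz (h' ▸ hvC)
    have hY₁ : (insert v (insert z Z)).card = r + 1 := by
      rw [Finset.card_insert_of_notMem, Finset.card_insert_of_notMem hzZ]
      · omega
      · simp [Ne.symm hzv, hvZ]
    obtain ⟨W, hW, hY₁W⟩ := hex _ hY₁
    obtain ⟨w, hwW, hwY⟩ : ∃ w ∈ W, w ∉ insert v (insert z Z) := by
      by_contra hcon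
      push Not at hcon
      have h1 := Finset.card_le_card (show W ⊆ insert v (insert z Z) from hcon)
      have h2 := hcard W hW
      omega
    simp only [Finset.mem_insert, not_or] at hwY
    obtain ⟨hwv, hwz, hwZ⟩ := hwY
    have hvW : v ∈ W := hY₁W (by simp)
    have hzW : z ∈ W := hY₁W (by simp)
    have hZW : Z ⊆ W := fun u hu => hY₁W (by simp [hu])
    have hnotC : ∀ u, u ∈ W → u ∈ C → u ≠ v → u ∉ Z → False := by
      intro u huW huC huv huZ
      have hc' : (insert v (insert u Z)).card = r + 1 := by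
        rw [Finset.card_insert_of_notMem, Finset.card_insert_of_notMem huZ]
        · omega
        · simp [Ne.symm huv, hvZ]
      have := hun W C _ hW hC hc'
        (by
          intro t ht
          simp only [Finset.mem_insert] at ht
          rcases ht with rfl | rfl | ht
          · exact hvW
          · exact huW
          · exact hZW ht)
        (by
          intro t ht
          simp only [Finset.mem_insert] at ht
          rcases ht with rfl | rfl | ht
          · exact hvC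
          · exact huC
          · exact hZC ht)
      exact hz (this ▸ hzW)
    have hwC : w ∉ C := fun h' => hnotC w hwW h' hwv hwZ
    have hwS : w ∈ S := by
      by_contra h'
      exact hwC (hc w h')
    have hY₃ : (insert z (insert w Z)).card = r + 1 := by
      rw [Finset.card_insert_of_notMem, Finset.card_insert_of_notMem hwZ]
      · omega
      · simp [Ne.symm hwz, hzZ]
    have hY₃S : insert z (insert w Z) ⊆ S := by
      intro t ht
      simp only [Finset.mem_insert] at ht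
      rcases ht with rfl | rfl | ht
      · exact hzS
      · exact hwS
      · exact hZS ht
    have hY₃W : insert z (insert w Z) ⊆ W := by
      intro t ht
      simp only [Finset.mem_insert] at ht
      rcases ht with rfl | rfl | ht
      · exact hzW
      · exact hwW
      · exact hZW ht
    have hfixsub : ∀ T : Finset Ω, T ⊆ S → ∀ W' : Finset Ω, T ⊆ W' → T ⊆ h • W' := by
      intro T hT W' hW' t ht
      rw [mem_smul_iff]
      have h1 : h • t = t := hh t (hT ht)
      have h2 : h⁻¹ • t = t := by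
        rw [inv_smul_eq_iff, h1]
      rw [h2]
      exact hW' ht
    have hhW : h • W = W := hun _ _ _ (hW.smul h) hW hY₃ (hfixsub _ hY₃S W hY₃W) hY₃W
    have hhC : h • C = C := hun _ _ _ (hC.smul h) hC hY (hfixsub _ hYS C hYC) hYC
    have hv'W : v' ∈ W := by
      rw [← hhW, ← hhv]
      exact Finset.smul_mem_smul_finset hvW
    exact hnotC v' hv'W hv'C (Ne.symm hvv') hv'Z

/-- The Steiner geometry at level `r`. -/
theorem steiner_of_level (hA : ∀ R : Finset Ω, R.card ≤ r → CoJ G R) (hr : 1 ≤ r)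
    {U₀ C₀ : Finset Ω} (hU₀ : U₀.card = r) (h₀ : Cov G U₀ C₀) (hne : C₀.card ≠ r + 1) :
    Steiner G (Blk (Ω := Ω) G r) r (C₀.card - r) := by
  have hlt := Finset.card_lt_card h₀.1
  refine ⟨hr, by omega, ?_, ?_, blk_ex hA hU₀ h₀, blk_un hA hr hU₀ h₀,
    fun S C Y hS hC hY hYS hYC => blk_closed hA hr hU₀ h₀ hne S C Y hS hC hY hYS hYC⟩
  · rintro C ⟨U, -, hcov⟩
    exact hcov.2.1
  · intro C hC
    rw [blk_card hA hr hU₀ h₀ hC]
    omega

/-- The inductive heart of the theorem: co-Jordan sets of more than half of the points force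
high transitivity. -/
theorem all_coJ_of_half {Γ : Finset Ω} (hΓ : Fl G Γ) (hhalf : Fintype.card Ω < 2 * Γ.card)
    (h1 : ∀ R : Finset Ω, R.card ≤ 1 → CoJ G R) : ∀ R : Finset Ω, R.card ≤ Γ.card → CoJ G R := by
  have hΓ2 := hΓ.2
  have key : ∀ r, 1 ≤ r → r ≤ Γ.card → ∀ R : Finset Ω, R.card ≤ r → CoJ G R := by
    intro r hr
    induction r, hr using Nat.le_induction with
    | base => exact fun _ => h1
    | succ r hr ih =>
      intro hle
      have hA := ih (by omega)
      obtain ⟨U, hUΓ, hU⟩ := Finset.exists_subset_card_eq (s := Γ) (n := r) (by omega)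
      have hss : U ⊂ Γ := Finset.ssubset_iff_subset_ne.mpr ⟨hUΓ, fun h => by
        rw [h] at hU
        omega⟩
      obtain ⟨C₀, hC₀, hC₀Γ⟩ := exists_cov_le hΓ hss
      by_cases hne : C₀.card = r + 1
      · intro R hR
        by_cases hRr : R.card ≤ r
        · exact hA R hRr
        · obtain ⟨g, hg⟩ := homog hA (r + 1) le_rfl C₀ R hne (by omega)
          rw [← hg]
          exact hC₀.2.1.1.smul g
      · exfalso
        have hS := steiner_of_level hA hr hU hC₀ hne
        have := hS.half hΓ (⟨U, hU, hC₀⟩ : Blk G r C₀) hC₀Γ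
        omega
  exact key Γ.card (by omega) le_rfl

end blocks

/-- Two permutations whose supports meet in one point have a three-cycle as commutator. -/
theorem comm_fix {H β : Type*} [Group H] [MulAction H β] (x y : H) (Sx Sy : Set β)
    (hxS : ∀ p, p ∉ Sx → x • p = p) (hyS : ∀ p, p ∉ Sy → y • p = p)
    (hxI : ∀ p ∈ Sx, x⁻¹ • p ∈ Sx) (hyI : ∀ p ∈ Sy, y⁻¹ • p ∈ Sy) (p : β)
    (h1 : ¬ (p ∈ Sx ∧ p ∈ Sy)) (h2 : ¬ (x⁻¹ • p ∈ Sx ∧ x⁻¹ • p ∈ Sy))
    (h3 : ¬ (y⁻¹ • p ∈ Sx ∧ y⁻¹ • p ∈ Sy)) : (x * y * x⁻¹ * y⁻¹) • p = p := by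
  have hinvx : ∀ q, q ∉ Sx → x⁻¹ • q = q := fun q hq => by rw [inv_smul_eq_iff, hxS q hq]
  have hinvy : ∀ q, q ∉ Sy → y⁻¹ • q = q := fun q hq => by rw [inv_smul_eq_iff, hyS q hq]
  simp only [mul_smul]
  by_cases hp : p ∈ Sy
  · have hpx : p ∉ Sx := fun h => h1 ⟨h, hp⟩
    have hq := hyI p hp
    have hqx : y⁻¹ • p ∉ Sx := fun h => h3 ⟨h, hq⟩
    rw [hinvx _ hqx, smul_inv_smul, hxS p hpx]
  · rw [hinvy p hp]
    by_cases hpx : p ∈ Sx
    · have hq := hxI p hpx
      have hqy : x⁻¹ • p ∉ Sy := fun h => h2 ⟨hq, h⟩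
      rw [hyS _ hqy, smul_inv_smul]
    · rw [hinvx p hpx, hyS p hp, hxS p hpx]

open Equiv Equiv.Perm in
theorem three_cycle_comm {α : Type*} [Fintype α] [DecidableEq α] (x y : Perm α) (a : α)
    (h : ∀ p, x p ≠ p → y p ≠ p → p = a) (hx : x a ≠ a) (hy : y a ≠ a) :
    (x * y * x⁻¹ * y⁻¹).support = {a, x a, y a} ∧ (x * y * x⁻¹ * y⁻¹).IsThreeCycle := by
  have aI : ∀ (f : Perm α) (p : α), f (f⁻¹ p) = p := fun f p => by simp
  have iA : ∀ (f : Perm α) (p : α), f⁻¹ (f p) = p := fun f p => by simp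
  have inv_ne : ∀ (f : Perm α) (p : α), f p ≠ p → f⁻¹ p ≠ p := by
    intro f p hp h'
    have := aI f p
    rw [h'] at this
    exact hp this
  have inv_mem : ∀ (f : Perm α) (p : α), f p ≠ p → f (f⁻¹ p) ≠ f⁻¹ p := by
    intro f p hp h'
    rw [aI] at h'
    exact inv_ne f p hp h'.symm
  have hsx : ∀ p, x p ≠ p → x (x p) ≠ x p := fun p hp h' => hp (x.injective h')
  have hsy : ∀ p, y p ≠ p → y (y p) ≠ y p := fun p hp h' => hp (y.injective h')
  have hyfix : ∀ p, x p ≠ p → p ≠ a → y p = p := fun p h1 h2 => by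
    by_contra h3
    exact h2 (h p h1 h3)
  have hxfix : ∀ p, y p ≠ p → p ≠ a → x p = p := fun p h1 h2 => by
    by_contra h3
    exact h2 (h p h3 h1)
  have hb1 : x (x a) ≠ x a := hsx a hx
  have hd1 : y (y a) ≠ y a := hsy a hy
  have hyb : y (x a) = x a := hyfix _ hb1 hx
  have hxd : x (y a) = y a := hxfix _ hd1 hy
  have hbd : x a ≠ y a := by
    intro h'
    rw [← h'] at hd1
    exact hd1 hyb
  have hset : ({a, x a, y a} : Finset α).card = 3 := by
    rw [Finset.card_insert_of_notMem, Finset.card_insert_of_notMem, Finset.card_singleton]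
    · simpa using hbd
    · simp only [Finset.mem_insert, Finset.mem_singleton, not_or]
      exact ⟨fun h' => hx h'.symm, fun h' => hy h'.symm⟩
  have hc0 : (x * y * x⁻¹ * y⁻¹) a = x a := by
    simp only [Perm.mul_apply]
    have hxq : x (y⁻¹ a) = y⁻¹ a := hxfix _ (inv_mem y a hy) (inv_ne y a hy)
    rw [Perm.inv_eq_iff_eq.mpr hxq.symm, aI]
  have hc1 : (x * y * x⁻¹ * y⁻¹) (x a) = y a := by
    simp only [Perm.mul_apply]
    rw [Perm.inv_eq_iff_eq.mpr hyb.symm, iA, hxd]
  have hc2 : (x * y * x⁻¹ * y⁻¹) (y a) = a := by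
    simp only [Perm.mul_apply]
    rw [iA, hyfix _ (inv_mem x a hx) (inv_ne x a hx), aI]
  have hsupp : (x * y * x⁻¹ * y⁻¹).support = {a, x a, y a} := by
    ext p
    rw [Perm.mem_support]
    simp only [Finset.mem_insert, Finset.mem_singleton]
    constructor
    · intro hp
      by_contra hcon
      push Not at hcon
      obtain ⟨h1, h2, h3⟩ := hcon
      apply hp
      have := comm_fix (H := Perm α) (β := α) x y {q | x q ≠ q} {q | y q ≠ q}
        (fun q hq => by simpa using hq) (fun q hq => by simpa using hq)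
        (fun q hq => inv_mem x q hq)
        (fun q hq => inv_mem y q hq)
        p
        (fun hh => h1 (h p hh.1 hh.2))
        (fun hh => h2 (by
          have := h _ hh.1 hh.2
          simp only [Perm.smul_def] at this
          rw [← this, aI]))
        (fun hh => h3 (by
          have := h _ hh.1 hh.2
          simp only [Perm.smul_def] at this
          rw [← this, aI]))
      simpa using this
    · rintro (rfl | rfl | rfl)
      · rw [hc0]
        exact hx
      · rw [hc1]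
        exact Ne.symm hbd
      · rw [hc2]
        exact Ne.symm hy
  exact ⟨hsupp, card_support_eq_three_iff.mp (by rw [hsupp, hset])⟩

open MulAction Equiv Equiv.Perm in
/-- **Marggraf**: a primitive group with a Jordan set of size between `2` and `n / 2` (exclusive)
contains the alternating group. -/
theorem main_primitive (hprim : IsPreprimitive G Ω) (Δ : Finset Ω) (hΔ1 : 2 ≤ Δ.card)
    (hΔ2 : 2 * Δ.card < Fintype.card Ω)
    (hJ : ∀ x ∈ Δ, ∀ y ∈ Δ, ∃ g : G, (∀ z, z ∉ Δ → g • z = z) ∧ g • x = y) :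
    ∀ σ : Perm Ω, sign σ = 1 → ∃ x : G, MulAction.toPerm x = σ := by
  have hΓc : (Δᶜ).card = Fintype.card Ω - Δ.card := Finset.card_compl Δ
  have hCoJ : CoJ G Δᶜ := by
    intro x y hx hy
    simp only [Finset.mem_compl, not_not] at hx hy
    obtain ⟨g, hg, hgx⟩ := hJ x hx y hy
    refine ⟨g, ?_, hgx⟩
    intro s hs
    exact hg s (Finset.mem_compl.mp hs)
  have hFl : Fl G Δᶜ := ⟨hCoJ, by omega⟩
  have hs_trans : IsPretransitive (fixingSubgroup G ((Δᶜ : Finset Ω) : Set Ω))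
      (SubMulAction.ofFixingSubgroup G ((Δᶜ : Finset Ω) : Set Ω)) := by
    refine ⟨fun x y => ?_⟩
    have hx : x.val ∉ Δᶜ := by
      have := x.prop
      rw [SubMulAction.mem_ofFixingSubgroup_iff] at this
      exact_mod_cast this
    have hy : y.val ∉ Δᶜ := by
      have := y.prop
      rw [SubMulAction.mem_ofFixingSubgroup_iff] at this
      exact_mod_cast this
    obtain ⟨g, hg, hgx⟩ := hCoJ _ _ hx hy
    exact ⟨⟨g, (mem_fixingSubgroup_iff G).mpr (fun s hs => hg s (by exact_mod_cast hs))⟩,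
      Subtype.ext hgx⟩
  have h2t : IsMultiplyPretransitive G Ω 2 :=
    hprim.is_two_pretransitive (s := ((Δᶜ : Finset Ω) : Set Ω)) (n := (Δᶜ).card - 1)
      (by rw [Set.ncard_coe_finset]; omega)
      (by rw [Nat.card_eq_fintype_card]; omega) hs_trans
  have htwo : ∀ {a b c d : Ω}, a ≠ b → c ≠ d → ∃ g : G, g • a = c ∧ g • b = d :=
    is_two_pretransitive_iff.mp h2t
  have htrans : IsPretransitive G Ω := hprim.toIsPretransitive
  have h1 : ∀ R : Finset Ω, R.card ≤ 1 → CoJ G R := by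
    intro R hR
    rcases Nat.le_one_iff_eq_zero_or_eq_one.mp hR with h0 | h0
    · rw [Finset.card_eq_zero] at h0
      subst h0
      intro x y _ _
      obtain ⟨g, hg⟩ := htrans.exists_smul_eq x y
      exact ⟨g, by simp, hg⟩
    · obtain ⟨b, rfl⟩ := Finset.card_eq_one.mp h0
      intro x y hx hy
      have hbx : b ≠ x := fun h => hx (by simp [h])
      have hby : b ≠ y := fun h => hy (by simp [h])
      obtain ⟨g, hg1, hg2⟩ := htwo hbx hby
      refine ⟨g, ?_, hg2⟩
      intro s hs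
      rw [Finset.mem_singleton] at hs
      rw [hs, hg1]
  have hle : Δ.card ≤ Fintype.card Ω := Finset.card_le_univ _
  have hall := all_coJ_of_half hFl (by omega) h1
  -- a non-trivial element supported on `Δ`
  obtain ⟨x₀, hx₀, x₁, hx₁, hne⟩ := Finset.one_lt_card.mp (show 1 < Δ.card by omega)
  obtain ⟨h, hfix, hmove⟩ := hJ x₀ hx₀ x₁ hx₁
  let S : Finset Ω := Finset.univ.filter (fun p => h • p ≠ p)
  have hmemS : ∀ p, p ∈ S ↔ h • p ≠ p := fun p => by simp [S]
  have hSΔ : S ⊆ Δ := by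
    intro p hp
    by_contra hpΔ
    exact (hmemS p).mp hp (hfix p hpΔ)
  have hx₀S : x₀ ∈ S := (hmemS x₀).mpr (by rw [hmove]; exact Ne.symm hne)
  have hScard := Finset.card_le_card hSΔ
  obtain ⟨T, hT, hTc⟩ := Finset.exists_subset_card_eq (s := Sᶜ) (n := S.card - 1)
    (by rw [Finset.card_compl]; omega)
  have hx₀T : x₀ ∉ T := fun h' => (Finset.mem_compl.mp (hT h')) hx₀S
  have hS0 : 0 < S.card := Finset.card_pos.mpr ⟨x₀, hx₀S⟩
  have hS'c : (insert x₀ T).card = S.card := by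
    rw [Finset.card_insert_of_notMem hx₀T, hTc]
    omega
  obtain ⟨g, hg⟩ := homog hall S.card (by omega) S (insert x₀ T) rfl hS'c
  let y : G := g * h * g⁻¹
  have hyapp : ∀ p, y • p ≠ p ↔ p ∈ insert x₀ T := by
    intro p
    rw [← hg, mem_smul_iff, hmemS]
    simp only [y, mul_smul]
    constructor
    · intro h' h''
      apply h'
      rw [h'', smul_inv_smul]
    · intro h' h''
      apply h'
      rw [← h'', inv_smul_smul]
      conv_rhs => rw [← h'']
      rw [inv_smul_smul]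
  obtain ⟨-, h3⟩ := three_cycle_comm (toPerm h) (toPerm y) x₀
    (by
      intro p hp hp'
      have hp1 : p ∈ S := (hmemS p).mpr hp
      have hp2 := (hyapp p).mp hp'
      rw [Finset.mem_insert] at hp2
      rcases hp2 with hp2 | hp2
      · exact hp2
      · exact absurd hp1 (Finset.mem_compl.mp (hT hp2)))
    ((hmemS x₀).mp hx₀S)
    ((hyapp x₀).mpr (Finset.mem_insert_self _ _))
  let φ : G →* Perm Ω := toPermHom G Ω
  have hmem : toPerm h * toPerm y * (toPerm h)⁻¹ * (toPerm y)⁻¹ ∈ φ.range :=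
    ⟨h * y * h⁻¹ * y⁻¹, by simp [φ, map_mul, map_inv]⟩
  let f : Ω →ₑ[(φ.rangeRestrict : G → φ.range)] Ω :=
    { toFun := id, map_smul' := fun _ _ => rfl }
  haveI : IsPreprimitive G Ω := hprim
  have hprim' : IsPreprimitive φ.range Ω :=
    IsPreprimitive.of_surjective (f := f) Function.surjective_id
  have hal := alternatingGroup_le_of_isPreprimitive_of_isThreeCycle_mem hprim' h3 hmem
  intro σ hσ
  obtain ⟨x, hx⟩ := hal (Equiv.Perm.mem_alternatingGroup.mpr hσ)
  exact ⟨x, hx⟩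

section imprimitive

open MulAction Equiv Equiv.Perm

/-- Moving `A` into `O` by a product of disjoint transpositions. -/
theorem exists_perm_move {β : Type*} [DecidableEq β] (A : Finset β) :
    ∀ O : Finset β, Disjoint A O → A.card ≤ O.card →
      ∃ π : Perm β, (∀ a ∈ A, π a ∈ O) ∧ ∀ w, w ∉ A → w ∉ O → π w = w := by
  induction A using Finset.induction_on with
  | empty =>
    intro O _ _
    exact ⟨1, by simp, by simp⟩
  | insert a A' ha ih =>
    intro O hd hc
    rw [Finset.card_insert_of_notMem ha] at hc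
    obtain ⟨b, hb⟩ : O.Nonempty := Finset.card_pos.mp (by omega)
    have hdisj : Disjoint A' (O.erase b) := by
      rw [Finset.disjoint_left]
      intro v hv hv'
      exact (Finset.disjoint_left.mp hd) (Finset.mem_insert_of_mem hv) (Finset.mem_of_mem_erase hv')
    have haO : a ∉ O := fun h => (Finset.disjoint_left.mp hd) (Finset.mem_insert_self _ _) h
    obtain ⟨π, hπ1, hπ2⟩ := ih (O.erase b) hdisj (by rw [Finset.card_erase_of_mem hb]; omega)
    refine ⟨swap a b * π, ?_, ?_⟩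
    · intro v hv
      rw [Finset.mem_insert] at hv
      rcases hv with rfl | hv
      · rw [Perm.mul_apply, hπ2 v ha (fun h => haO (Finset.mem_of_mem_erase h)), swap_apply_left]
        exact hb
      · have h1 := hπ1 v hv
        have h2 : π v ∈ O := Finset.mem_of_mem_erase h1
        rw [Perm.mul_apply, swap_apply_of_ne_of_ne (fun h => haO (by rw [← h]; exact h2))
          (fun h => (Finset.mem_erase.mp h1).1 h)]
        exact h2
    · intro w hw hw'
      rw [Finset.mem_insert, not_or] at hw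
      have hwb : w ≠ b := fun h => hw' (h ▸ hb)
      rw [Perm.mul_apply, hπ2 w hw.2 (fun h => hw' (Finset.mem_of_mem_erase h)),
        swap_apply_of_ne_of_ne hw.1 hwb]

theorem exists_even_move {β : Type*} [DecidableEq β] [Fintype β] (A O : Finset β) (t : β)
    (hd : Disjoint A O) (hc : A.card + 2 ≤ O.card) (htA : t ∉ A) (htO : t ∉ O) :
    ∃ σ : Perm β, sign σ = 1 ∧ σ t = t ∧ ∀ a ∈ A, σ a ∈ O := by
  obtain ⟨O₀, hO₀, hO₀c⟩ := Finset.exists_subset_card_eq (s := O) (n := A.card) (by omega)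
  have hd₀ : Disjoint A O₀ := Finset.disjoint_of_subset_right hO₀ hd
  obtain ⟨π, hπ1, hπ2⟩ := exists_perm_move A O₀ hd₀ hO₀c.ge
  have ht₀ : t ∉ O₀ := fun h => htO (hO₀ h)
  have hπt : π t = t := hπ2 t htA ht₀
  rcases Int.units_eq_one_or (sign π) with hs | hs
  · exact ⟨π, hs, hπt, fun a ha => hO₀ (hπ1 a ha)⟩
  · have hrest : 1 < (O \ O₀).card := by
      rw [Finset.card_sdiff_of_subset hO₀]
      omega
    obtain ⟨p, hp, p', hp', hpp'⟩ := Finset.one_lt_card.mp hrest
    obtain ⟨hp1, hp2⟩ := Finset.mem_sdiff.mp hp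
    obtain ⟨hp3, hp4⟩ := Finset.mem_sdiff.mp hp'
    refine ⟨swap p p' * π, ?_, ?_, ?_⟩
    · rw [map_mul, hs, sign_swap hpp']
      rfl
    · rw [Perm.mul_apply, hπt, swap_apply_of_ne_of_ne (fun h => htO (by rw [h]; exact hp1))
        (fun h => htO (by rw [h]; exact hp3))]
    · intro a ha
      have h1 := hπ1 a ha
      rw [Perm.mul_apply, swap_apply_of_ne_of_ne (fun h => hp2 (by rw [← h]; exact h1))
        (fun h => hp4 (by rw [← h]; exact h1))]
      exact hO₀ h1

variable {Ωb : Type*} [MulAction G Ωb] [Fintype Ωb] [DecidableEq Ωb]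

/-- The imprimitive case cannot occur. -/
theorem imprim_contra (q : Ω → Ωb) (hq : ∀ (g : G) p, q (g • p) = g • q p)
    (hsurj : Function.Surjective q) (htrans : IsPretransitive G Ω)
    (hprim : IsPreprimitive G Ωb)
    (hfaith : ∀ g : G, (∀ z : Ωb, g • z = z) → ∀ p : Ω, g • p = p)
    (hninj : ∃ u u', u ≠ u' ∧ q u = q u')
    (Δ : Finset Ω) (hΔ1 : 2 ≤ Δ.card) (hΔ2 : 2 * Δ.card < Fintype.card Ω)
    (hJ : ∀ x ∈ Δ, ∀ y ∈ Δ, ∃ g : G, (∀ z, z ∉ Δ → g • z = z) ∧ g • x = y) : False := by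
  classical
  have htransb : IsPretransitive G Ωb := hprim.toIsPretransitive
  -- elements of the Jordan group preserve `Δ`
  have hpres : ∀ (h : G), (∀ z, z ∉ Δ → h • z = z) → ∀ r ∈ Δ, h • r ∈ Δ := by
    intro h hh r hr
    by_contra hcon
    have h1 := hh _ hcon
    have h2 := smul_left_cancel h h1
    rw [h2] at hcon
    exact hcon hr
  have hinvpres : ∀ (h : G), (∀ z, z ∉ Δ → h • z = z) → ∀ r ∈ Δ, h⁻¹ • r ∈ Δ := by
    intro h hh r hr
    by_contra hcon
    have h1 := hh _ hcon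
    rw [smul_inv_smul] at h1
    rw [← h1] at hcon
    exact hcon hr
  obtain ⟨x₀, hx₀, x₁, hx₁, hx₀₁⟩ := Finset.one_lt_card.mp (show 1 < Δ.card by omega)
  -- `Δ` meets at least two fibres
  have hc2 : ∃ p ∈ Δ, ∃ p' ∈ Δ, q p ≠ q p' := by
    by_contra hcon
    push Not at hcon
    obtain ⟨h, hh, hhx⟩ := hJ x₀ hx₀ x₁ hx₁
    have htriv : ∀ z : Ωb, h • z = z := by
      intro z
      obtain ⟨r, rfl⟩ := hsurj z
      rw [← hq]
      by_cases hr : r ∈ Δ
      · exact hcon _ (hpres h hh r hr) _ hr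
      · rw [hh r hr]
    exact hx₀₁ (by rw [← hhx]; exact (hfaith h htriv x₀).symm)
  -- `Δ` is a union of fibres
  have hsat : ∀ p ∈ Δ, ∀ p', q p' = q p → p' ∈ Δ := by
    intro p hp p' hpp'
    by_contra hp'Δ
    obtain ⟨p₁, hp₁, p₂, hp₂, hne⟩ := hc2
    have key : ∀ v ∈ Δ, q v = q p := by
      intro v hv
      obtain ⟨h, hh, hhv⟩ := hJ p hp v hv
      rw [← hhv, hq, ← hpp', ← hq, hh p' hp'Δ]
    exact hne ((key p₁ hp₁).trans (key p₂ hp₂).symm)
  let Δb : Finset Ωb := Δ.image q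
  have hmemb : ∀ z, z ∈ Δb ↔ ∃ p ∈ Δ, q p = z := fun z => by simp [Δb]
  have hnot : ∀ p, q p ∉ Δb → p ∉ Δ := fun p hp hpΔ => hp ((hmemb _).mpr ⟨p, hpΔ, rfl⟩)
  have hnot' : ∀ p, p ∉ Δ → q p ∉ Δb := by
    intro p hp hz
    obtain ⟨r, hr, hrp⟩ := (hmemb _).mp hz
    exact hp (hsat r hr p hrp.symm)
  have hJb : ∀ x ∈ Δb, ∀ y ∈ Δb, ∃ g : G, (∀ z, z ∉ Δb → g • z = z) ∧ g • x = y := by
    intro x hx y hy
    obtain ⟨r, hr, rfl⟩ := (hmemb _).mp hx
    obtain ⟨r', hr', rfl⟩ := (hmemb _).mp hy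
    obtain ⟨h, hh, hhr⟩ := hJ r hr r' hr'
    refine ⟨h, ?_, by rw [← hq, hhr]⟩
    intro z hz
    obtain ⟨v, rfl⟩ := hsurj z
    rw [← hq, hh v (hnot v hz)]
  have hcb : 2 ≤ Δb.card := by
    obtain ⟨p₁, hp₁, p₂, hp₂, hne⟩ := hc2
    exact Finset.one_lt_card.mpr ⟨q p₁, (hmemb _).mpr ⟨p₁, hp₁, rfl⟩, q p₂,
      (hmemb _).mpr ⟨p₂, hp₂, rfl⟩, hne⟩
  -- fibres have the same size
  obtain ⟨u, u', huu', hquu'⟩ := hninj
  have hfib : ∀ z : Ωb, ∃ (g : G), g • q u = z := fun z => htransb.exists_smul_eq _ _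
  have hfibc : ∀ z : Ωb, (Finset.univ.filter (fun p => q p = z)).card =
      (Finset.univ.filter (fun p => q p = q u)).card := by
    intro z
    obtain ⟨g, rfl⟩ := hfib z
    rw [← Finset.card_smul_finset g (Finset.univ.filter (fun p => q p = q u))]
    congr 1
    ext p
    rw [mem_smul_iff]
    simp only [Finset.mem_filter, Finset.mem_univ, true_and, hq]
    rw [inv_smul_eq_iff]
  set e := (Finset.univ.filter (fun p => q p = q u)).card with he
  have he2 : 2 ≤ e := Finset.one_lt_card.mpr ⟨u, by simp, u', by simp [hquu'], huu'⟩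
  have hn : Fintype.card Ω = Fintype.card Ωb * e := by
    have := Finset.card_eq_sum_card_fiberwise (f := q) (s := Finset.univ) (t := Finset.univ)
      (fun _ _ => Finset.mem_univ _)
    rw [Finset.card_univ, Finset.sum_congr rfl (fun z _ => hfibc z), Finset.sum_const,
      Finset.card_univ, smul_eq_mul] at this
    exact this
  have hm : Δ.card = Δb.card * e := by
    have := Finset.card_eq_sum_card_fiberwise (f := q) (s := Δ) (t := Δb)
      (fun p hp => (hmemb _).mpr ⟨p, hp, rfl⟩)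
    have h2 : ∀ z ∈ Δb, (Δ.filter (fun p => q p = z)).card = e := by
      intro z hz
      rw [← hfibc z]
      congr 1
      ext p
      simp only [Finset.mem_filter, Finset.mem_univ, true_and, and_iff_right_iff_imp]
      intro hp
      obtain ⟨r, hr, hrz⟩ := (hmemb _).mp hz
      exact hsat r hr p (hp.trans hrz.symm)
    rw [Finset.sum_congr rfl h2, Finset.sum_const, smul_eq_mul] at this
    exact this
  have hfc : 2 * Δb.card < Fintype.card Ωb := by
    rw [hn, hm, ← mul_assoc] at hΔ2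
    exact Nat.lt_of_mul_lt_mul_right hΔ2
  -- the action on the fibres contains the alternating group
  have hAlt := main_primitive hprim Δb hcb hfc hJb
  have hfive : 5 ≤ Fintype.card Ωb := by omega
  have hliftEq : ∀ g g' : G, (∀ z : Ωb, g • z = g' • z) → ∀ p : Ω, g • p = g' • p := by
    intro g g' h p
    have := hfaith (g'⁻¹ * g) (fun z => by rw [mul_smul, h, inv_smul_smul]) p
    rw [mul_smul, inv_smul_eq_iff] at this
    exact this
  -- the basic commutator
  obtain ⟨z₁, hz₁, z₂, hz₂, hz₁₂⟩ := Finset.one_lt_card.mp (show 1 < Δb.card by omega)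
  obtain ⟨x, hx, hxz⟩ : ∃ x : G, (∀ p, p ∉ Δ → x • p = p) ∧ x • z₁ = z₂ := by
    obtain ⟨r, hr, rfl⟩ := (hmemb _).mp hz₁
    obtain ⟨r', hr', rfl⟩ := (hmemb _).mp hz₂
    obtain ⟨h, hh, hhr⟩ := hJ r hr r' hr'
    exact ⟨h, hh, by rw [← hq, hhr]⟩
  have hxpres := hpres x hx
  have hdisj : Disjoint (Δb.erase z₁) (Δbᶜ) := by
    rw [Finset.disjoint_left]
    intro v hv hv'
    exact (Finset.mem_compl.mp hv') (Finset.mem_of_mem_erase hv)
  obtain ⟨σ, hσs, hσt, hσA⟩ := exists_even_move (Δb.erase z₁) (Δbᶜ) z₁ hdisj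
    (by
      rw [Finset.card_erase_of_mem hz₁, Finset.card_compl]
      omega)
    (Finset.notMem_erase _ _)
    (fun h => (Finset.mem_compl.mp h) hz₁)
  obtain ⟨g, hg⟩ := hAlt σ hσs
  have hgz : ∀ z : Ωb, g • z = σ z := fun z => by rw [← hg]; rfl
  have hgz₁ : g • z₁ = z₁ := by rw [hgz, hσt]
  have hinter : ∀ w : Ωb, w ∈ Δb → g⁻¹ • w ∈ Δb → w = z₁ := by
    intro w hw hw'
    by_contra hne
    have hne' : g⁻¹ • w ≠ z₁ := by
      intro h
      apply hne
      rw [← hgz₁, ← h, smul_inv_smul]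
    have h1 := hσA _ (Finset.mem_erase.mpr ⟨hne', hw'⟩)
    rw [← hgz, smul_inv_smul] at h1
    exact (Finset.mem_compl.mp h1) hw
  let y : G := g * x * g⁻¹
  have hyS : ∀ p, p ∉ g • Δ → y • p = p := by
    intro p hp
    rw [mem_smul_iff] at hp
    simp only [y, mul_smul]
    rw [hx _ hp, smul_inv_smul]
  have hypres : ∀ p ∈ g • Δ, y⁻¹ • p ∈ g • Δ := by
    intro p hp
    rw [mem_smul_iff] at hp ⊢
    have : g⁻¹ • (y⁻¹ • p) = x⁻¹ • (g⁻¹ • p) := by
      simp only [y, mul_inv_rev, inv_inv, mul_smul, inv_smul_smul]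
    rw [this]
    exact hinvpres x hx _ hp
  have hxpres' : ∀ p ∈ Δ, x⁻¹ • p ∈ Δ := hinvpres x hx
  let c : G := x * y * x⁻¹ * y⁻¹
  have hxbar : ∀ z, z ∉ Δb → x • z = z := by
    intro z hz
    obtain ⟨v, rfl⟩ := hsurj z
    rw [← hq, hx v (hnot v hz)]
  have hybar : ∀ z, g⁻¹ • z ∉ Δb → y • z = z := by
    intro z hz
    simp only [y, mul_smul]
    rw [hxbar _ hz, smul_inv_smul]
  obtain ⟨hsupp, h3c⟩ := three_cycle_comm (toPerm x) (toPerm y) z₁
    (by
      intro p hp hp'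
      apply hinter p
      · by_contra hcon
        exact hp (hxbar p hcon)
      · by_contra hcon
        exact hp' (hybar p hcon))
    (by
      show x • z₁ ≠ z₁
      rw [hxz]
      exact Ne.symm hz₁₂)
    (by
      show y • z₁ ≠ z₁
      have hgi : g⁻¹ • z₁ = z₁ := by rw [inv_smul_eq_iff, hgz₁]
      simp only [y, mul_smul]
      rw [hgi, hxz]
      intro h
      rw [← hgz₁] at h
      exact hz₁₂ (smul_left_cancel g h).symm)
  have hcbar : ∀ z : Ωb, c • z = (toPerm x * toPerm y * (toPerm x)⁻¹ * (toPerm y)⁻¹ : Perm Ωb) z := by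
    intro z
    simp only [c, mul_smul]
    rfl
  -- `c` fixes pointwise the fibres it does not move
  have hC0 : ∀ p : Ω, c • q p = q p → c • p = p := by
    intro p hp
    have hns : q p ∉ (toPerm x * toPerm y * (toPerm x)⁻¹ * (toPerm y)⁻¹ : Perm Ωb).support := by
      rw [Perm.mem_support, not_not, ← hcbar]
      exact hp
    rw [hsupp] at hns
    simp only [Finset.mem_insert, Finset.mem_singleton, not_or] at hns
    obtain ⟨hn1, hn2, hn3⟩ := hns
    have hinterp : ∀ r : Ω, r ∈ Δ → r ∈ g • Δ → q r = z₁ := by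
      intro r hr hr'
      rw [mem_smul_iff] at hr'
      apply hinter
      · exact (hmemb _).mpr ⟨r, hr, rfl⟩
      · rw [← hq]
        exact (hmemb _).mpr ⟨_, hr', rfl⟩
    exact comm_fix x y (Δ : Set Ω) ((g • Δ : Finset Ω) : Set Ω)
      (fun r hr => hx r (by exact_mod_cast hr))
      (fun r hr => hyS r (by exact_mod_cast hr))
      (fun r hr => by exact_mod_cast hxpres' r (by exact_mod_cast hr))
      (fun r hr => by exact_mod_cast hypres r (by exact_mod_cast hr))
      p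
      (fun hh => hn1 (hinterp p (by exact_mod_cast hh.1) (by exact_mod_cast hh.2)))
      (fun hh => hn2 (by
        have h1 := hinterp _ (by exact_mod_cast hh.1) (by exact_mod_cast hh.2)
        rw [hq, inv_smul_eq_iff] at h1
        exact h1))
      (fun hh => hn3 (by
        have h1 := hinterp _ (by exact_mod_cast hh.1) (by exact_mod_cast hh.2)
        rw [hq, inv_smul_eq_iff] at h1
        exact h1))
  -- every three-cycle does the same
  have hC1 : ∀ w : G, (toPerm w : Perm Ωb).IsThreeCycle → ∀ p : Ω, w • q p = q p → w • p = p := by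
    intro w hw p hp
    have hcm : (toPerm c : Perm Ωb) = toPerm x * toPerm y * (toPerm x)⁻¹ * (toPerm y)⁻¹ := by
      ext z
      exact hcbar z
    have h3c' : (toPerm c : Perm Ωb).IsThreeCycle := by
      rw [hcm]
      exact h3c
    have hconj := alternatingGroup.isThreeCycle_isConj (α := Ωb)
      (σ := ⟨toPerm c, h3c'.mem_alternatingGroup⟩) (τ := ⟨toPerm w, hw.mem_alternatingGroup⟩)
      (by rw [Nat.card_eq_fintype_card]; exact hfive) h3c' hw
    obtain ⟨s, hs⟩ := isConj_iff.mp hconj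
    obtain ⟨g', hg'⟩ := hAlt s.1 (Equiv.Perm.mem_alternatingGroup.mp s.2)
    have hg's : ∀ z : Ωb, g' • z = s.1 z := fun z => by rw [← hg']; rfl
    have hs' : ∀ z : Ωb, s.1 ((toPerm c : Perm Ωb) ((s.1)⁻¹ z)) = w • z := by
      intro z
      have := congrArg (fun t => (t.1 : Perm Ωb) z) hs
      exact this
    have hwg : ∀ z : Ωb, (g' * c * g'⁻¹) • z = w • z := by
      intro z
      rw [← hs' z]
      simp only [mul_smul]
      rw [hg's]
      congr 2
      have : g'⁻¹ • z = (s.1)⁻¹ z := by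
        rw [inv_smul_eq_iff, hg's]
        simp
      rw [this]
    have hwp := hliftEq _ _ hwg p
    have hfix : c • q (g'⁻¹ • p) = q (g'⁻¹ • p) := by
      rw [hq]
      have h4 := hwg (q p)
      rw [hp] at h4
      simp only [mul_smul] at h4
      exact (smul_eq_iff_eq_inv_smul g').mp h4
    have h5 := hC0 _ hfix
    rw [← hwp]
    simp only [mul_smul]
    rw [h5, smul_inv_smul]
  -- every even permutation fixing a fibre fixes it pointwise
  have hC2 : ∀ w : G, sign (toPerm w : Perm Ωb) = 1 → ∀ p : Ω, w • q p = q p → w • p = p := by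
    intro w hw p hp
    let s : Finset Ωb := {q p}ᶜ
    let τ : Perm Ωb := toPerm w
    have hτs : τ.support ⊆ s := by
      intro v hv
      rw [Perm.mem_support] at hv
      simp only [s, Finset.mem_compl, Finset.mem_singleton]
      rintro rfl
      exact hv hp
    have hτalt : τ ∈ alternatingGroup Ωb := Equiv.Perm.mem_alternatingGroup.mpr hw
    obtain ⟨k, hk⟩ := (alternatingGroup.mem_range_ofSubtype_iff s ⟨τ, hτalt⟩).mpr hτs
    have hk2 : (Perm.ofSubtype k.1 : Perm Ωb) = τ := congrArg Subtype.val hk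
    have hkc : k.1 ∈ Subgroup.closure {σ : Perm s | IsThreeCycle σ} := by
      rw [closure_three_cycles_eq_alternating]
      exact k.2
    have key : ∀ c' : Perm s, c' ∈ Subgroup.closure {σ : Perm s | IsThreeCycle σ} →
        ∃ w' : G, (toPerm w' : Perm Ωb) = Perm.ofSubtype c' ∧ ∀ p', q p' = q p → w' • p' = p' := by
      intro c' hc'
      induction hc' using Subgroup.closure_induction with
      | mem c' hc' =>
        have h3 : (Perm.ofSubtype c' : Perm Ωb).IsThreeCycle := by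
          have hc3 : IsThreeCycle c' := hc'
          rw [IsThreeCycle, cycleType_ofSubtype]
          exact hc3
        obtain ⟨w', hw'⟩ := hAlt _ h3.sign
        refine ⟨w', hw', ?_⟩
        intro p' hp'
        apply hC1 w' (by rw [hw']; exact h3)
        have : (toPerm w' : Perm Ωb) (q p) = q p := by
          rw [hw']
          apply Perm.ofSubtype_apply_of_not_mem
          simp [s]
        rw [hp']
        exact this
      | one =>
        exact ⟨1, by ext; simp, by simp⟩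
      | mul a b _ _ ha hb =>
        obtain ⟨w₁, h₁, h₁'⟩ := ha
        obtain ⟨w₂, h₂, h₂'⟩ := hb
        refine ⟨w₁ * w₂, ?_, ?_⟩
        · rw [map_mul, ← h₁, ← h₂]
          ext z
          simp [mul_smul]
        · intro p' hp'
          rw [mul_smul, h₂' p' hp', h₁' p' hp']
      | inv a _ ha =>
        obtain ⟨w₁, h₁, h₁'⟩ := ha
        refine ⟨w₁⁻¹, ?_, ?_⟩
        · rw [map_inv, ← h₁]
          ext z
          simp
        · intro p' hp'
          rw [inv_smul_eq_iff, h₁' p' hp']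
    obtain ⟨w', h1, h2⟩ := key k.1 hkc
    have hsame : ∀ z : Ωb, w • z = w' • z := by
      intro z
      have : (toPerm w' : Perm Ωb) z = τ z := by rw [h1, hk2]
      exact this.symm
    rw [hliftEq w w' hsame p, h2 p rfl]
  -- the final contradiction
  have hfibpts : ∀ z : Ωb, ∃ v v', v ≠ v' ∧ q v = z ∧ q v' = z := by
    intro z
    obtain ⟨g₁, hg₁⟩ := hfib z
    refine ⟨g₁ • u, g₁ • u', fun h => huu' (smul_left_cancel g₁ h), ?_, ?_⟩
    · rw [hq, hg₁]
    · rw [hq, ← hquu', hg₁]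
  obtain ⟨u₁, u₁', hne₁, hu₁, hu₁'⟩ := hfibpts z₁
  obtain ⟨r, hr, hrz⟩ := (hmemb _).mp hz₁
  have hu₁Δ : u₁ ∈ Δ := hsat r hr u₁ (hu₁.trans hrz.symm)
  have hu₁'Δ : u₁' ∈ Δ := hsat r hr u₁' (hu₁'.trans hrz.symm)
  obtain ⟨h, hh, hhu⟩ := hJ u₁ hu₁Δ u₁' hu₁'Δ
  have hodd1 : sign (toPerm h : Perm Ωb) ≠ 1 := by
    intro hs
    have := hC2 h hs u₁ (by rw [← hq, hhu, hu₁, hu₁'])
    rw [hhu] at this
    exact hne₁ this.symm
  obtain ⟨z', hz'⟩ : ∃ z', z' ∉ Δb := by
    by_contra hcon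
    push Not at hcon
    have : Δb = Finset.univ := Finset.eq_univ_iff_forall.mpr hcon
    rw [this, Finset.card_univ] at hfc
    omega
  obtain ⟨v, v', hvv', hv, hv'⟩ := hfibpts z'
  have hvΔ : v ∉ Δ := hnot v (by rw [hv]; exact hz')
  have hv'Δ : v' ∉ Δ := hnot v' (by rw [hv']; exact hz')
  obtain ⟨g₀, hg₀⟩ := htrans.exists_smul_eq v v'
  have hodd2 : sign (toPerm g₀ : Perm Ωb) ≠ 1 := by
    intro hs
    have := hC2 g₀ hs v (by rw [← hq, hg₀, hv, hv'])
    rw [hg₀] at this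
    exact hvv' this.symm
  have hmul : (toPerm (h * g₀) : Perm Ωb) = toPerm h * toPerm g₀ := by
    ext z
    simp [mul_smul]
  have hev : sign (toPerm (h * g₀) : Perm Ωb) = 1 := by
    rw [hmul, map_mul]
    rcases Int.units_eq_one_or (sign (toPerm h : Perm Ωb)) with h1 | h1
    · exact absurd h1 hodd1
    rcases Int.units_eq_one_or (sign (toPerm g₀ : Perm Ωb)) with h2 | h2
    · exact absurd h2 hodd2
    rw [h1, h2]
    rfl
  have hfinal := hC2 (h * g₀) hev v (by
    rw [mul_smul, ← hq, hg₀, ← hq, hh v' hv'Δ, hv, hv'])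
  rw [mul_smul, hg₀, hh v' hv'Δ] at hfinal
  exact hvv' hfinal.symm

end imprimitive

end Cfsg.Agent.Lib.Transfer.Marggraf
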