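import Mathlib

/-!
# A transfer lemma for a normal subgroup `H` of a subgroup `M`

Let `H ≤ M ≤ G`, `H` normal in `M` with `M/H` abelian.  If conjugates of `H` meet `M` inside `H`
and elements of `M` outside `H` are never conjugated from `M` by elements outside `M`,
the transfer `G → M/H` restricts to the quotient map on `M`.
-/

set_option autoImplicit false

namespace Cfsg.Agent.Lib.Transfer.MaxNormal

open Subgroup MulAction

variable {G : Type*} [Group G] [Finite G]

/-- Transfer of the quotient map `M → M/H` in terms of hypotheses (i) and (ii). -/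
theorem exists_normal_inf_eq (M H : Subgroup G) (hHM : H ≤ M)
    (hn : (H.subgroupOf M).Normal) (hab : ∀ a b : M ⧸ H.subgroupOf M, a * b = b * a)
    (h1 : ∀ (t z : G), z ∈ H → t⁻¹ * z * t ∈ M → t⁻¹ * z * t ∈ H)
    (h2 : ∀ (t z : G), t ∉ M → z ∈ M → z ∉ H → t⁻¹ * z * t ∉ M) :
    ∃ N : Subgroup G, N.Normal ∧ N ⊓ M = H ∧ commutator G ≤ N := by
  classical
  letI : CommGroup (M ⧸ H.subgroupOf M) :=
    { (inferInstance : Group (M ⧸ H.subgroupOf M)) with mul_comm := hab }
  let ϕ : M →* (M ⧸ H.subgroupOf M) := QuotientGroup.mk' (H.subgroupOf M)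
  have hϕ : ∀ y : M, ϕ y = 1 ↔ (y : G) ∈ H := by
    intro y
    simp only [ϕ, QuotientGroup.mk'_apply, QuotientGroup.eq_one_iff, Subgroup.mem_subgroupOf]
  let V : G →* (M ⧸ H.subgroupOf M) := ϕ.transfer
  have hV : ∀ x : M, V x = ϕ x := by
    intro x
    letI : Fintype (Quotient (orbitRel (zpowers (x : G)) (G ⧸ M))) := Fintype.ofFinite _
    by_cases hxH : (x : G) ∈ H
    · have : V x = 1 := by
        simp only [V]
        rw [MonoidHom.transfer_eq_prod_quotient_orbitRel_zpowers_quot]
        apply Finset.prod_eq_one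
        intro q _
        rw [hϕ]
        apply h1 _ _ (H.pow_mem hxH _)
        exact QuotientGroup.out_conj_pow_minimalPeriod_mem M (x : G) q.out
      rw [this, ((hϕ x).2 hxH)]
    · simp only [V]
      rw [MonoidHom.transfer_eq_prod_quotient_orbitRel_zpowers_quot]
      let q₀ : Quotient (orbitRel (zpowers (x : G)) (G ⧸ M)) :=
        Quotient.mk'' ((1 : G) : G ⧸ M)
      have hq₀ : (q₀.out : G ⧸ M) = ((1 : G) : G ⧸ M) := by
        have h := Quotient.exact' (Quotient.out_eq' q₀)
        rw [orbitRel_apply] at h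
        obtain ⟨⟨z, hz⟩, hz2⟩ := h
        have hzM : z ∈ M := (Subgroup.zpowers_le.2 x.2) hz
        rw [← hz2]
        change ((z * 1 : G) : G ⧸ M) = _
        rw [mul_one, QuotientGroup.eq]
        simpa using hzM
      rw [Finset.prod_eq_single q₀]
      · have htM : (q₀.out.out : G) ∈ M := by
          have h3 : ((q₀.out.out : G) : G ⧸ M) = ((1 : G) : G ⧸ M) := by
            rw [QuotientGroup.out_eq', hq₀]
          rw [QuotientGroup.eq] at h3
          simpa using h3
        have hper : Function.minimalPeriod ((x : G) • ·) q₀.out = 1 := by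
          rw [Function.minimalPeriod_eq_one_iff_isFixedPt, hq₀]
          change ((x : G) • ((1 : G) : G ⧸ M)) = ((1 : G) : G ⧸ M)
          change (((x : G) * 1 : G) : G ⧸ M) = _
          rw [mul_one, QuotientGroup.eq]
          simpa using x.2
        have key : ∀ y : M, (y : G) = (q₀.out.out : G)⁻¹ * (x : G) ^ 1 * q₀.out.out → ϕ y = ϕ x := by
          intro y hy
          have : y = (⟨q₀.out.out, htM⟩ : M)⁻¹ * x * ⟨q₀.out.out, htM⟩ := by
            apply Subtype.ext
            rw [hy, pow_one]
            rfl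
          rw [this, map_mul, map_mul, map_inv, mul_comm, ← mul_assoc, mul_comm,
            mul_inv_cancel, mul_one]
        apply key
        simp only [hper]
      · intro q _ hq
        rw [hϕ]
        have htM : (q.out.out : G) ∉ M := by
          intro htM
          apply hq
          have h3 : (q.out : G ⧸ M) = ((1 : G) : G ⧸ M) := by
            rw [← QuotientGroup.out_eq' q.out, QuotientGroup.eq]
            simpa using htM
          rw [← Quotient.out_eq' q, h3]
        have hy := QuotientGroup.out_conj_pow_minimalPeriod_mem M (x : G) q.out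
        have hz : (x : G) ^ Function.minimalPeriod ((x : G) • ·) q.out ∈ H := by
          by_contra hz
          exact h2 _ _ htM (M.pow_mem x.2 _) hz hy
        exact h1 _ _ hz hy
      · intro h
        exact absurd (Finset.mem_univ _) h
  refine ⟨V.ker, inferInstance, ?_, ?_⟩
  · ext x
    constructor
    · rintro ⟨hx1, hx2⟩
      have := hV ⟨x, hx2⟩
      have hx1' : V x = 1 := hx1
      have h3 : V x = ϕ ⟨x, hx2⟩ := this
      rw [hx1'] at h3
      exact (hϕ _).1 h3.symm
    · intro hx
      refine ⟨?_, hHM hx⟩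
      change V x = 1
      have h3 : V x = ϕ ⟨x, hHM hx⟩ := hV ⟨x, hHM hx⟩
      rw [h3]
      exact (hϕ _).2 hx
  · rw [_root_.commutator_def, Subgroup.commutator_le]
    intro a _ b _
    simp only [MonoidHom.mem_ker, commutatorElement_def, map_mul, map_inv]
    rw [mul_comm (V a) (V b)]
    group

theorem mem_conj {H : Subgroup G} {g x : G} :
    x ∈ H.map (MulAut.conj g).toMonoidHom ↔ g⁻¹ * x * g ∈ H := by
  constructor
  · rintro ⟨h, hh, rfl⟩
    simpa [MulAut.conj_apply, mul_assoc] using hh
  · intro h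
    exact ⟨_, h, by simp [MulAut.conj_apply, mul_assoc]⟩

theorem card_conj (H : Subgroup G) (g : G) :
    Nat.card (H.map (MulAut.conj g).toMonoidHom) = Nat.card H :=
  Subgroup.card_map_of_injective (MulAut.conj g).injective

theorem mem_normalizer_of_conj_le {H : Subgroup G} {g : G}
    (hle : H.map (MulAut.conj g).toMonoidHom ≤ H) : g ∈ normalizer (H : Set G) :=
  Subgroup.mem_normalizer_iff_map_conj_eq.2 (Subgroup.eq_of_le_of_card_ge hle (card_conj H g).ge)

theorem mem_normalizer_of_le_conj {H : Subgroup G} {g : G}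
    (hle : H ≤ H.map (MulAut.conj g).toMonoidHom) : g ∈ normalizer (H : Set G) :=
  Subgroup.mem_normalizer_iff_map_conj_eq.2
    (Subgroup.eq_of_le_of_card_ge hle (card_conj H g).le).symm

theorem comm_of_coatom {X : Type*} [Group X] (K : Subgroup X) [K.Normal] (hK : IsCoatom K) :
    ∀ a b : X ⧸ K, a * b = b * a := by
  intro a b
  by_cases ha : a = 1
  · simp [ha]
  obtain ⟨a', rfl⟩ := QuotientGroup.mk_surjective a
  obtain ⟨b', rfl⟩ := QuotientGroup.mk_surjective b
  have hlt : K < (Subgroup.zpowers (a' : X ⧸ K)).comap (QuotientGroup.mk' K) := by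
    refine lt_of_le_of_ne ?_ ?_
    · intro k hk
      have : ((k : X) : X ⧸ K) = 1 := (QuotientGroup.eq_one_iff k).2 hk
      simp [this]
    · intro h
      apply ha
      have : a' ∈ (Subgroup.zpowers (a' : X ⧸ K)).comap (QuotientGroup.mk' K) :=
        Subgroup.mem_zpowers _
      rw [← h] at this
      exact (QuotientGroup.eq_one_iff a').2 this
  have htop := hK.2 _ hlt
  have hb : b' ∈ (Subgroup.zpowers (a' : X ⧸ K)).comap (QuotientGroup.mk' K) := by
    rw [htop]; trivial
  obtain ⟨k, hk⟩ := hb
  simp only [QuotientGroup.mk'_apply] at hk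
  rw [← hk]
  exact ((Commute.refl _).zpow_left k).symm.eq

theorem le_of_coatom {M H : Subgroup G} (hmaxH : IsCoatom (H.subgroupOf M))
    {x : G} (hxM : x ∈ M) (hxH : x ∉ H) {L : Subgroup G} (hHL : H ≤ L) (hxL : x ∈ L) : M ≤ L := by
  have hlt : H.subgroupOf M < L.subgroupOf M := by
    refine lt_of_le_of_ne (fun y hy => ?_) ?_
    · rw [Subgroup.mem_subgroupOf] at hy ⊢
      exact hHL hy
    · intro h
      have : (⟨x, hxM⟩ : M) ∈ L.subgroupOf M := by
        rw [Subgroup.mem_subgroupOf]; exact hxL
      rw [← h, Subgroup.mem_subgroupOf] at this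
      exact hxH this
  have htop := hmaxH.2 _ hlt
  intro y hy
  have : (⟨y, hy⟩ : M) ∈ L.subgroupOf M := by rw [htop]; trivial
  rwa [Subgroup.mem_subgroupOf] at this

/-- Under the coatom hypotheses, an element `x ∈ M \ H` with `t⁻¹ x t ∈ M` forces
`H ⊔ t H t⁻¹` to be normal once it is not in `M`. -/
theorem normal_sup_conj {M H : Subgroup G} (hmaxM : IsCoatom M) (hmaxH : IsCoatom (H.subgroupOf M))
    (hHM : H ≤ M) (hN : M ≤ normalizer (H : Set G))
    {x t : G} (hxM : x ∈ M) (hxH : x ∉ H) (htx : t⁻¹ * x * t ∈ M)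
    (hT : ¬ H ⊔ H.map (MulAut.conj t).toMonoidHom ≤ M) :
    (H ⊔ H.map (MulAut.conj t).toMonoidHom).Normal := by
  set T := H ⊔ H.map (MulAut.conj t).toMonoidHom with hTdef
  have hx1 : x ∈ normalizer (T : Set G) := by
    have h1 : x ∈ normalizer (H : Set G) := hN hxM
    have h2 : x ∈ normalizer ((H.map (MulAut.conj t).toMonoidHom : Subgroup G) : Set G) := by
      rw [Subgroup.mem_normalizer_iff]
      intro y
      rw [mem_conj, mem_conj]
      have h4 := (Subgroup.mem_normalizer_iff.1 (hN htx)) (t⁻¹ * y * t)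
      rw [h4]
      have e : (t⁻¹ * x * t) * (t⁻¹ * y * t) * (t⁻¹ * x * t)⁻¹ = t⁻¹ * (x * y * x⁻¹) * t := by
        group
      rw [e]
    rw [Subgroup.mem_normalizer_iff_map_conj_eq] at h1 h2 ⊢
    rw [hTdef, Subgroup.map_sup]
    rw [h1, h2]
  have hHN : H ≤ normalizer (T : Set G) := le_sup_left.trans Subgroup.le_normalizer
  have hMN : M ≤ normalizer (T : Set G) := le_of_coatom hmaxH hxM hxH hHN hx1
  have hTN : T ≤ normalizer (T : Set G) := Subgroup.le_normalizer
  have hlt : M < normalizer (T : Set G) := by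
    refine lt_of_le_of_ne hMN ?_
    intro h
    apply hT
    rw [h]
    exact hTN
  have := hmaxM.2 _ hlt
  exact Subgroup.normalizer_eq_top_iff.1 this

end Cfsg.Agent.Lib.Transfer.MaxNormal
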